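import Cfsg.Agent.Lib.ConstDiff.Burnside
import Cfsg.Agent.Lib.FTCons.Kantor
import Cfsg.Agent.Lib.AutPSL.FieldGalois

/-!
# The automizer of the Sylow 2-subgroup

The normalizer acts semilinearly, so its elements fixing `x` act as field automorphisms.
-/

set_option autoImplicit false
set_option linter.unusedSectionVars false
set_option linter.style.haveILetI false

noncomputable section

namespace CfsgLib.ConstDiff

open Cfsg
open scoped Classical

universe u

variable {G : Type u} [Group G] [Fintype G] [hp2 : Fact (Nat.Prime 2)] {M : Ideal AlgInt}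
  {u : G} {k : ℂ} {T : Sylow 2 G} {x : G}

/-- The elements of the normalizer fixing `x`. -/
def stab (T : Sylow 2 G) (x : G) : Subgroup G :=
  Subgroup.normalizer ((T : Subgroup G) : Set G) ⊓ Subgroup.centralizer ({x} : Set G)

/-- The field automorphism attached to an element fixing `x`. -/
theorem Main.exists_galois (m : Main M u k T x) :
    ∃ (A : Type) (_ : Group A) (_ : Finite A) (n : ℕ) (ψ : stab T x →* A),
      Nat.card (T : Subgroup G) = 2 ^ n ∧ Nat.card A = n ∧
      (∀ h : stab T x, ψ h = 1 → ∀ t ∈ (T : Subgroup G), (h : G) * t * (h : G)⁻¹ = t) ∧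
      ∀ h : stab T x, ψ h ≠ 1 →
        (Nat.card {t : (T : Subgroup G) // (h : G) * t * (h : G)⁻¹ = t}) ^ 2 ≤
          Nat.card (T : Subgroup G) := by
  set N := Subgroup.normalizer ((T : Subgroup G) : Set G) with hN
  letI : CommGroup (T : Subgroup G) :=
    { (inferInstance : Group (T : Subgroup G)) with
      mul_comm := fun a b => Subtype.ext (m.ab _ a.2 _ b.2) }
  let V := Additive (T : Subgroup G)
  letI : Module (ZMod 2) V := AddCommGroup.zmodModule fun v => by
    rw [two_nsmul]
    exact congrArg Additive.ofMul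
      (Subtype.ext (m.el _ (Additive.toMul v).2) : Additive.toMul v * Additive.toMul v = 1)
  letI : DistribMulAction N V :=
    { smul := fun h v => Additive.ofMul ⟨(h : G) * ((Additive.toMul v : (T : Subgroup G)) : G) * (h : G)⁻¹,
        (Subgroup.mem_normalizer_iff.1 h.2 _).1 (Additive.toMul v).2⟩
      one_smul := fun v => by
        show Additive.ofMul _ = v
        refine Additive.toMul.injective (Subtype.ext ?_)
        simp
      mul_smul := fun a b v => by
        show Additive.ofMul _ = Additive.ofMul _
        refine congrArg Additive.ofMul (Subtype.ext ?_)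
        show (a : G) * b * _ * ((a : G) * b)⁻¹ = (a : G) * ((b : G) * _ * (b : G)⁻¹) * (a : G)⁻¹
        group
      smul_zero := fun a => by
        show Additive.ofMul _ = (0 : V)
        refine congrArg Additive.ofMul (Subtype.ext ?_)
        simp
      smul_add := fun a v w => by
        show Additive.ofMul _ = Additive.ofMul _
        refine congrArg Additive.ofMul (Subtype.ext ?_)
        show (a : G) * (((Additive.toMul v : (T : Subgroup G)) : G) * ((Additive.toMul w : (T : Subgroup G)) : G)) * (a : G)⁻¹ =
          (a : G) * _ * (a : G)⁻¹ * ((a : G) * _ * (a : G)⁻¹)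
        group }
  have hsm : ∀ (h : N) (v : V), ((Additive.toMul (h • v) : (T : Subgroup G)) : G) =
      (h : G) * ((Additive.toMul v : (T : Subgroup G)) : G) * (h : G)⁻¹ := fun _ _ => rfl
  haveI : Group.IsSolvable N := by
    set A' := (T : Subgroup G).subgroupOf N
    haveI : A'.Normal := Subgroup.normal_in_normalizer
    refine isSolvable_of_normal A' (Group.isSolvable_of_comm fun c d =>
      Subtype.ext (Subtype.ext (m.ab _ c.2 _ d.2))) ?_
    refine isSolvable_of_odd_card fun h => T.not_dvd_index ?_
    exact dvd_trans h (Subgroup.relIndex_dvd_index_of_le Subgroup.le_normalizer)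
  set vx : V := Additive.ofMul ⟨x, m.xT⟩ with hvx
  have hne : ∀ v : V, v ≠ 0 → orderOf ((Additive.toMul v : (T : Subgroup G)) : G) = 2 := fun v hv =>
    orderOf_eq_prime (by rw [pow_two, m.el _ (Additive.toMul v).2]) fun e =>
      hv (Additive.toMul.injective (Subtype.ext e))
  have hvx0 : vx ≠ 0 := fun e => by
    have h1 := congrArg (fun v : V => ((Additive.toMul v : (T : Subgroup G)) : G)) e
    simp [vx] at h1
    have := m.xo
    rw [h1, orderOf_one] at this
    omega
  haveI : Nontrivial V := ⟨⟨vx, 0, hvx0⟩⟩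
  have htr : ∀ v w : V, v ≠ 0 → w ≠ 0 → ∃ h : N, h • v = w ∨ h • v = -w := by
    intro v w hv hw
    obtain ⟨g, hg⟩ := isConj_iff.1 ((m.isConjX _ (hne v hv)).trans (m.isConjX _ (hne w hw)).symm)
    obtain ⟨n, hn, he⟩ := CfsgLib.AbelTwo.fusion T m.ab (Additive.toMul v).2
      (hg.symm ▸ (Additive.toMul w).2)
    exact ⟨⟨n, hn⟩, Or.inl (Additive.toMul.injective (Subtype.ext ((hsm _ _).trans (he.trans hg))))⟩
  obtain ⟨n, hn⟩ := T.2.exists_card_eq
  rcases CfsgLib.FTCons.Kantor.semilinear_of_transitive (p := 2) (V := V) (H := N) htr with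
    ⟨F, iF, iFF, e, he⟩ | hex
  swap
  · exfalso
    have h2 : 2 ∣ Nat.card V := by
      show 2 ∣ Nat.card (T : Subgroup G)
      rw [hn]
      refine dvd_pow_self 2 fun e => ?_
      have := m.four
      rw [hn, e, pow_zero] at this
      omega
    simp only [Set.mem_insert_iff, Set.mem_singleton_iff] at hex
    omega
  have hcardF : Nat.card F = 2 ^ n := by
    rw [← Nat.card_congr e.toEquiv]; exact hn
  have hex0 : e vx ≠ 0 := fun h => hvx0 (e.injective (h.trans (map_zero e).symm))
  have key : ∀ h : stab T x, ∃ σ : F ≃+* F,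
      ∀ v : V, e ((⟨(h : G), h.2.1⟩ : N) • v) / e vx = σ (e v / e vx) := by
    intro h
    obtain ⟨a, σ, ha, hσ⟩ := he ⟨(h : G), h.2.1⟩
    have hfix : (⟨(h : G), h.2.1⟩ : N) • vx = vx := Additive.toMul.injective (Subtype.ext (by
      rw [hsm]
      show (h : G) * x * (h : G)⁻¹ = x
      rw [Subgroup.mem_centralizer_singleton_iff.1 h.2.2, mul_inv_cancel_right]))
    refine ⟨σ, fun v => ?_⟩
    have h1 := hσ vx
    rw [hfix] at h1
    rw [hσ v, map_div₀]
    conv_lhs => rw [h1]
    rw [mul_div_mul_left _ _ ha]
  choose σ hσ using key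
  have hsurj : ∀ r : F, ∃ v : V, e v / e vx = r := fun r =>
    ⟨e.symm (r * e vx), by rw [AddEquiv.apply_symm_apply, mul_div_cancel_right₀ _ hex0]⟩
  let ψ : stab T x →* (F ≃+* F) :=
    { toFun := σ
      map_one' := RingEquiv.ext fun r => by
        obtain ⟨v, rfl⟩ := hsurj r
        rw [← hσ 1 v]
        have : (⟨((1 : stab T x) : G), (1 : stab T x).2.1⟩ : N) • v = v :=
          Additive.toMul.injective (Subtype.ext (by rw [hsm]; simp))
        rw [this]
        rfl
      map_mul' := fun a b => RingEquiv.ext fun r => by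
        obtain ⟨v, rfl⟩ := hsurj r
        rw [← hσ (a * b) v]
        show _ = σ a (σ b (e v / e vx))
        rw [← hσ b v, ← hσ a]
        have : (⟨((a * b : stab T x) : G), (a * b).2.1⟩ : N) • v =
            (⟨(a : G), a.2.1⟩ : N) • ((⟨(b : G), b.2.1⟩ : N) • v) :=
          Additive.toMul.injective (Subtype.ext (by
            simp only [hsm, Subgroup.coe_mul]
            group))
        rw [this] }
  have hψ : ∀ (h : stab T x) (v : V),
      e ((⟨(h : G), h.2.1⟩ : N) • v) / e vx = ψ h (e v / e vx) := hσ
  haveI : Finite F := Finite.of_fintype F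
  refine ⟨F ≃+* F, inferInstance, inferInstance, n, ψ, hn,
    CfsgLib.FieldGalois.card_ringAut (p := 2) (by rw [← Nat.card_eq_fintype_card, hcardF]),
    fun h hh t ht => ?_, fun h hh => ?_⟩
  · have h1 := hψ h (Additive.ofMul ⟨t, ht⟩)
    rw [hh] at h1
    have h2 : (⟨(h : G), h.2.1⟩ : N) • (Additive.ofMul ⟨t, ht⟩ : V) = Additive.ofMul ⟨t, ht⟩ := by
      refine e.injective ?_
      exact (div_left_inj' hex0).1 h1
    have h3 := congrArg (fun v : V => ((Additive.toMul v : (T : Subgroup G)) : G)) h2
    simp only [hsm] at h3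
    exact h3
  · -- a proper fixed field
    obtain ⟨r, hr⟩ : ∃ r : F, ψ h r ≠ r := by
      by_contra hc
      push Not at hc
      exact hh (RingEquiv.ext hc)
    set K := {s : F // ψ h s = s}
    have hle : Nat.card {t : (T : Subgroup G) // (h : G) * t * (h : G)⁻¹ = t} ≤ Nat.card K := by
      refine Nat.card_le_card_of_injective
        (fun t => ⟨e (Additive.ofMul t.1) / e vx, ?_⟩) fun s t hst => ?_
      · rw [← hψ h]
        congr 2
        exact Additive.toMul.injective (Subtype.ext ((hsm _ _).trans t.2))
      · have h1 := congrArg Subtype.val hst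
        simp only at h1
        rw [div_left_inj' hex0] at h1
        exact Subtype.ext (Additive.ofMul.injective (e.injective h1))
    refine le_trans (Nat.pow_le_pow_left hle 2) ?_
    rw [pow_two, ← Nat.card_prod, hn, ← hcardF]
    refine Nat.card_le_card_of_injective (fun p : K × K => (p.1 : F) + (p.2 : F) * r) ?_
    intro p q hpq
    simp only at hpq
    by_cases h2 : (p.2 : F) = (q.2 : F)
    · rw [h2, add_left_inj] at hpq
      exact Prod.ext (Subtype.ext hpq) (Subtype.ext h2)
    refine absurd ?_ hr
    have h3 : r = ((p.1 : F) - q.1) / ((q.2 : F) - p.2) := by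
      rw [eq_div_iff (sub_ne_zero.2 (Ne.symm h2))]
      linear_combination -hpq
    rw [h3, map_div₀, map_sub, map_sub, p.1.2, q.1.2, p.2.2, q.2.2]

end CfsgLib.ConstDiff
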