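import Cfsg.Agent.Lib.Blocks.BlockParts
import Cfsg.Agent.Lib.Blocks.ThirdMain
import Cfsg.Agent.Lib.Blocks.PrincipalSq
import Cfsg.Agent.Lib.Blocks.ClassCount
import Cfsg.Agent.Lib.Blocks12.Basic
import Cfsg.Agent.Lib.Chars17.IrrBasic
import Cfsg.Agent.Lib.Characters.Generalized
import Cfsg.Agent.Lib.Characters.Clifford
import Cfsg.Agent.Lib.PCore.Basic
import Cfsg.Agent.S0961

/-!
# A constant difference `χ 1 - χ u` on the principal 2-block

If `χ 1 - χ u = k` for all nonprincipal characters `χ` of the principal 2-block of a group without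
normal subgroup of odd order and `u ≠ 1`, the sum `θ` of these characters lives on the sections of
`1` and of the 2-part of `u`. Parity then forces one class of involutions.
-/

set_option autoImplicit false
set_option linter.unusedSectionVars false
set_option linter.style.haveILetI false

noncomputable section

namespace CfsgLib.ConstDiff

open Cfsg CfsgLib.Characters CfsgLib.Blocks
open scoped ComplexConjugate Classical

universe u

variable {G : Type u} [Group G] [Fintype G] [hp2 : Fact (Nat.Prime 2)] {M : Ideal AlgInt}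

/-- The degree. -/
def dg (χ : IrrCharacter G) : ℕ := charDegree (χ : G → ℂ)

theorem coe_dg (χ : IrrCharacter G) : (χ : G → ℂ) 1 = (dg χ : ℂ) :=
  (CfsgLib.Chars17.cast_irrDegree χ).symm

theorem dg_pos (χ : IrrCharacter G) : 0 < dg χ := CfsgLib.Chars17.irrDegree_pos χ

theorem dg_principal : dg (principalIrr G) = 1 := by
  have h := coe_dg (principalIrr G)
  rw [principalIrr_apply] at h
  exact_mod_cast h.symm

/-- The principal block as a finset. -/
def blockSet (M : Ideal AlgInt) : Finset (IrrCharacter G) :=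
  Finset.univ.filter (· ∈ principalBlock M G)

/-- Its nonprincipal members. -/
def rest (M : Ideal AlgInt) : Finset (IrrCharacter G) :=
  (blockSet M).erase (principalIrr G)

theorem principal_mem (hM : IsPModular 2 M) : principalIrr G ∈ blockSet M :=
  Finset.mem_filter.2 ⟨Finset.mem_univ _, principalIrr_mem hM⟩

theorem mem_rest {χ : IrrCharacter G} :
    χ ∈ rest M ↔ χ ≠ principalIrr G ∧ χ ∈ principalBlock M G := by
  simp [rest, blockSet]

theorem sum_blockSet (hM : IsPModular 2 M) (F : IrrCharacter G → ℂ) :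
    ∑ χ ∈ blockSet M, F χ = F (principalIrr G) + ∑ χ ∈ rest M, F χ :=
  (Finset.add_sum_erase _ _ (principal_mem hM)).symm

/-- The sum of the nonprincipal characters of the block. -/
def theta (M : Ideal AlgInt) : G → ℂ := ∑ χ ∈ rest (G := G) M, (χ : G → ℂ)

theorem theta_apply (g : G) : theta M g = ∑ χ ∈ rest (G := G) M, (χ : G → ℂ) g := by
  simp [theta, Finset.sum_apply]

/-- The sum of the nonprincipal degrees. -/
def th1 (G : Type u) [Group G] [Fintype G] (M : Ideal AlgInt) : ℕ := ∑ χ ∈ rest (G := G) M, dg χ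

theorem theta_one : theta M (1 : G) = (th1 G M : ℂ) := by
  rw [theta_apply, th1]
  push_cast
  exact Finset.sum_congr rfl fun χ _ => coe_dg χ

theorem isPPart_one (g : G) (hg : ¬ 2 ∣ orderOf g) : IsPPart 2 g 1 :=
  ⟨g, one_mul g, Commute.one_left g, ⟨0, by simp⟩, hg⟩

theorem isPPart_one_one : IsPPart 2 (1 : G) 1 := isPPart_one 1 (by simp)

theorem isPPart_self {x : G} (hx : ∃ k : ℕ, orderOf x = 2 ^ k) : IsPPart 2 x x :=
  ⟨1, mul_one x, Commute.one_right x, hx, by simp⟩

theorem isPPart_inv {g z : G} (h : IsPPart 2 g z) : IsPPart 2 g⁻¹ z⁻¹ := by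
  obtain ⟨y, hy, hc, ⟨j, hj⟩, hreg⟩ := h
  refine ⟨y⁻¹, ?_, hc.inv_inv, ⟨j, by rw [orderOf_inv, hj]⟩, by rwa [orderOf_inv]⟩
  rw [← mul_inv_rev, ← hc.eq, hy]

/-- Orthogonality with the degrees. -/
theorem sum_dg_mul (hM : IsPModular 2 M) {g z : G} (hg : IsPPart 2 g z) (hz : z ≠ 1) :
    ∑ χ ∈ blockSet (G := G) M, (dg χ : ℂ) * (χ : G → ℂ) g = 0 := by
  rw [← sum_block_eq_zero_of_not_isConj hM (isPBlock_principalBlock M) hg isPPart_one_one
    (fun h => hz (isConj_one_left.1 h))]
  exact Finset.sum_congr rfl fun χ _ => by rw [inv_one, coe_dg, mul_comm]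

/-- Orthogonality between two sections. -/
theorem sum_mul (hM : IsPModular 2 M) {g z h w : G} (hg : IsPPart 2 g z) (hh : IsPPart 2 h w)
    (hne : ¬ IsConj z w⁻¹) :
    ∑ χ ∈ blockSet (G := G) M, (χ : G → ℂ) g * (χ : G → ℂ) h = 0 := by
  rw [← sum_block_eq_zero_of_not_isConj hM (isPBlock_principalBlock M) hg (isPPart_inv hh) hne]
  exact Finset.sum_congr rfl fun χ _ => by rw [inv_inv]

/-- The sum of the squared degrees over the block is even. -/
theorem even_sum_sq (hM : IsPModular 2 M) (h2 : 2 ∣ Nat.card G) :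
    Odd (th1 G M) := by
  have h := CfsgLib.PrincipalSq.dvd_sum_sq hM h2 (isPBlock_principalBlock (G := G) M)
  have h' : 2 ∣ ∑ χ ∈ blockSet (G := G) M, dg χ ^ 2 := by
    refine h.trans (dvd_of_eq (Finset.sum_congr ?_ fun _ _ => rfl))
    ext
    simp [blockSet]
  rw [← Finset.add_sum_erase _ _ (principal_mem (G := G) hM), dg_principal] at h'
  rw [Nat.odd_iff]
  have e : (th1 G M) % 2 = (∑ χ ∈ rest (G := G) M, dg χ ^ 2) % 2 := by
    rw [th1, Finset.sum_nat_mod]
    conv_rhs => rw [Finset.sum_nat_mod]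
    congr 1
    refine Finset.sum_congr rfl fun χ _ => ?_
    rw [Nat.pow_mod]
    rcases Nat.mod_two_eq_zero_or_one (dg χ) with h0 | h0 <;> simp [h0]
  rw [e]
  have : rest (G := G) M = (blockSet M).erase (principalIrr G) := rfl
  rw [this]
  omega

/-- The hypothesis. -/
structure Hyp (M : Ideal AlgInt) (u : G) (k : ℂ) : Prop where
  hM : IsPModular 2 M
  core : pPrimeCore 2 G = ⊥
  ne : u ≠ 1
  eq : ∀ χ ∈ rest (G := G) M, (χ : G → ℂ) 1 - (χ : G → ℂ) u = k

variable {u : G} {k : ℂ}

theorem Hyp.val (h : Hyp M u k) {χ : IrrCharacter G} (hχ : χ ∈ rest M) :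
    (χ : G → ℂ) u = (dg χ : ℂ) - k := by
  have := h.eq χ hχ
  rw [coe_dg] at this
  linear_combination -this

theorem Hyp.even_card (h : Hyp M u k) : 2 ∣ Nat.card G := by
  by_contra hodd
  refine h.ne ?_
  have htop : pPrimeCore 2 G = ⊤ :=
    CfsgLib.PCore.pPrimeCore_eq_top_of_coprime
      (Nat.Coprime.symm ((Nat.prime_two.coprime_iff_not_dvd).2 hodd))
  have hu : u ∈ (⊥ : Subgroup G) := by rw [← h.core, htop]; exact Subgroup.mem_top u
  exact Subgroup.mem_bot.1 hu

theorem Hyp.th1_odd (h : Hyp M u k) : Odd (th1 G M) := even_sum_sq h.hM h.even_card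

/-- The difference does not vanish. -/
theorem Hyp.k_ne (h : Hyp M u k) : k ≠ 0 := by
  intro hk
  let N : Subgroup G := ⨅ χ ∈ blockSet (G := G) M, CfsgLib.Chars17.irrKer χ
  have hmem : ∀ g : G, g ∈ N ↔ ∀ χ ∈ blockSet (G := G) M, (χ : G → ℂ) g = (χ : G → ℂ) 1 := by
    intro g
    simp only [N, Subgroup.mem_iInf, CfsgLib.Chars17.mem_irrKer]
  haveI hNn : N.Normal := ⟨fun g hg x => by
    rw [hmem] at hg ⊢
    intro χ hχ
    rw [irr_isClassFunction χ g x]
    exact hg χ hχ⟩
  have hodd : ¬ 2 ∣ Nat.card N := by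
    intro hd
    obtain ⟨s, hs⟩ := exists_prime_orderOf_dvd_card' 2 hd
    have hs' : orderOf (s : G) = 2 := by rw [Subgroup.orderOf_coe, hs]
    have h0 := sum_dg_mul h.hM (isPPart_self ⟨1, by rw [hs', pow_one]⟩)
      (fun e => by rw [e, orderOf_one] at hs'; omega)
    rw [Finset.sum_congr rfl fun χ hχ => by rw [(hmem _).1 s.2 χ hχ, coe_dg]] at h0
    have h1 : ∑ χ ∈ blockSet (G := G) M, dg χ * dg χ = 0 := by exact_mod_cast h0
    rw [Finset.sum_eq_zero_iff] at h1
    have h2 := h1 _ (principal_mem h.hM)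
    rw [dg_principal] at h2
    simp at h2
  have hle : N ≤ pPrimeCore 2 G := CfsgLib.PCore.le_pPrimeCore_of_not_dvd hNn hodd
  rw [h.core] at hle
  refine h.ne (Subgroup.mem_bot.1 (hle ((hmem u).2 fun χ hχ => ?_)))
  by_cases hp : χ = principalIrr G
  · rw [hp, principalIrr_apply, principalIrr_apply]
  · rw [h.val (mem_rest.2 ⟨hp, (Finset.mem_filter.1 hχ).2⟩), hk, sub_zero, coe_dg]

/-- `θ` vanishes outside the sections of `1` and of the inverse of the 2-part of `u`. -/
theorem Hyp.theta_eq_zero (h : Hyp M u k) {x g z : G} (hx : IsPPart 2 u x) (hg : IsPPart 2 g z)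
    (hz : z ≠ 1) (hzx : ¬ IsConj z x⁻¹) : theta M g = 0 := by
  have e1 := sum_dg_mul h.hM hg hz
  have e2 := sum_mul h.hM hg hx hzx
  rw [sum_blockSet h.hM] at e1 e2
  rw [dg_principal, principalIrr_apply, Nat.cast_one, one_mul] at e1
  rw [principalIrr_apply, principalIrr_apply, one_mul] at e2
  have e3 : k * theta M g = 0 := by
    rw [theta_apply, Finset.mul_sum]
    calc ∑ χ ∈ rest (G := G) M, k * (χ : G → ℂ) g
        = ∑ χ ∈ rest (G := G) M, ((dg χ : ℂ) * (χ : G → ℂ) g - (χ : G → ℂ) g * (χ : G → ℂ) u) :=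
          Finset.sum_congr rfl fun χ hχ => by rw [h.val hχ]; ring
      _ = 0 := by rw [Finset.sum_sub_distrib]; linear_combination e1 - e2
  exact (mul_eq_zero.1 e3).resolve_left h.k_ne

theorem isCharacter_theta : IsCharacter G (theta (G := G) M) :=
  isCharacter_sum _ fun χ _ => irr_isCharacter χ

/-- A character summed over a subgroup is divisible by its order. -/
theorem exists_sum_subgroup {φ : G → ℂ} (hφ : IsCharacter G φ) (U : Subgroup G) :
    ∃ m : ℕ, ∑ g : U, φ g = (Nat.card U : ℂ) * m := by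
  obtain ⟨m, hm⟩ := classInner_char_nat (CfsgLib.Clifford.isCharacter_subtype hφ U)
    (isCharacter_one (G := U))
  refine ⟨m, ?_⟩
  rw [← hm, classInner, ← mul_assoc, mul_inv_cancel₀ (Nat.cast_ne_zero.2 Nat.card_pos.ne'), one_mul]
  exact Finset.sum_congr rfl fun g _ => by simp

theorem exists_sum_zpowers {φ : G → ℂ} (hφ : IsCharacter G φ) (s : G) :
    ∃ m : ℕ, ∑ i ∈ Finset.range (orderOf s), φ (s ^ i) = (orderOf s : ℂ) * m := by
  obtain ⟨m, hm⟩ := exists_sum_subgroup hφ (Subgroup.zpowers s)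
  refine ⟨m, ?_⟩
  rw [Nat.card_zpowers] at hm
  rw [← hm]
  symm
  rw [← Finset.sum_coe_sort (Finset.range (orderOf s)),
    ← Equiv.sum_comp (finEquivZPowers (isOfFinOrder_of_finite s))]
  rw [Finset.sum_coe_sort (Finset.range (orderOf s)) (fun i => φ (s ^ i)), Finset.sum_range]
  exact Finset.sum_congr rfl fun i _ => rfl

/-- Consequences of the parity argument. -/
structure OneClass (M : Ideal AlgInt) (u x : G) (a : ℤ) : Prop where
  part : IsPPart 2 u x
  order : orderOf x = 2
  isConj : ∀ s : G, orderOf s = 2 → IsConj s x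
  thetaVal : theta M x = (a : ℂ)
  aOdd : Odd a
  off : ∀ g z : G, IsPPart 2 g z → z ≠ 1 → orderOf z ≠ 2 → theta M g = 0

theorem Hyp.exists_oneClass (h : Hyp M u k) : ∃ x a, OneClass M u x a := by
  obtain ⟨x, hx⟩ := exists_isPPart Nat.prime_two u
  obtain ⟨ho⟩ : Nonempty (Odd (th1 G M)) := ⟨h.th1_odd⟩
  have key : ∀ s : G, orderOf s = 2 → IsConj s x⁻¹ ∧ ∃ a : ℤ, theta M s = (a : ℂ) ∧ Odd a := by
    intro s hs
    have hs1 : s ≠ 1 := fun e => by rw [e, orderOf_one] at hs; omega
    obtain ⟨m, hm⟩ := exists_sum_zpowers (isCharacter_theta (G := G) (M := M)) s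
    rw [hs, Finset.sum_range_succ, Finset.sum_range_one, pow_zero, pow_one, theta_one] at hm
    have hval : theta M s = (((2 * m : ℕ) : ℤ) - (th1 G M : ℤ) : ℤ) := by
      push_cast at hm ⊢
      linear_combination hm
    have hodd : Odd (((2 * m : ℕ) : ℤ) - (th1 G M : ℤ)) := by
      obtain ⟨j, hj⟩ := ho
      exact ⟨(m : ℤ) - j - 1, by rw [hj]; push_cast; ring⟩
    refine ⟨?_, _, hval, hodd⟩
    by_contra hne
    have h0 := h.theta_eq_zero hx (isPPart_self ⟨1, by rw [hs, pow_one]⟩) hs1 hne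
    rw [hval] at h0
    have : ((2 * m : ℕ) : ℤ) - (th1 G M : ℤ) = 0 := by exact_mod_cast h0
    rw [this] at hodd
    simp at hodd
  obtain ⟨s, hs⟩ := exists_prime_orderOf_dvd_card' 2 h.even_card
  obtain ⟨hsx, a, ha, hao⟩ := key s hs
  have hox : orderOf x = 2 := by
    obtain ⟨c, hc⟩ := isConj_iff.1 hsx
    have h1 : orderOf (c * s * c⁻¹) = orderOf s := MulEquiv.orderOf_eq (MulAut.conj c) s
    rw [hc, orderOf_inv, hs] at h1
    exact h1
  have hinv : x⁻¹ = x := inv_eq_of_mul_eq_one_right (by rw [← pow_two, ← hox, pow_orderOf_eq_one])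
  refine ⟨x, a, hx, hox, fun t ht => hinv ▸ (key t ht).1, ?_, hao, fun g z hg hz1 hz2 => ?_⟩
  · rw [← ha]
    exact (classFunction_eq_of_isConj (isClassFunction_of_isCharacter isCharacter_theta)
      (hinv ▸ hsx)).symm
  · refine h.theta_eq_zero hx hg hz1 fun hc => hz2 ?_
    obtain ⟨c, hc⟩ := isConj_iff.1 hc
    have h1 : orderOf (c * z * c⁻¹) = orderOf z := MulEquiv.orderOf_eq (MulAut.conj c) z
    rw [hc, orderOf_inv, hox] at h1
    exact h1.symm

variable {x : G} {a : ℤ}

theorem OneClass.val_conj (o : OneClass M u x a) {s : G} (hs : orderOf s = 2) :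
    theta M s = (a : ℂ) :=
  (classFunction_eq_of_isConj (isClassFunction_of_isCharacter isCharacter_theta)
    (o.isConj s hs)).trans o.thetaVal

theorem OneClass.order_four (o : OneClass M u x a) {s : G} (hs : orderOf s = 4) :
    (4 : ℤ) ∣ (th1 G M : ℤ) + a := by
  obtain ⟨m, hm⟩ := exists_sum_zpowers (isCharacter_theta (G := G) (M := M)) s
  have h2 : orderOf (s ^ 2) = 2 := by
    rw [orderOf_pow' s two_ne_zero, hs]; norm_num
  have hp : ∀ t : G, orderOf t = 4 → theta M t = 0 := fun t ht =>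
    o.off t t (isPPart_self ⟨2, by rw [ht]; norm_num⟩)
      (fun e => by rw [e, orderOf_one] at ht; omega) (by omega)
  have h3 : orderOf (s ^ 3) = 4 := by
    rw [orderOf_pow' s (by norm_num), hs]; norm_num
  rw [hs] at hm
  simp only [Finset.sum_range_succ, Finset.range_zero, Finset.sum_empty, zero_add, pow_zero,
    pow_one, theta_one, hp s hs, o.val_conj h2, hp _ h3] at hm
  refine ⟨m, ?_⟩
  have : (((th1 G M : ℤ) + a : ℤ) : ℂ) = ((4 * m : ℤ) : ℂ) := by
    push_cast at hm ⊢
    linear_combination hm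
  exact_mod_cast this

/-- Two commuting involutions exclude elements of order four. -/
theorem OneClass.no_order_four (o : OneClass M u x a) {s t : G} (hs : orderOf s = 2)
    (ht : orderOf t = 2) (hc : Commute s t) (hne : s ≠ t) (v : G) : orderOf v ≠ 4 := by
  intro hv
  have h4 := o.order_four hv
  have hs2 : s * s = 1 := by rw [← pow_two, ← hs, pow_orderOf_eq_one]
  have ht2 : t * t = 1 := by rw [← pow_two, ← ht, pow_orderOf_eq_one]
  let f : Bool × Bool → G := fun b => (if b.1 then s else 1) * (if b.2 then t else 1)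
  let U : Subgroup G := Subgroup.closure {s, t}
  have hcl : ∀ g ∈ U, g = 1 ∨ g = s ∨ g = t ∨ g = s * t := by
    intro g hg
    induction hg using Subgroup.closure_induction with
    | mem y hy =>
      rcases hy with rfl | rfl
      · exact Or.inr (Or.inl rfl)
      · exact Or.inr (Or.inr (Or.inl rfl))
    | one => exact Or.inl rfl
    | mul y z _ _ hy hz =>
      have e1 : s * (s * t) = t := by rw [← mul_assoc, hs2, one_mul]
      have e2 : t * s = s * t := hc.eq.symm
      have e3 : t * (s * t) = s := by rw [← mul_assoc, e2, mul_assoc, ht2, mul_one]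
      have e4 : s * t * s = t := by rw [mul_assoc, e2, e1]
      have e5 : s * t * t = s := by rw [mul_assoc, ht2, mul_one]
      have e6 : s * t * (s * t) = 1 := by rw [← mul_assoc, e4, ht2]
      rcases hy with rfl | rfl | rfl | rfl <;> rcases hz with rfl | rfl | rfl | rfl <;>
        simp only [one_mul, mul_one, hs2, ht2, e1, e2, e3, e4, e5, e6, true_or, or_true]
    | inv y _ hy =>
      rcases hy with rfl | rfl | rfl | rfl
      · exact Or.inl inv_one
      · exact Or.inr (Or.inl (inv_eq_of_mul_eq_one_right hs2))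
      · exact Or.inr (Or.inr (Or.inl (inv_eq_of_mul_eq_one_right ht2)))
      · refine Or.inr (Or.inr (Or.inr ?_))
        rw [mul_inv_rev, inv_eq_of_mul_eq_one_right hs2, inv_eq_of_mul_eq_one_right ht2]
        exact hc.eq.symm
  have hs1 : s ≠ 1 := fun e => by rw [e, orderOf_one] at hs; omega
  have ht1 : t ≠ 1 := fun e => by rw [e, orderOf_one] at ht; omega
  have hst1 : s * t ≠ 1 := fun e => hne (by
    calc s = s * (t * t) := by rw [ht2, mul_one]
      _ = t := by rw [← mul_assoc, e, one_mul])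
  have hst : orderOf (s * t) = 2 := orderOf_eq_prime (by rw [hc.mul_pow, pow_two, pow_two, hs2, ht2, one_mul]) hst1
  have hset : (Finset.univ.filter fun g : G => g ∈ U) = ({1, s, t, s * t} : Finset G) := by
    ext g
    simp only [Finset.mem_filter, Finset.mem_univ, true_and, Finset.mem_insert, Finset.mem_singleton]
    refine ⟨hcl g, ?_⟩
    rintro (rfl | rfl | rfl | rfl)
    · exact U.one_mem
    · exact Subgroup.subset_closure (by simp)
    · exact Subgroup.subset_closure (by simp)
    · exact U.mul_mem (Subgroup.subset_closure (by simp)) (Subgroup.subset_closure (by simp))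
  have hdist : ({1, s, t, s * t} : Finset G).card = 4 := by
    rw [Finset.card_insert_of_notMem, Finset.card_insert_of_notMem, Finset.card_insert_of_notMem,
      Finset.card_singleton]
    · simp only [Finset.mem_singleton]
      intro e
      exact hs1 (mul_eq_right.1 e.symm)
    · simp only [Finset.mem_insert, Finset.mem_singleton, not_or]
      exact ⟨hne, fun e => ht1 (mul_eq_left.1 e.symm)⟩
    · simp only [Finset.mem_insert, Finset.mem_singleton, not_or]
      exact ⟨Ne.symm hs1, Ne.symm ht1, Ne.symm hst1⟩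
  obtain ⟨m, hm⟩ := exists_sum_subgroup (isCharacter_theta (G := G) (M := M)) U
  have hsum : ∑ g : U, theta M (g : G) = ∑ g ∈ ({1, s, t, s * t} : Finset G), theta M g := by
    rw [← hset]
    exact (Finset.sum_subtype _ (fun g => by simp) _).symm
  have hcard : Nat.card U = 4 := by
    rw [← hdist, ← hset, Nat.card_eq_fintype_card, Fintype.card_subtype]
  rw [hsum, hcard, Finset.sum_insert, Finset.sum_insert, Finset.sum_insert, Finset.sum_singleton,
    theta_one, o.val_conj hs, o.val_conj ht, o.val_conj hst] at hm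
  · obtain ⟨j, hj⟩ := o.aOdd
    have : (th1 G M : ℤ) + 3 * a = 4 * m := by
      have h' : (((th1 G M : ℤ) + 3 * a : ℤ) : ℂ) = ((4 * m : ℤ) : ℂ) := by
        push_cast at hm ⊢
        linear_combination hm
      exact_mod_cast h'
    omega
  · simp only [Finset.mem_singleton]
    intro e
    exact hs1 (mul_eq_right.1 e.symm)
  · simp only [Finset.mem_insert, Finset.mem_singleton, not_or]
    exact ⟨hne, fun e => ht1 (mul_eq_left.1 e.symm)⟩
  · simp only [Finset.mem_insert, Finset.mem_singleton, not_or]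
    exact ⟨Ne.symm hs1, Ne.symm ht1, Ne.symm hst1⟩

/-- The generalised character `|G|_2` on regular elements has multiplicities of the parity of the
degrees. -/
theorem exists_mult_regular (hM : IsPModular 2 M) (T : Sylow 2 G) :
    ∃ m : IrrCharacter G → ℤ, (∀ χ, χ ∉ principalBlock M G → m χ = 0) ∧
      (∀ g : G, (∑ χ, (m χ : ℂ) * (χ : G → ℂ) g) =
        if 2 ∣ orderOf g then 0 else (Nat.card (T : Subgroup G) : ℂ)) ∧
      ∀ χ ∈ principalBlock M G, (2 : ℤ) ∣ m χ - dg χ := by
  set q := Nat.card (T : Subgroup G)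
  set Ψ : G → ℂ := fun g => if 2 ∣ orderOf g then 0 else (q : ℂ) with hΨ
  have hgen : IsGeneralizedCharacter G Ψ := by
    have h := Cfsg.Agent.S0961.result 2 (principalIrr G)
    convert h using 1
    funext g
    simp only [hΨ, principalIrr_apply, mul_one]
    rw [← T.card_eq_multiplicity]
  choose m hm using fun χ : IrrCharacter G =>
    classInner_generalized_int hgen (isGeneralizedCharacter_irr χ)
  have hformula : ∀ χ : IrrCharacter G, (T : Subgroup G).index * (m χ : ℂ) =
      conj (∑ g ∈ Finset.univ.filter (fun g : G => ¬ 2 ∣ orderOf g), (χ : G → ℂ) g) := by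
    intro χ
    rw [← hm, classInner, ← Subgroup.card_mul_index (T : Subgroup G), map_sum, Finset.sum_filter]
    simp only [hΨ]
    push_cast
    have hq0 : (q : ℂ) ≠ 0 := Nat.cast_ne_zero.2 Nat.card_pos.ne'
    have hi0 : ((T : Subgroup G).index : ℂ) ≠ 0 := Nat.cast_ne_zero.2 Subgroup.index_ne_zero_of_finite
    field_simp
    rw [Finset.mul_sum]
    refine Finset.sum_congr rfl fun g _ => ?_
    split_ifs <;> simp_all <;> exact Or.inl Nat.card_eq_fintype_card
  refine ⟨m, fun χ hχ => ?_, fun g => ?_, fun χ hχ => ?_⟩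
  · have h0 := omega_regSum_eq_zero hM hχ
    rw [omega_regSum, div_eq_zero_iff, or_iff_left (irr_one_ne_zero χ)] at h0
    have h1 := hformula χ
    rw [h0, map_zero, mul_eq_zero] at h1
    exact_mod_cast h1.resolve_left (Nat.cast_ne_zero.2 Subgroup.index_ne_zero_of_finite)
  · have h := congrFun (classFunction_eq_sum (isClassFunction_of_isGeneralizedCharacter hgen)) g
    simp only [hm, Finset.sum_apply, Pi.smul_apply, smul_eq_mul] at h
    exact h.symm
  · have hcongr := omega_congr_of_sameBlock hM (χ := principalIrr G) (ψ := χ) hχ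
      (regSum_mem_center ℂ 2) (coeff_regSum_memLocalRing hM)
    rw [omega_regSum, omega_regSum] at hcongr
    simp only [principalIrr_apply, div_one, Finset.sum_const, nsmul_eq_mul, mul_one] at hcongr
    set R : ℕ := (Finset.univ.filter (fun g : G => ¬ 2 ∣ orderOf g)).card
    set S := ∑ g ∈ Finset.univ.filter (fun g : G => ¬ 2 ∣ orderOf g), (χ : G → ℂ) g
    have hS : S = (T : Subgroup G).index * (m χ : ℂ) := by
      have := congrArg conj (hformula χ)
      rw [Complex.conj_conj, map_mul, Complex.conj_natCast, map_intCast] at this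
      exact this.symm
    rw [coe_dg] at hcongr
    have h2 := MemLocalIdeal.mul_left hM ((natCast_mem (lRing hM) (dg χ))) hcongr
    have hd0 : (dg χ : ℂ) ≠ 0 := Nat.cast_ne_zero.2 (dg_pos χ).ne'
    rw [mul_sub, mul_div_cancel₀ _ hd0, hS] at h2
    have h3 : ((dg χ : ℂ) * (R : ℂ) - (T : Subgroup G).index * (m χ : ℂ)) =
        (((dg χ : ℤ) * (R : ℤ) - (T : Subgroup G).index * m χ : ℤ) : ℂ) := by push_cast; ring
    rw [h3, CfsgLib.Contribution.memLocalIdeal_intCast_iff hM] at h2
    have hR : Odd R := by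
      rw [← Nat.not_even_iff_odd, even_iff_two_dvd]
      have h := not_dvd_card_regular (G := G) (p := 2)
      rwa [Nat.card_eq_fintype_card, Fintype.card_subtype] at h
    have hi : Odd (T : Subgroup G).index := by
      rw [← Nat.not_even_iff_odd, even_iff_two_dvd]; exact T.not_dvd_index
    obtain ⟨r, hr⟩ := hR
    obtain ⟨i, hi⟩ := hi
    rw [hr, hi] at h2
    push_cast at h2
    have h4 : (2 : ℤ) ∣ (dg χ : ℤ) * (2 * (r : ℤ)) - 2 * i * m χ :=
      ⟨(dg χ : ℤ) * r - i * m χ, by ring⟩
    obtain ⟨j, hj⟩ := dvd_sub h4 h2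
    exact ⟨j, by linear_combination hj⟩

/-- The difference equals the order of a Sylow 2-subgroup. -/
theorem Hyp.k_eq (h : Hyp M u k) (o : OneClass M u x a) (T : Sylow 2 G) :
    k = (Nat.card (T : Subgroup G) : ℂ) := by
  obtain ⟨m, hm0, hmv, hmp⟩ := exists_mult_regular h.hM T
  set q := Nat.card (T : Subgroup G)
  have hu : 2 ∣ orderOf u := by
    obtain ⟨y, hy, hc, -, hreg⟩ := o.part
    rw [← hy, hc.orderOf_mul_eq_mul_orderOf_of_coprime
      (by rw [o.order]; exact (Nat.prime_two.coprime_iff_not_dvd).2 hreg), o.order]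
    exact dvd_mul_right 2 _
  have e1 := hmv u
  rw [if_pos hu] at e1
  have e0 := hmv 1
  rw [if_neg (by simp)] at e0
  have hres : ∀ g : G, ∑ χ, (m χ : ℂ) * (χ : G → ℂ) g =
      ∑ χ ∈ blockSet M, (m χ : ℂ) * (χ : G → ℂ) g := fun g => by
    refine (Finset.sum_subset (Finset.subset_univ _) fun χ _ hχ => ?_).symm
    rw [hm0 χ (fun hb => hχ (Finset.mem_filter.2 ⟨Finset.mem_univ _, hb⟩))]
    simp
  rw [hres, sum_blockSet h.hM] at e0 e1
  simp only [principalIrr_apply] at e0 e1
  set s : ℤ := ∑ χ ∈ rest (G := G) M, m χ with hs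
  have hks : k * (s : ℂ) = (q : ℂ) := by
    have e2 : ∑ χ ∈ rest M, (m χ : ℂ) * (χ : G → ℂ) u =
        ∑ χ ∈ rest M, (m χ : ℂ) * (χ : G → ℂ) 1 - k * (s : ℂ) := by
      rw [hs]
      push_cast
      rw [Finset.mul_sum, ← Finset.sum_sub_distrib]
      exact Finset.sum_congr rfl fun χ hχ => by rw [h.val hχ, coe_dg]; ring
    rw [e2] at e1
    linear_combination e0 - e1
  have hsodd : Odd s := by
    have hd : (2 : ℤ) ∣ s - (th1 G M : ℤ) := by
      rw [hs, th1]
      push_cast
      rw [← Finset.sum_sub_distrib]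
      exact Finset.dvd_sum fun χ hχ => hmp χ (mem_rest.1 hχ).2
    obtain ⟨j, hj⟩ := h.th1_odd
    obtain ⟨i, hi⟩ := hd
    exact ⟨i + j, by omega⟩
  -- `k` is an integer
  obtain ⟨χ₀, hχ₀⟩ : (rest (G := G) M).Nonempty := by
    rw [Finset.nonempty_iff_ne_empty]
    intro he
    have := h.th1_odd
    rw [th1, he, Finset.sum_empty] at this
    simp at this
  have hint : IsIntegral ℤ k := by
    rw [show k = (χ₀ : G → ℂ) 1 - (χ₀ : G → ℂ) u from (h.eq χ₀ hχ₀).symm]
    exact (CfsgLib.ClassCount.irr_isIntegral χ₀ 1).sub (CfsgLib.ClassCount.irr_isIntegral χ₀ u)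
  have hs0 : (s : ℂ) ≠ 0 := by
    intro h0
    rw [show s = 0 by exact_mod_cast h0] at hsodd
    simp at hsodd
  obtain ⟨kz, hkz⟩ : ∃ z : ℤ, k = (z : ℂ) := by
    have hkq : k = algebraMap ℚ ℂ ((q : ℚ) / s) := by
      rw [map_div₀, map_natCast, map_intCast, eq_div_iff hs0, hks]
    rw [hkq] at hint
    rw [isIntegral_algebraMap_iff (algebraMap ℚ ℂ).injective] at hint
    obtain ⟨z, hz⟩ := IsIntegrallyClosed.isIntegral_iff.1 hint
    refine ⟨z, ?_⟩
    rw [hkq, ← hz]
    simp
  have hmul : kz * s = (q : ℤ) := by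
    have : ((kz * s : ℤ) : ℂ) = ((q : ℤ) : ℂ) := by push_cast; rw [← hkz, hks]
    exact_mod_cast this
  obtain ⟨n, hn⟩ := T.2.exists_card_eq
  have hs1 : s.natAbs = 1 := by
    have hd : s.natAbs ∣ 2 ^ n := by
      rw [← hn]
      exact Int.natCast_dvd_natCast.1 ⟨kz.natAbs, by
        have := congrArg Int.natAbs hmul
        rw [Int.natAbs_mul, Int.natAbs_natCast] at this
        exact_mod_cast (by rw [mul_comm]; exact this.symm)⟩
    refine Nat.Coprime.eq_one_of_dvd ?_ hd
    refine Nat.Coprime.pow_right n (Nat.coprime_two_right.2 ?_)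
    exact Int.natAbs_odd.2 hsodd
  have hpos : 0 < kz := by
    by_contra hneg
    rw [not_lt] at hneg
    have e := sum_dg_mul h.hM o.part (fun e => by
      have := o.order; rw [e, orderOf_one] at this; omega)
    rw [sum_blockSet h.hM, dg_principal, principalIrr_apply, Finset.sum_congr rfl fun χ hχ => by
      rw [h.val hχ, hkz]] at e
    have e' : (1 : ℤ) + ∑ χ ∈ rest (G := G) M, (dg χ : ℤ) * ((dg χ : ℤ) - kz) = 0 := by
      have : (((1 : ℤ) + ∑ χ ∈ rest (G := G) M, (dg χ : ℤ) * ((dg χ : ℤ) - kz) : ℤ) : ℂ) = 0 := by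
        push_cast
        simpa using e
      exact_mod_cast this
    have : 0 ≤ ∑ χ ∈ rest (G := G) M, (dg χ : ℤ) * ((dg χ : ℤ) - kz) :=
      Finset.sum_nonneg fun χ _ => mul_nonneg (by positivity) (by omega)
    omega
  rcases Int.natAbs_eq s with e | e <;> rw [hs1] at e <;> rw [e] at hmul <;> push_cast at hmul
  · rw [hkz, show kz = (q : ℤ) by linarith]; push_cast; rfl
  · omega

end CfsgLib.ConstDiff
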