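import Cfsg.Agent.Lib.ConstDiff.TwoNilp
import Cfsg.Agent.Lib.PF.OddOrder

/-!
# Burnside's transfer theorem with the odd order theorem

A group whose Sylow 2-subgroup is central in its normalizer is solvable and 2-nilpotent.
-/

set_option autoImplicit false
set_option linter.unusedSectionVars false
set_option linter.style.haveILetI false

noncomputable section

namespace CfsgLib.ConstDiff

open Cfsg

universe u

variable {H : Type u} [Group H] [Finite H] [hp2 : Fact (Nat.Prime 2)]

/-- A group of odd order is solvable. -/
theorem isSolvable_of_odd_card (h : ¬ 2 ∣ Nat.card H) : Group.IsSolvable H :=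
  CfsgLib.PF.oddSolvable H (Nat.not_even_iff_odd.1 (fun he => h he.two_dvd))

/-- An extension of a solvable group by a solvable group. -/
theorem isSolvable_of_normal (N : Subgroup H) [N.Normal] (h1 : Group.IsSolvable N)
    (h2 : Group.IsSolvable (H ⧸ N)) : Group.IsSolvable H :=
  (Group.isSolvable_iff_subgroup_quotient N).2 ⟨h1, h2⟩

/-- A Sylow 2-subgroup central in its normalizer. -/
theorem burnside (P : Sylow 2 H)
    (hP : Subgroup.normalizer ((P : Subgroup H) : Set H) ≤
      Subgroup.centralizer ((P : Subgroup H) : Set H)) :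
    Group.IsSolvable H ∧ TwoNilp H := by
  haveI : IsMulCommutative (P : Subgroup H) :=
    ⟨⟨fun a b => Subtype.ext (hP (Subgroup.le_normalizer b.2) a a.2)⟩⟩
  have hc := MonoidHom.ker_transferSylow_isComplement' P hP
  set N := (MonoidHom.transferSylow P hP).ker
  have hN : ¬ 2 ∣ Nat.card N := by
    rw [← hc.index_eq_card]
    exact P.not_dvd_index
  refine ⟨isSolvable_of_normal N (isSolvable_of_odd_card hN) ?_, fun c hc' => ?_⟩
  · haveI : Group.IsSolvable (MonoidHom.transferSylow P hP).range :=
      Group.isSolvable_of_comm fun a b => Subtype.ext (Subtype.ext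
        (hP (Subgroup.le_normalizer b.1.2) a.1 a.1.2))
    exact Group.isSolvable_of_surjective
      (f := (QuotientGroup.quotientKerEquivRange (MonoidHom.transferSylow P hP)).symm.toMonoidHom)
      (MulEquiv.surjective _)
  · refine CfsgLib.PCore.le_pPrimeCore_of_not_dvd (MonoidHom.normal_ker _) hN ?_
    rw [MonoidHom.mem_ker, ← orderOf_eq_one_iff]
    obtain ⟨j, hj⟩ := (IsPGroup.iff_orderOf.1 P.2) (MonoidHom.transferSylow P hP c)
    refine Nat.Coprime.eq_one_of_dvd ?_ (orderOf_map_dvd (MonoidHom.transferSylow P hP) c)
    rw [hj]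
    exact Nat.Coprime.pow_left j ((Nat.prime_two.coprime_iff_not_dvd).2 hc')

/-- A Sylow subgroup of order at most two. -/
theorem solvable_of_card_le_two (P : Sylow 2 H) (h : Nat.card (P : Subgroup H) ≤ 2) :
    Group.IsSolvable H := by
  by_cases h2 : 2 ∣ Nat.card H
  · have hcard : Nat.card (P : Subgroup H) = 2 :=
      le_antisymm h (Nat.le_of_dvd Nat.card_pos (P.dvd_card_of_dvd_card h2))
    exact (burnside P ((isCyclic_of_prime_card hcard).normalizer_le_centralizer
      ((Nat.minFac_eq_two_iff _).2 h2))).1
  · exact isSolvable_of_odd_card h2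

/-- A group with a solvable normal subgroup of index two. -/
theorem solvable_of_index_two (N : Subgroup H) (hN : N.index = 2) (h : Group.IsSolvable N) :
    Group.IsSolvable H := by
  haveI := Subgroup.normal_of_index_eq_two hN
  refine isSolvable_of_normal N h (Group.isSolvable_of_comm fun a b => ?_)
  haveI : IsCyclic (H ⧸ N) := isCyclic_of_prime_card (p := 2) hN
  exact IsMulCommutative.is_comm.comm a b

end CfsgLib.ConstDiff
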