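import Cfsg.Agent.Lib.Chars17.SLTwoEven
import Cfsg.Agent.Lib.Recognition.AffineEvenSL2
import Cfsg.Agent.Lib.AbelTwo.Stab

/-!
# Nonprincipal characters of `SL(2, q)`, `q` even, at involutions

`χ 1 - χ u = q` for every nonprincipal irreducible character and every involution `u`.
-/

set_option autoImplicit false
set_option linter.unusedSectionVars false
set_option linter.style.haveILetI false

noncomputable section

namespace CfsgLib.ConstDiff

open Cfsg CfsgLib.Characters CfsgLib.Chars17 CfsgLib.Chars17.SLTwoEven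
open scoped ComplexConjugate Classical

variable {F : Type*} [Field F] [Fintype F] [CharP F 2]

/-- The difference at the standard involution. -/
theorem diff_uni (h4 : 4 ≤ Fintype.card F) (χ : IrrCharacter (SL F))
    (hχ : χ ≠ principalIrr (SL F)) :
    (χ : SL F → ℂ) 1 - (χ : SL F → ℂ) (uni 1) = (Fintype.card F : ℂ) := by
  set q := Fintype.card F with hq
  choose a b hab hab' using exists_ab (F := F)
  have hconj : ∀ χ : IrrCharacter (SL F), conj ((χ : SL F → ℂ) (uni 1)) = (χ : SL F → ℂ) (uni 1) :=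
    fun χ => by rw [hab' χ, map_sub, map_natCast, map_natCast]
  have hne1 : ¬ IsConj (uni (1 : F)) 1 := fun h => by
    have h2 := congrArg (fun g : SL F => g.1 0 1) (isConj_one_left.1 h)
    simp at h2
  have e2 := column_orth (uni (1 : F)) 1
  have e3 := column_orth (uni (1 : F)) (uni 1)
  rw [if_neg hne1] at e2
  rw [if_pos (IsConj.refl _), card_centralizer_uni_one] at e3
  simp only [conj_irr_one] at e2
  simp only [hconj] at e3
  have e1 := sum_sq_degrees (G := SL F)
  rw [card_sl, Nat.cast_mul, Nat.cast_mul, Nat.cast_sub (by omega),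
    ← hq, Nat.cast_add, Nat.cast_one] at e1
  simp only [hab, hab', sq] at e1 e2 e3
  have Sb : ∑ ψ, ((b ψ : ℂ) * b ψ) = q := by
    have hq0 : (q : ℂ) * q ≠ 0 := mul_ne_zero (by rw [Nat.cast_ne_zero]; omega)
      (by rw [Nat.cast_ne_zero]; omega)
    refine mul_left_cancel₀ hq0 ?_
    rw [Finset.mul_sum]
    trans ∑ χ : IrrCharacter (SL F),
      (((a χ : ℂ) + b χ * ((q : ℂ) - 1)) * ((a χ : ℂ) + b χ * ((q : ℂ) - 1)) -
      2 * (((a χ : ℂ) - b χ) * ((a χ : ℂ) + b χ * ((q : ℂ) - 1))) +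
      ((a χ : ℂ) - b χ) * ((a χ : ℂ) - b χ))
    · exact Finset.sum_congr rfl fun χ _ => by ring
    · rw [Finset.sum_add_distrib, Finset.sum_sub_distrib, ← Finset.mul_sum, e1, e2, e3]
      ring
  set one : IrrCharacter (SL F) := principalIrr (SL F) with hone
  set S := Finset.univ.erase one with hS
  have hbone : b one = 0 := by
    have h1 := hab one
    have h2 := hab' one
    simp only [hone, principalIrr_apply] at h1 h2
    have hqc : (q : ℂ) ≠ 0 := by rw [Nat.cast_ne_zero]; omega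
    have hb : (b one : ℂ) = 0 := mul_left_cancel₀ hqc (by linear_combination h2 - h1)
    exact_mod_cast hb
  have hbpos : ∀ ψ ∈ S, 1 ≤ b ψ := by
    intro ψ hψ
    by_contra hlt
    have hbz : b ψ = 0 := by omega
    have := eq_one_of_uni ψ (by rw [hab ψ, hab' ψ, hbz]; simp)
    exact (Finset.ne_of_mem_erase hψ) (Subtype.ext this)
  have Sb' : ∑ ψ ∈ S, b ψ * b ψ = q := by
    have h : ∑ ψ, b ψ * b ψ = q := by exact_mod_cast Sb
    rwa [← Finset.add_sum_erase _ _ (Finset.mem_univ one), hbone, zero_mul, zero_add] at h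
  have hScard : q ≤ S.card := by
    rw [hS, Finset.card_erase_of_mem (Finset.mem_univ _), Finset.card_univ,
      ← Nat.card_eq_fintype_card, card_irr_eq_card_conjClasses]
    have := card_succ_le_conjClasses (F := F)
    omega
  have hb1 : b χ = 1 := by
    have hχS : χ ∈ S := Finset.mem_erase.2 ⟨hχ, Finset.mem_univ _⟩
    by_contra hne
    have h2 : 2 ≤ b χ := by have := hbpos χ hχS; omega
    have h3 : ∑ ψ ∈ S, 1 < ∑ ψ ∈ S, b ψ * b ψ :=
      Finset.sum_lt_sum (fun ψ hψ => Nat.mul_pos (hbpos ψ hψ) (hbpos ψ hψ))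
        ⟨χ, hχS, lt_of_lt_of_le (by norm_num : 1 < 2 * 2) (Nat.mul_le_mul h2 h2)⟩
    rw [Sb', ← Finset.card_eq_sum_ones] at h3
    omega
  rw [hab, hab', hb1]
  push_cast
  ring

/-- All involutions of `SL(2, q)` are conjugate to the standard one. -/
theorem isConj_uni_of_involution {n : ℕ} (hn : Fintype.card F = 2 ^ n) {g : SL F}
    (hg : g ^ 2 = 1) (hg1 : g ≠ 1) : IsConj g (uni 1) := by
  haveI : Fact (Nat.Prime 2) := ⟨Nat.prime_two⟩
  have hn0 : n ≠ 0 := fun e => by
    rw [e, pow_zero] at hn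
    have := Fintype.one_lt_card (α := F)
    omega
  have hcard : Nat.card (uniHom F).range = 2 ^ n := by
    rw [Nat.card_congr (MonoidHom.ofInjective uniHom_injective).toEquiv.symm,
      Nat.card_eq_fintype_card, ← hn]
    exact Fintype.card_multiplicative F
  have hodd1 : ¬ 2 ∣ 2 ^ n + 1 := fun h => by
    have := (Nat.dvd_add_right (dvd_pow_self 2 hn0)).1 h
    omega
  have hodd2 : ¬ 2 ∣ 2 ^ n - 1 := fun h => by
    have h3 : 1 ≤ 2 ^ n := Nat.one_le_two_pow
    obtain ⟨c, hc⟩ := h
    obtain ⟨d, hd⟩ := dvd_pow_self 2 hn0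
    omega
  let P : Sylow 2 (SL F) := Sylow.ofCard (uniHom F).range (by
    rw [hcard, card_sl, hn, Nat.factorization_mul (by omega)
      (Nat.mul_ne_zero (pow_ne_zero _ two_ne_zero) (by
        have h3 : 2 ≤ 2 ^ n := Nat.le_self_pow hn0 2
        omega)), Finsupp.add_apply,
      Nat.factorization_mul (pow_ne_zero _ two_ne_zero) (by
        have h3 : 2 ≤ 2 ^ n := Nat.le_self_pow hn0 2
        omega), Finsupp.add_apply, Nat.factorization_eq_zero_of_not_dvd hodd1,
      Nat.factorization_eq_zero_of_not_dvd hodd2, Nat.prime_two.factorization_pow,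
      Finsupp.single_eq_same, zero_add, add_zero])
  obtain ⟨d, hd⟩ := CfsgLib.AbelTwo.exists_conj_mem P (u := g)
    ⟨1, by rw [pow_one]; exact orderOf_eq_prime hg hg1⟩
  obtain ⟨y, hy⟩ := hd
  have hy0 : Multiplicative.toAdd y ≠ 0 := by
    intro e
    refine hg1 (conj_eq_one_iff.1 (hy.symm.trans ?_))
    rw [show y = 1 from Multiplicative.toAdd.injective e, map_one]
  refine (isConj_iff.2 ⟨d, rfl⟩ : IsConj g (d * g * d⁻¹)).trans ?_
  rw [← hy]
  exact (isConj_uni hy0).symm

/-- The difference for a group isomorphic to `PSL(2, 2^n)`. -/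
theorem diff_of_psl {L : Type*} [Group L] [Finite L] {E : Type} [Field E] [Fintype E] {n : ℕ}
    (hn : 2 ≤ n) (hE : Fintype.card E = 2 ^ n)
    (e : L ≃* Matrix.ProjectiveSpecialLinearGroup (Fin 2) E) {v : L} (hv : v ^ 2 = 1) (hv1 : v ≠ 1)
    (φ : IrrCharacter L) (hφ : (φ : L → ℂ) ≠ fun _ => 1) :
    (φ : L → ℂ) 1 - (φ : L → ℂ) v = ((2 ^ n : ℕ) : ℂ) := by
  haveI : Fact (Nat.Prime 2) := ⟨Nat.prime_two⟩
  haveI : CharP E 2 := charP_of_card_eq_prime_pow hE
  set e' : L ≃* SL E := e.trans CfsgLib.Recognition.AffineEven.pslEquiv with he'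
  let χ : IrrCharacter (SL E) := ⟨fun g => (φ : L → ℂ) (e'.symm g),
    isIrrCharacter_comp_mulEquiv e'.symm φ.2⟩
  have hχ : χ ≠ principalIrr (SL E) := by
    intro hc
    refine hφ (funext fun l => ?_)
    have := congrArg (fun ψ : IrrCharacter (SL E) => (ψ : SL E → ℂ) (e' l)) hc
    simpa [χ, principalIrr_apply] using this
  have h4 : 4 ≤ Fintype.card E := by
    rw [hE]
    exact (show 4 = 2 ^ 2 by norm_num) ▸ Nat.pow_le_pow_right two_pos hn
  have h := diff_uni h4 χ hχ
  have hconj : IsConj (e' v) (uni 1) := isConj_uni_of_involution hE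
    (by rw [← map_pow, hv, map_one]) (fun h1 => hv1 (e'.injective (h1.trans (map_one e').symm)))
  rw [← classFunction_eq_of_isConj (irr_isClassFunction χ) hconj, hE] at h
  simpa [χ] using h

end CfsgLib.ConstDiff
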