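import Cfsg.Agent.Lib.ConstDiff.Local
import Cfsg.Agent.Lib.Involutions.BrauerSuzuki

/-!
# The shape of the Sylow 2-subgroup

Either the group has order two, or the Sylow 2-subgroup is elementary abelian of order at least four.
-/

set_option autoImplicit false
set_option linter.unusedSectionVars false
set_option linter.style.haveILetI false

noncomputable section

namespace CfsgLib.ConstDiff

open Cfsg CfsgLib.Characters CfsgLib.Blocks
open scoped ComplexConjugate Classical

universe u

variable {G : Type u} [Group G] [Fintype G] [hp2 : Fact (Nat.Prime 2)] {M : Ideal AlgInt}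
  {u : G} {k : ℂ}

/-- The standing situation after the small case is removed. -/
structure Main (M : Ideal AlgInt) (u : G) (k : ℂ) (T : Sylow 2 G) (x : G) : Prop where
  hyp : Hyp M u k
  xT : x ∈ (T : Subgroup G)
  part : IsPPart 2 u x
  xo : orderOf x = 2
  isConjX : ∀ s : G, orderOf s = 2 → IsConj s x
  el : ∀ t ∈ (T : Subgroup G), t * t = 1
  four : 4 ≤ Nat.card (T : Subgroup G)
  kq : k = (Nat.card (T : Subgroup G) : ℂ)

theorem Main.ab {T : Sylow 2 G} {x : G} (m : Main M u k T x) :
    ∀ a ∈ (T : Subgroup G), ∀ b ∈ (T : Subgroup G), a * b = b * a := by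
  intro a ha b hb
  have e1 := m.el _ ((T : Subgroup G).mul_mem ha hb)
  have e2 : a⁻¹ = a := inv_eq_of_mul_eq_one_right (m.el a ha)
  have e3 : b⁻¹ = b := inv_eq_of_mul_eq_one_right (m.el b hb)
  have e4 : (a * b)⁻¹ = a * b := inv_eq_of_mul_eq_one_right e1
  rw [mul_inv_rev, e2, e3] at e4
  exact e4.symm

/-- In rank one the group has order two. -/
theorem Hyp.rank_one (h : Hyp M u k)
    (huniq : ∀ s t : G, orderOf s = 2 → orderOf t = 2 → Commute s t → s = t) :
    Nat.card G = 2 := by
  obtain ⟨x, a, o⟩ := h.exists_oneClass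
  have hxc : ∀ g : G, g * x = x * g := by
    intro g
    have h1 := CfsgLib.Involutions.inZStar_of_rank_one huniq o.order g
    rw [h.core, Subgroup.mem_bot] at h1
    exact mul_inv_eq_iff_eq_mul.1 (mul_inv_eq_one.1 h1)
  have hinv : ∀ t : G, orderOf t = 2 → t = x := fun t ht => huniq t x ht o.order (hxc t)
  have hx2 : x * x = 1 := by rw [← pow_two, ← o.order, pow_orderOf_eq_one]
  let T : Sylow 2 G := default
  obtain ⟨n, hn⟩ := T.2.exists_card_eq
  by_cases hsq : ∀ t ∈ (T : Subgroup G), t * t = 1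
  · -- the Sylow subgroup has order two
    have hle : Nat.card (T : Subgroup G) ≤ 2 := by
      have hsub : ∀ t : (T : Subgroup G), (t : G) ∈ ({1, x} : Finset G) := by
        intro t
        by_cases ht : (t : G) = 1
        · simp [ht]
        · have := hinv t (orderOf_eq_prime (by rw [pow_two, hsq t t.2]) ht)
          simp [this]
      have := Finset.card_le_card_of_injOn (s := (Finset.univ : Finset (T : Subgroup G)))
        (fun t : (T : Subgroup G) => (t : G)) (fun t _ => hsub t)
        (Subtype.coe_injective.injOn)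
      rw [Finset.card_univ] at this
      rw [Nat.card_eq_fintype_card]
      exact this.trans ((Finset.card_insert_le _ _).trans (by simp))
    have hdvd : 2 ∣ Nat.card (T : Subgroup G) := T.dvd_card_of_dvd_card h.even_card
    have hT2 : Nat.card (T : Subgroup G) = 2 := le_antisymm hle (Nat.le_of_dvd Nat.card_pos hdvd)
    have hcyc : IsCyclic (T : Subgroup G) := isCyclic_of_prime_card hT2
    have hmin : (Nat.card G).minFac = 2 := (Nat.minFac_eq_two_iff _).2 h.even_card
    have hc := IsCyclic.isComplement' hmin (P := T) hcyc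
    set N := (MonoidHom.transferSylow T (hcyc.normalizer_le_centralizer hmin)).ker
    have hN : ¬ 2 ∣ Nat.card N := by
      rw [← hc.index_eq_card]
      exact T.not_dvd_index
    have hN1 : N = ⊥ := le_bot_iff.1 (h.core ▸ CfsgLib.PCore.le_pPrimeCore_of_not_dvd
      (MonoidHom.normal_ker _) hN)
    rw [← hc.card_mul, hN1, Subgroup.card_bot, one_mul, hT2]
  · exfalso
    push Not at hsq
    obtain ⟨t, htT, ht⟩ := hsq
    -- an element of order four
    obtain ⟨s, hs⟩ : ∃ s : G, orderOf s = 4 := by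
      obtain ⟨j, hj⟩ := (IsPGroup.iff_orderOf.1 T.2) ⟨t, htT⟩
      rw [← Subgroup.orderOf_coe] at hj
      have hj2 : 2 ≤ j := by
        by_contra hlt
        refine ht ?_
        rw [← pow_two]
        refine orderOf_dvd_iff_pow_eq_one.1 ?_
        rw [hj]
        calc 2 ^ j ∣ 2 ^ 1 := pow_dvd_pow 2 (by omega)
          _ = 2 := pow_one 2
      refine ⟨t ^ 2 ^ (j - 2), ?_⟩
      rw [orderOf_pow' t (pow_ne_zero _ two_ne_zero), hj,
        Nat.gcd_eq_right (pow_dvd_pow 2 (Nat.sub_le j 2)), Nat.pow_div (Nat.sub_le j 2) two_pos,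
        show j - (j - 2) = 2 by omega]
      norm_num
    have hs2 : s ^ 2 = x := hinv _ (by rw [orderOf_pow' s two_ne_zero, hs]; norm_num)
    -- signs of the characters at `x`
    have hmul : ∀ (χ : IrrCharacter G) (g : G),
        (χ : G → ℂ) (x * g) = (χ : G → ℂ) x / (χ : G → ℂ) 1 * (χ : G → ℂ) g := by
      intro χ g
      have h1 := sum_isConj_mul χ x g
      rw [Finset.sum_eq_single x, if_pos (IsConj.refl x)] at h1
      · rw [h1, centralChar]
        have : Subgroup.centralizer ({x} : Set G) = ⊤ :=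
          eq_top_iff.2 fun d _ => Subgroup.mem_centralizer_singleton_iff.2 (hxc d)
        rw [this, Subgroup.index_top, Nat.cast_one, one_mul]
      · intro b _ hb
        refine if_neg fun hc => hb ?_
        obtain ⟨c, hcb⟩ := isConj_iff.1 hc
        rw [← hcb, hxc c, mul_inv_cancel_right]
      · intro hn; exact absurd (Finset.mem_univ x) hn
    have hxpart : ∀ g z : G, IsPPart 2 g z → IsPPart 2 (x * g) (x * z) := by
      rintro g z ⟨y, hy, hcy, ⟨i, hi⟩, hreg⟩
      have hcx : Commute x z := (hxc z).symm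
      refine ⟨y, by rw [mul_assoc, hy], (Commute.mul_left (hxc y).symm hcy), ?_, hreg⟩
      obtain ⟨l, -, hl⟩ := (Nat.dvd_prime_pow Nat.prime_two).1
        (hcx.orderOf_mul_dvd_lcm.trans (Nat.lcm_dvd
          (show orderOf x ∣ 2 ^ (i + 1) by rw [o.order]; exact dvd_pow_self 2 (by omega))
          (show orderOf z ∣ 2 ^ (i + 1) by rw [hi]; exact pow_dvd_pow 2 (by omega))))
      exact ⟨l, hl⟩
    set U : Finset (IrrCharacter G) :=
      (rest (G := G) M).filter (fun χ : IrrCharacter G => (χ : G → ℂ) x = (χ : G → ℂ) 1) with hU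
    have hsign : ∀ (χ : IrrCharacter G) (g : G), (χ : G → ℂ) g + (χ : G → ℂ) (x * g) =
        if (χ : G → ℂ) x = (χ : G → ℂ) 1 then 2 * (χ : G → ℂ) g else 0 := by
      intro χ g
      have h1 := hmul χ g
      split_ifs with hc
      · rw [h1, hc, div_self (irr_one_ne_zero χ)]; ring
      · have h2 := hmul χ x
        rw [hx2] at h2
        have h3 : (χ : G → ℂ) x = -(χ : G → ℂ) 1 := by
          have h4 : (χ : G → ℂ) x * (χ : G → ℂ) x = (χ : G → ℂ) 1 * (χ : G → ℂ) 1 := by
            rw [div_mul_eq_mul_div, eq_div_iff (irr_one_ne_zero χ)] at h2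
            exact h2.symm
          exact (mul_self_eq_mul_self_iff.1 h4).resolve_left hc
        rw [h1, h3, neg_div, div_self (irr_one_ne_zero χ)]; ring
    -- the two sums over `U` vanish outside the sections of `1` and `x`
    have hvan : ∀ g z : G, IsPPart 2 g z → z ≠ 1 → z ≠ x →
        ∑ χ ∈ U, (χ : G → ℂ) g = 0 ∧ 1 + ∑ χ ∈ U, (dg χ : ℂ) * (χ : G → ℂ) g = 0 := by
      intro g z hg hz1 hzx
      have hz' : x * z ≠ 1 := fun e => hzx ((inv_eq_of_mul_eq_one_right e).symm.trans
        (inv_eq_of_mul_eq_one_right hx2))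
      have hz2 : orderOf z ≠ 2 := fun e => hzx (hinv z e)
      have hz3 : orderOf (x * z) ≠ 2 := fun e => by
        have := hinv _ e
        exact hz1 (mul_eq_left.1 this)
      constructor
      · have e1 := o.off g z hg hz1 hz2
        have e2 := o.off _ _ (hxpart g z hg) hz' hz3
        rw [theta_apply] at e1 e2
        have e3 : ∑ χ ∈ rest (G := G) M, ((χ : G → ℂ) g + (χ : G → ℂ) (x * g)) = 0 := by
          rw [Finset.sum_add_distrib, e1, e2, add_zero]
        rw [Finset.sum_congr rfl fun χ _ => hsign χ g, ← Finset.sum_filter, ← Finset.mul_sum] at e3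
        exact (mul_eq_zero.1 e3).resolve_left two_ne_zero
      · have e1 := sum_dg_mul h.hM hg hz1
        have e2 := sum_dg_mul h.hM (hxpart g z hg) hz'
        rw [sum_blockSet h.hM, dg_principal, principalIrr_apply] at e1 e2
        have e3 : ∑ χ ∈ rest (G := G) M,
            (dg χ : ℂ) * ((χ : G → ℂ) g + (χ : G → ℂ) (x * g)) = -2 := by
          simp only [mul_add, Finset.sum_add_distrib]
          push_cast at e1 e2
          linear_combination e1 + e2
        rw [Finset.sum_congr rfl fun χ _ => by rw [hsign χ g, mul_ite, mul_zero],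
          ← Finset.sum_filter, Finset.sum_congr rfl fun χ _ => mul_left_comm (dg χ : ℂ) 2 _,
          ← Finset.mul_sum] at e3
        linear_combination e3 / 2
    have hs1 : s ≠ 1 := fun e => by rw [e, orderOf_one] at hs; omega
    have hsx : s ≠ x := fun e => by rw [e, o.order] at hs; omega
    have hs3o : orderOf (s ^ 3) = 4 := by rw [orderOf_pow' s (by norm_num), hs]; norm_num
    obtain ⟨v1, v2⟩ := hvan s s (isPPart_self ⟨2, by rw [hs]; norm_num⟩) hs1 hsx
    obtain ⟨w1, w2⟩ := hvan (s ^ 3) (s ^ 3) (isPPart_self ⟨2, by rw [hs3o]; norm_num⟩)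
      (fun e => by rw [e, orderOf_one] at hs3o; omega)
      (fun e => by rw [e, o.order] at hs3o; omega)
    -- two characters and their sums over the cyclic group of order four
    have hc1 : IsCharacter G (∑ χ ∈ U, (χ : G → ℂ)) :=
      isCharacter_sum _ fun χ _ => irr_isCharacter χ
    have hc2 : IsCharacter G ((principalIrr G : G → ℂ) + ∑ χ ∈ U, ((dg χ : ℕ) : ℂ) • (χ : G → ℂ)) :=
      isCharacter_add (irr_isCharacter _)
        (isCharacter_sum _ fun χ _ => isCharacter_natCast_smul (irr_isCharacter χ) _)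
    have hU1 : ∀ χ ∈ U, (χ : G → ℂ) x = (dg χ : ℂ) := fun χ hχ =>
      ((Finset.mem_filter.1 hχ).2).trans (coe_dg χ)
    obtain ⟨m1, hm1⟩ := exists_sum_zpowers hc1 s
    obtain ⟨m2, hm2⟩ := exists_sum_zpowers hc2 s
    rw [hs] at hm1 hm2
    simp only [Finset.sum_range_succ, Finset.range_zero, Finset.sum_empty, zero_add, pow_zero,
      pow_one, Pi.add_apply, Finset.sum_apply, Pi.smul_apply, smul_eq_mul, principalIrr_apply,
      hs2, v1, w1, v2, w2] at hm1 hm2
    rw [Finset.sum_congr rfl fun χ _ => coe_dg χ, Finset.sum_congr rfl hU1] at hm1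
    simp only [coe_dg] at hm2
    rw [Finset.sum_congr (s₁ := U) rfl (g := fun χ => (dg χ : ℂ) * (dg χ : ℂ))
      (f := fun χ : IrrCharacter G => (dg χ : ℂ) * (χ : G → ℂ) x)
      fun χ hχ => by rw [hU1 χ hχ]] at hm2
    have n1 : ∑ χ ∈ U, dg χ = 2 * m1 := by
      have : (((∑ χ ∈ U, dg χ : ℕ)) : ℂ) = ((2 * m1 : ℕ) : ℂ) := by
        push_cast at hm1 ⊢
        linear_combination hm1 / 2
      exact_mod_cast this
    have n2 : 1 + ∑ χ ∈ U, dg χ * dg χ = 2 * m2 := by
      have : (((1 + ∑ χ ∈ U, dg χ * dg χ : ℕ)) : ℂ) = ((2 * m2 : ℕ) : ℂ) := by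
        push_cast at hm2 ⊢
        linear_combination hm2 / 2
      exact_mod_cast this
    have hd : ∀ χ : IrrCharacter G, (dg χ * dg χ) % 2 = dg χ % 2 := fun χ => by
      rcases Nat.mod_two_eq_zero_or_one (dg χ) with e | e <;> simp [Nat.mul_mod, e]
    have hpar : (∑ χ ∈ U, dg χ * dg χ) % 2 = (∑ χ ∈ U, dg χ) % 2 := by
      rw [Finset.sum_nat_mod, Finset.sum_congr rfl fun χ _ => hd χ, ← Finset.sum_nat_mod]
    omega

/-- The main case. -/
theorem Hyp.exists_main (h : Hyp M u k) (h2 : Nat.card G ≠ 2) :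
    ∃ (T : Sylow 2 G) (x : G), Main M u k T x := by
  obtain ⟨x, a, o⟩ := h.exists_oneClass
  have hne : ¬ ∀ s t : G, orderOf s = 2 → orderOf t = 2 → Commute s t → s = t :=
    fun hu => h2 (h.rank_one hu)
  push Not at hne
  obtain ⟨s, t, hs, ht, hst, hne⟩ := hne
  have hxp : IsPGroup 2 (Subgroup.zpowers x) :=
    IsPGroup.of_card (n := 1) (by rw [Nat.card_zpowers, o.order, pow_one])
  obtain ⟨T, hT⟩ := hxp.exists_le_sylow
  refine ⟨T, x, h, hT (Subgroup.mem_zpowers x), o.part, o.order, o.isConj, ?_, ?_, h.k_eq o T⟩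
  · intro g hg
    obtain ⟨j, hj⟩ := (IsPGroup.iff_orderOf.1 T.2) ⟨g, hg⟩
    rw [← Subgroup.orderOf_coe] at hj
    rw [← pow_two]
    refine orderOf_dvd_iff_pow_eq_one.1 ?_
    rw [hj]
    by_contra hnd
    have hj2 : 2 ≤ j := by
      by_contra hlt
      exact hnd ((pow_dvd_pow 2 (show j ≤ 1 by omega)).trans (by norm_num))
    refine o.no_order_four hs ht hst hne (g ^ 2 ^ (j - 2)) ?_
    show orderOf (g ^ 2 ^ (j - 2)) = 4
    rw [orderOf_pow' g (pow_ne_zero _ two_ne_zero)]
    rw [show orderOf g = 2 ^ j from hj, Nat.gcd_eq_right (pow_dvd_pow 2 (Nat.sub_le j 2)),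
      Nat.pow_div (Nat.sub_le j 2) two_pos, show j - (j - 2) = 2 by omega]
    norm_num
  · have hsp : IsPGroup 2 (Subgroup.zpowers s) :=
      IsPGroup.of_card (n := 1) (by rw [Nat.card_zpowers, hs, pow_one])
    have htp : IsPGroup 2 (Subgroup.zpowers t) :=
      IsPGroup.of_card (n := 1) (by rw [Nat.card_zpowers, ht, pow_one])
    have hn : Subgroup.zpowers s ≤ Subgroup.normalizer (Subgroup.zpowers t : Set G) := by
      refine (Subgroup.zpowers_le.2 ?_).trans (Subgroup.centralizer_le_normalizer _)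
      refine Subgroup.mem_centralizer_iff.2 fun v hv => ?_
      obtain ⟨i, rfl⟩ := Subgroup.mem_zpowers_iff.1 hv
      exact (hst.zpow_right i).eq.symm
    obtain ⟨S, hS⟩ := (IsPGroup.to_sup_of_normal_right' hsp htp hn).exists_le_sylow
    rw [show Nat.card (T : Subgroup G) = Nat.card (S : Subgroup G) from
      (T.card_eq_multiplicity).trans S.card_eq_multiplicity.symm]
    obtain ⟨n, hnS⟩ := S.2.exists_card_eq
    have h3 : 2 < Nat.card (S : Subgroup G) := by
      have hs1 : s ≠ 1 := fun e => by rw [e, orderOf_one] at hs; omega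
      have ht1 : t ≠ 1 := fun e => by rw [e, orderOf_one] at ht; omega
      have hsub : ({1, s, t} : Finset G) ⊆ Finset.univ.filter (· ∈ (S : Subgroup G)) := by
        intro v hv
        simp only [Finset.mem_insert, Finset.mem_singleton] at hv
        rcases hv with rfl | rfl | rfl
        · simp
        · simpa using hS (Subgroup.mem_sup_left (Subgroup.mem_zpowers v))
        · simpa using hS (Subgroup.mem_sup_right (Subgroup.mem_zpowers v))
      have hc := Finset.card_le_card hsub
      rw [Finset.card_eq_three.2 ⟨1, s, t, Ne.symm hs1, Ne.symm ht1, hne, rfl⟩,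
        ← Fintype.card_subtype] at hc
      rw [Nat.card_eq_fintype_card]
      omega
    rw [hnS] at h3 ⊢
    calc 4 = 2 ^ 2 := by norm_num
      _ ≤ 2 ^ n := Nat.pow_le_pow_right two_pos (by
          by_contra hlt
          have := Nat.pow_le_pow_right two_pos (show n ≤ 1 by omega)
          omega)

end CfsgLib.ConstDiff
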