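import Cfsg.Agent.Lib.ConstDiff.Functor
import Cfsg.Agent.Lib.Generation.Coprime
import Cfsg.Agent.Lib.PGroup.Frattini
import Cfsg.Agent.S1230

/-!
# The group is a two-dimensional linear group

The centraliser of an involution is the Sylow subgroup.
-/

set_option autoImplicit false
set_option linter.unusedSectionVars false
set_option linter.style.haveILetI false

noncomputable section

namespace CfsgLib.ConstDiff

open Cfsg CfsgLib.Characters CfsgLib.Blocks
open scoped ComplexConjugate Classical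

universe u

variable {G : Type u} [Group G] [Fintype G] [hp2 : Fact (Nat.Prime 2)] {M : Ideal AlgInt}
  {u : G} {k : ℂ} {T : Sylow 2 G} {x : G}

/-- A character with a one-dimensional space of fixed points of `K` sums over a coset `w K`, `w`
centralizing `K`, to a multiple of a root of unity. -/
theorem exists_root_sum {H : Type u} [Group H] [Fintype H] {φ : H → ℂ} (hφ : IsCharacter H φ)
    (K : Subgroup H) [Fintype K] (h1 : ∑ a : K, φ (a : H) = (Nat.card K : ℂ)) {w : H}
    (hc : ∀ a ∈ K, w * a = a * w) :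
    ∃ ζ : ℂ, ζ ^ orderOf w = 1 ∧ ∑ a : K, φ (w * a) = (Nat.card K : ℂ) * ζ := by
  obtain ⟨n, ρ, rfl⟩ := hφ
  set E₀ : Module.End ℂ (Fin n → ℂ) := ∑ a : K, ρ (a : H) with hE₀
  have hK : (Nat.card K : ℂ) ≠ 0 := Nat.cast_ne_zero.2 Nat.card_pos.ne'
  have hsq : E₀ * E₀ = (Nat.card K : ℂ) • E₀ := by
    rw [hE₀, Finset.sum_mul_sum]
    simp only [← map_mul]
    have hre : ∀ a : K, ∑ b : K, ρ ((a : H) * b) = ∑ b : K, ρ (b : H) := fun a =>
      Fintype.sum_equiv (Equiv.mulLeft a) _ _ fun b => rfl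
    rw [Finset.sum_congr rfl fun a _ => hre a, Finset.sum_const, Finset.card_univ,
      Nat.card_eq_fintype_card, Nat.cast_smul_eq_nsmul]
  set E : Module.End ℂ (Fin n → ℂ) := (Nat.card K : ℂ)⁻¹ • E₀ with hE
  have hE2 : IsIdempotentElem E := by
    show E * E = E
    rw [hE, smul_mul_smul_comm, hsq, smul_smul, mul_assoc, inv_mul_cancel₀ hK, mul_one]
  obtain ⟨p, hp⟩ : ∃ p, LinearMap.IsProj p E :=
    ⟨_, (LinearMap.isProj_range_iff_isIdempotentElem E).mpr hE2⟩
  have htr : LinearMap.trace ℂ _ E = 1 := by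
    rw [hE, hE₀, map_smul, map_sum]
    simp only [Representation.character] at h1
    rw [h1, smul_eq_mul, inv_mul_cancel₀ hK]
  rw [hp.trace] at htr
  obtain ⟨v0, hv0, hspan⟩ := (finrank_eq_one_iff' (K := ℂ) (V := p)).1 (by exact_mod_cast htr)
  have hcomm : ρ w * E = E * ρ w := by
    rw [hE, hE₀, mul_smul_comm, smul_mul_assoc, Finset.mul_sum, Finset.sum_mul]
    simp only [← map_mul, hc _ (SetLike.coe_mem _)]
  have hmem : ρ w (v0 : Fin n → ℂ) ∈ p := by
    have h2 := congrArg (fun f : Module.End ℂ (Fin n → ℂ) => f (v0 : Fin n → ℂ)) hcomm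
    simp only [Module.End.mul_apply, hp.map_id _ v0.2] at h2
    rw [h2]
    exact hp.map_mem _
  obtain ⟨ζ, hζ⟩ := hspan ⟨_, hmem⟩
  have hζ' : ρ w (v0 : Fin n → ℂ) = ζ • (v0 : Fin n → ℂ) := (congrArg Subtype.val hζ).symm
  have hpow : ∀ i : ℕ, ρ (w ^ i) (v0 : Fin n → ℂ) = (ζ ^ i) • (v0 : Fin n → ℂ) := by
    intro i
    induction i with
    | zero => simp
    | succ i ih =>
      rw [pow_succ, map_mul, Module.End.mul_apply, hζ', map_smul, ih, smul_smul, pow_succ']
  refine ⟨ζ, ?_, ?_⟩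
  · have h2 := hpow (orderOf w)
    rw [pow_orderOf_eq_one, map_one, Module.End.one_apply] at h2
    have h3 : ((ζ ^ orderOf w - 1) • (v0 : Fin n → ℂ)) = 0 := by
      rw [sub_smul, one_smul, ← h2, sub_self]
    exact sub_eq_zero.1 ((smul_eq_zero.1 h3).resolve_right fun e => hv0 (Subtype.ext e))
  have hwE : ρ w * E = ζ • E := by
    refine LinearMap.ext fun v => ?_
    obtain ⟨c, hc'⟩ := hspan ⟨E v, hp.map_mem v⟩
    have hc'' : E v = c • (v0 : Fin n → ℂ) := (congrArg Subtype.val hc').symm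
    show ρ w (E v) = ζ • E v
    rw [hc'', map_smul, hζ', smul_comm]
  calc ∑ a : K, ρ.character (w * a) = LinearMap.trace ℂ _ (ρ w * E₀) := by
        rw [hE₀, Finset.mul_sum, map_sum]
        simp [Representation.character]
    _ = (Nat.card K : ℂ) * LinearMap.trace ℂ _ (ρ w * E) := by
        rw [hE, mul_smul_comm, map_smul, smul_eq_mul, ← mul_assoc, mul_inv_cancel₀ hK, one_mul]
    _ = (Nat.card K : ℂ) * ζ := by
        rw [hwE, map_smul, hp.trace]
        simp [show Module.finrank ℂ p = 1 by exact_mod_cast htr]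

/-- In the principal block the value at `t w`, `w` of odd order centralizing the involution `t`, is the
value at `x`. -/
theorem Main.apply_mul_odd (m : Main M u k T x) {t w : G} (ht : orderOf t = 2) (hw : ¬ 2 ∣ orderOf w)
    (hc : Commute t w) {χ : IrrCharacter G} (hχ : χ ∈ principalBlock M G) :
    (χ : G → ℂ) (t * w) = (χ : G → ℂ) x := by
  obtain ⟨g, hg⟩ := isConj_iff.1 (m.isConjX t ht)
  have hmem : g * w * g⁻¹ ∈ Subgroup.centralizer ({x} : Set G) := by
    rw [Subgroup.mem_centralizer_singleton_iff, ← hg]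
    calc g * w * g⁻¹ * (g * t * g⁻¹) = g * (w * t) * g⁻¹ := by group
      _ = g * (t * w) * g⁻¹ := by rw [hc.eq]
      _ = g * t * g⁻¹ * (g * w * g⁻¹) := by group
  have hodd : ¬ 2 ∣ orderOf (⟨_, hmem⟩ : Subgroup.centralizer ({x} : Set G)) := by
    rw [← Subgroup.orderOf_coe, show orderOf (g * w * g⁻¹) = orderOf w from
      MulEquiv.orderOf_eq (MulAut.conj g) w]
    exact hw
  haveI : (pPrimeCore 2 (Subgroup.centralizer ({x} : Set G))).Normal := pPrimeCore_normal 2 _
  have h := principal_apply_mul m.hyp.hM (u := x) ⟨1, by rw [m.xo, pow_one]⟩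
    (N := pPrimeCore 2 (Subgroup.centralizer ({x} : Set G))) CfsgLib.PCore.not_dvd_card_pPrimeCore
    (m.twoNilp _ hodd) hχ
  rw [← irr_isClassFunction χ (t * w) g, show g * (t * w) * g⁻¹ = g * t * g⁻¹ * (g * w * g⁻¹) by group,
    hg]
  exact h

/-- A faithful character of the block of degree one less than the Sylow order, `-1` on involutions. -/
theorem Main.exists_small (m : Main M u k T x) :
    ∃ χ ∈ rest (G := G) M, dg χ + 1 = Nat.card (T : Subgroup G) ∧
      (∀ t : G, orderOf t = 2 → (χ : G → ℂ) t = -1) ∧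
      ∀ g : G, (χ : G → ℂ) g = (χ : G → ℂ) 1 → g = 1 := by
  set q := Nat.card (T : Subgroup G) with hq
  obtain ⟨y, hy, hxy⟩ := m.exists_y
  have hy' : ¬ 2 ∣ orderOf (y : G) := by rwa [Subgroup.orderOf_coe]
  have hyc : Commute x (y : G) := (commute_centralizer y)
  have hval : ∀ χ ∈ rest (G := G) M, (χ : G → ℂ) x = (dg χ : ℂ) - (q : ℂ) := fun χ hχ => by
    rw [← m.apply_mul_odd m.xo hy' hyc (mem_rest.1 hχ).2, hxy, m.hyp.val hχ, m.kq]
  obtain ⟨χ, hχ, hlt⟩ : ∃ χ ∈ rest (G := G) M, dg χ < q := by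
    by_contra hall
    push Not at hall
    have h0 := sum_dg_mul m.hyp.hM (isPPart_self ⟨1, by rw [m.xo, pow_one]⟩)
      (fun e => by have := m.xo; rw [e, orderOf_one] at this; omega)
    rw [sum_blockSet m.hyp.hM, dg_principal, principalIrr_apply,
      Finset.sum_congr rfl fun χ hχ => by rw [hval χ hχ]] at h0
    have h1 : (1 : ℤ) + ∑ χ ∈ rest (G := G) M, (dg χ : ℤ) * ((dg χ : ℤ) - q) = 0 := by
      have h2 : (((1 : ℤ) + ∑ χ ∈ rest (G := G) M, (dg χ : ℤ) * ((dg χ : ℤ) - q) : ℤ) : ℂ) = 0 := by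
        push_cast
        simpa using h0
      exact_mod_cast h2
    have h2 : 0 ≤ ∑ χ ∈ rest (G := G) M, (dg χ : ℤ) * ((dg χ : ℤ) - q) :=
      Finset.sum_nonneg fun χ hχ => mul_nonneg (by positivity) (by have := hall χ hχ; omega)
    omega
  obtain ⟨n0, n1, hx1, hn⟩ := m.exists_mult χ
  rw [← hq] at hn
  have h1 : (n0 : ℤ) - n1 = (dg χ : ℤ) - q := by
    have h2 : (((n0 : ℤ) - n1 : ℤ) : ℂ) = (((dg χ : ℤ) - q : ℤ) : ℂ) := by
      push_cast
      rw [← hx1, hval χ hχ]
    exact_mod_cast h2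
  have hn1 : n1 = 1 := by
    have hqpos : 0 < q := Nat.card_pos
    have h3 : (q : ℤ) * n1 = q := by
      have : (dg χ : ℤ) + n1 = n0 + q * n1 := by exact_mod_cast hn
      omega
    exact_mod_cast mul_left_cancel₀ (by omega : (q : ℤ) ≠ 0) (h3.trans (mul_one _).symm)
  subst hn1
  rw [mul_one] at hn
  have hdeg : dg χ + 1 = q := by omega
  have hinv : ∀ t : G, orderOf t = 2 → (χ : G → ℂ) t = -1 := fun t ht => by
    rw [classFunction_eq_of_isConj (irr_isClassFunction χ) (m.isConjX t ht), hval χ hχ, ← hdeg]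
    push_cast
    ring
  refine ⟨χ, hχ, hdeg, hinv, fun g hg => ?_⟩
  have hmem : g ∈ CfsgLib.Chars17.irrKer χ := CfsgLib.Chars17.mem_irrKer.2 hg
  have hodd : ¬ 2 ∣ Nat.card (CfsgLib.Chars17.irrKer χ) := by
    intro hd
    obtain ⟨s, hs⟩ := exists_prime_orderOf_dvd_card' 2 hd
    have hs' : orderOf (s : G) = 2 := by rw [Subgroup.orderOf_coe, hs]
    have h4 : (χ : G → ℂ) (s : G) = (χ : G → ℂ) 1 := CfsgLib.Chars17.mem_irrKer.1 s.2
    rw [hinv _ hs', coe_dg] at h4
    have h5 : ((-1 : ℤ) : ℂ) = ((dg χ : ℤ) : ℂ) := by push_cast; exact h4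
    have h6 : (-1 : ℤ) = (dg χ : ℤ) := by exact_mod_cast h5
    omega
  have hn : (CfsgLib.Chars17.irrKer χ).Normal := ⟨fun a ha c => CfsgLib.Chars17.mem_irrKer.2 (by
    rw [irr_isClassFunction χ a c]
    exact CfsgLib.Chars17.mem_irrKer.1 ha)⟩
  have hle := CfsgLib.PCore.le_pPrimeCore_of_not_dvd hn hodd hmem
  rw [m.hyp.core] at hle
  exact Subgroup.mem_bot.1 hle

/-- An element of odd order centralizing the Sylow subgroup is trivial. -/
theorem Main.eq_one_of_centralizes (m : Main M u k T x) {w : G} (hw : ¬ 2 ∣ orderOf w)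
    (hc : ∀ t ∈ (T : Subgroup G), Commute t w) : w = 1 := by
  obtain ⟨χ, hχ, hdeg, hinv, hfaith⟩ := m.exists_small
  refine hfaith w ?_
  have hval : ∀ t : (T : Subgroup G), t ≠ 1 → (χ : G → ℂ) (w * t) = -1 := fun t ht => by
    have hto : orderOf (t : G) = 2 :=
      orderOf_eq_prime (by rw [pow_two, m.el t t.2]) fun e => ht (Subtype.ext e)
    rw [← (hc t t.2).eq, m.apply_mul_odd hto hw (hc t t.2) (mem_rest.1 hχ).2, hinv x m.xo]
  have hsplit : ∀ F : ↥(T : Subgroup G) → ℂ,
      ∑ t, F t = F 1 + ∑ t ∈ Finset.univ.erase 1, F t :=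
    fun F => (Finset.add_sum_erase _ _ (Finset.mem_univ 1)).symm
  have hcard : ((Finset.univ.erase (1 : (T : Subgroup G))).card : ℂ) = (dg χ : ℂ) := by
    rw [Finset.card_erase_of_mem (Finset.mem_univ _), Finset.card_univ, ← Nat.card_eq_fintype_card,
      ← hdeg, Nat.add_sub_cancel]
  have h1 : ∑ t : (T : Subgroup G), (χ : G → ℂ) (t : G) = 0 := by
    rw [hsplit, Finset.sum_congr rfl (g := fun _ => (-1 : ℂ)) (fun t ht => hinv _ (orderOf_eq_prime
      (by rw [pow_two, m.el t t.2]) fun e => Finset.ne_of_mem_erase ht (Subtype.ext e))),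
      Finset.sum_const, nsmul_eq_mul, hcard, Subgroup.coe_one, coe_dg]
    ring
  have h2 := CfsgLib.GLCusp.sum_coset_eq_zero (irr_isCharacter χ) (T : Subgroup G) h1 w
  rw [hsplit, Finset.sum_congr rfl fun t ht => hval t (Finset.ne_of_mem_erase ht),
    Finset.sum_const, nsmul_eq_mul, hcard, Subgroup.coe_one, mul_one] at h2
  rw [coe_dg]
  linear_combination h2

/-- An element of the core of `C(x)` is trivial. -/
theorem Main.core_centralizer_eq_bot (m : Main M u k T x) : centralizerPPrimeCore 2 x = ⊥ := by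
  set R := centralizerPPrimeCore 2 x with hR
  have hRodd : ¬ 2 ∣ Nat.card R := by
    rw [hR, centralizerPPrimeCore, Subgroup.card_map_of_injective Subtype.coe_injective]
    exact CfsgLib.PCore.not_dvd_card_pPrimeCore
  have hwodd : ∀ w ∈ R, ¬ 2 ∣ orderOf w := fun w hw hd =>
    hRodd (hd.trans (Subgroup.orderOf_dvd_natCard R hw))
  haveI : (pPrimeCore 2 (Subgroup.centralizer ({x} : Set G))).Normal := pPrimeCore_normal 2 _
  have hTR : ∀ t ∈ (T : Subgroup G), ∀ w ∈ R, t * w * t⁻¹ ∈ R := by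
    rintro t ht _ ⟨c, hc, rfl⟩
    exact ⟨⟨t, m.sylow_le ht⟩ * c * (⟨t, m.sylow_le ht⟩)⁻¹,
      (inferInstance : (pPrimeCore 2 (Subgroup.centralizer ({x} : Set G))).Normal).conj_mem c hc _,
      rfl⟩
  by_contra hne
  have hT1 : (T : Subgroup G) ≠ ⊥ := fun e => by
    have := m.four
    rw [e, Subgroup.card_bot] at this
    omega
  obtain ⟨U, hUT, hco, hfix⟩ := CfsgLib.Generation.exists_coatom_fixed (p := 2)
    (U := (T : Subgroup G)) (R := R) ⟨⟨fun a b => Subtype.ext (m.ab _ a.2 _ b.2)⟩⟩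
    (fun a ha => by rw [pow_two]; exact m.el a ha) hT1
    (fun t ht => Subgroup.mem_normalizer_iff.2 fun w => ⟨hTR t ht w, fun hw => by
      have := hTR t⁻¹ ((T : Subgroup G).inv_mem ht) _ hw
      simpa [mul_assoc] using this⟩)
    (CfsgLib.PCore.coprime_of_not_dvd_card hRodd) hne
  have hidx := CfsgLib.PGroup.index_of_isCoatom T.2 hco
  set RU := R ⊓ Subgroup.centralizer (U : Set G) with hRU
  obtain ⟨t, htT, htU⟩ : ∃ t ∈ (T : Subgroup G), t ∉ U := by
    by_contra hall
    push Not at hall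
    have h1 : U.subgroupOf (T : Subgroup G) = ⊤ := Subgroup.subgroupOf_eq_top.2 hall
    rw [h1, Subgroup.index_top] at hidx
    omega
  have hgen : ∀ s ∈ (T : Subgroup G), s ∈ U ∨ t * s ∈ U := by
    intro s hs
    have h1 := (Subgroup.mul_mem_iff_of_index_two hidx (a := (⟨t, htT⟩ : (T : Subgroup G)))
      (b := ⟨s, hs⟩))
    simp only [Subgroup.mem_subgroupOf, Subgroup.coe_mul] at h1
    tauto
  have ht2 : t * t = 1 := m.el t htT
  have htinv : t⁻¹ = t := inv_eq_of_mul_eq_one_right ht2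
  have hRUt : ∀ w ∈ RU, t * w * t⁻¹ ∈ RU := fun w hw => ⟨hTR t htT w hw.1,
    Subgroup.mem_centralizer_iff.2 fun s hs => by
      have h1 := Subgroup.mem_centralizer_iff.1 hw.2 s hs
      have h2 := m.ab s (hUT hs) t htT
      have h3 : s * t⁻¹ = t⁻¹ * s := by rw [htinv]; exact h2
      calc s * (t * w * t⁻¹) = (s * t) * w * t⁻¹ := by group
        _ = t * (s * w) * t⁻¹ := by rw [h2]; group
        _ = t * w * (s * t⁻¹) := by rw [h1]; group
        _ = t * w * t⁻¹ * s := by rw [h3]; group⟩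
  -- `t` inverts `RU`
  have hfree : ∀ w ∈ RU, t * w * t⁻¹ = w → w = 1 := by
    intro w hw he
    refine m.eq_one_of_centralizes (hwodd w hw.1) fun s hs => ?_
    have htw : Commute t w := mul_inv_eq_iff_eq_mul.1 he
    rcases hgen s hs with h | h
    · exact Subgroup.mem_centralizer_iff.1 hw.2 s h
    · have h1 : Commute (t * s) w := Subgroup.mem_centralizer_iff.1 hw.2 _ h
      have h2 : s = t * (t * s) := by rw [← mul_assoc, ht2, one_mul]
      rw [h2]
      exact htw.mul_left h1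
  have hinvert : ∀ r ∈ RU, t * r * t⁻¹ = r⁻¹ := by
    intro r hr
    let f : RU → RU := fun w => ⟨(w : G)⁻¹ * (t * (w : G) * t⁻¹),
      RU.mul_mem (RU.inv_mem w.2) (hRUt _ w.2)⟩
    have hf : Function.Injective f := by
      intro a b hab
      have h1 : (a : G)⁻¹ * (t * (a : G) * t⁻¹) = (b : G)⁻¹ * (t * (b : G) * t⁻¹) :=
        congrArg Subtype.val hab
      have h2 : t * ((b : G) * (a : G)⁻¹) * t⁻¹ = (b : G) * (a : G)⁻¹ := by
        have h3 : (b : G) * ((a : G)⁻¹ * (t * (a : G) * t⁻¹)) = t * (b : G) * t⁻¹ := by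
          rw [h1]; group
        calc t * ((b : G) * (a : G)⁻¹) * t⁻¹ = (t * (b : G) * t⁻¹) * (t * (a : G) * t⁻¹)⁻¹ := by group
          _ = (b : G) * ((a : G)⁻¹ * (t * (a : G) * t⁻¹)) * (t * (a : G) * t⁻¹)⁻¹ := by rw [h3]
          _ = _ := by group
      exact Subtype.ext (mul_inv_eq_one.1 (hfree _ (RU.mul_mem b.2 (RU.inv_mem a.2)) h2)).symm
    obtain ⟨w, hw⟩ := (Finite.surjective_of_injective hf) ⟨r, hr⟩
    have h4 : (w : G)⁻¹ * (t * (w : G) * t⁻¹) = r := congrArg Subtype.val hw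
    rw [← h4, htinv]
    calc t * ((w : G)⁻¹ * (t * (w : G) * t)) * t = t * (w : G)⁻¹ * t * (w : G) * (t * t) := by group
      _ = t * (w : G)⁻¹ * t * (w : G) := by rw [ht2, mul_one]
      _ = _ := by rw [mul_inv_rev, mul_inv_rev, mul_inv_rev, inv_inv, htinv]; group
  obtain ⟨χ, hχ, hdeg, hinv, hfaith⟩ := m.exists_small
  obtain ⟨w, hw, hw1⟩ := (Subgroup.bot_or_exists_ne_one _).resolve_left hfix
  have hcU : ∀ a ∈ U, w * a = a * w := fun a ha =>
    (Subgroup.mem_centralizer_iff.1 hw.2 a ha).symm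
  have hUcard : 2 * Nat.card U = dg χ + 1 := by
    rw [hdeg, ← (U.subgroupOf (T : Subgroup G)).index_mul_card, hidx,
      Nat.card_congr (Subgroup.subgroupOfEquivOfLe hUT).toEquiv]
  have hsplit : ∀ F : ↥U → ℂ, ∑ t, F t = F 1 + ∑ t ∈ Finset.univ.erase 1, F t :=
    fun F => (Finset.add_sum_erase _ _ (Finset.mem_univ 1)).symm
  have hcard : ((Finset.univ.erase (1 : U)).card : ℂ) = (Nat.card U : ℂ) - 1 := by
    rw [Finset.card_erase_of_mem (Finset.mem_univ _), Finset.card_univ,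
      Nat.card_eq_fintype_card, Nat.cast_sub Fintype.card_pos]
    simp
  have hd : (dg χ : ℂ) = 2 * (Nat.card U : ℂ) - 1 := by
    have : ((2 * Nat.card U : ℕ) : ℂ) = ((dg χ + 1 : ℕ) : ℂ) := by rw [hUcard]
    push_cast at this
    linear_combination -this
  have ho : ∀ a : U, a ≠ 1 → orderOf (a : G) = 2 := fun a ha =>
    orderOf_eq_prime (by rw [pow_two, m.el _ (hUT a.2)]) fun e => ha (Subtype.ext e)
  have h1 : ∑ a : U, (χ : G → ℂ) (a : G) = (Nat.card U : ℂ) := by
    rw [hsplit, Finset.sum_congr rfl (g := fun _ => (-1 : ℂ))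
      (fun a ha => hinv _ (ho a (Finset.ne_of_mem_erase ha))),
      Finset.sum_const, nsmul_eq_mul, hcard, Subgroup.coe_one, coe_dg, hd]
    ring
  obtain ⟨ζ, hζ, hsum⟩ := exists_root_sum (irr_isCharacter χ) U h1 hcU
  rw [hsplit, Finset.sum_congr rfl (g := fun _ => (-1 : ℂ)) (fun a ha => by
      have hca : Commute (a : G) w := Subgroup.mem_centralizer_iff.1 hw.2 a a.2
      rw [← hca.eq, m.apply_mul_odd (ho a (Finset.ne_of_mem_erase ha)) (hwodd w hw.1) hca
        (mem_rest.1 hχ).2, hinv x m.xo]),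
    Finset.sum_const, nsmul_eq_mul, hcard, Subgroup.coe_one, mul_one] at hsum
  have hreal : conj ((χ : G → ℂ) w) = (χ : G → ℂ) w := by
    rw [← irr_apply_inv, ← hinvert w hw, irr_isClassFunction χ w t]
  have hU0 : (Nat.card U : ℂ) ≠ 0 := Nat.cast_ne_zero.2 Nat.card_pos.ne'
  have hζreal : conj ζ = ζ := by
    have h3 := congrArg conj hsum
    simp only [map_add, map_mul, map_neg, map_sub, map_one, hreal, Complex.conj_natCast] at h3
    exact mul_left_cancel₀ hU0 (h3.symm.trans hsum)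
  have hζ1 : ζ = 1 := by
    obtain ⟨r, hr⟩ := Complex.conj_eq_iff_real.1 hζreal
    subst hr
    have h3 : r ^ orderOf w = 1 := by exact_mod_cast hζ
    have hod : Odd (orderOf w) :=
      Nat.not_even_iff_odd.1 fun he => hwodd w hw.1 he.two_dvd
    rcases pow_eq_one_iff_cases.1 h3 with h | h | ⟨-, h⟩
    · exact absurd h (orderOf_pos w).ne'
    · rw [h]; simp
    · exact absurd h (Nat.not_even_iff_odd.2 hod)
  refine hw1 (hfaith w ?_)
  rw [coe_dg, hd]
  subst hζ1
  linear_combination hsum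

/-- The centraliser of `x` is the Sylow subgroup. -/
theorem Main.centralizer_eq (m : Main M u k T x) :
    Subgroup.centralizer ({x} : Set G) = (T : Subgroup G) := by
  refine le_antisymm (fun c hc => ?_) m.sylow_le
  have hodd : ∀ d ∈ Subgroup.centralizer ({x} : Set G), ¬ 2 ∣ orderOf d → d = 1 := by
    intro d hd hdo
    have h1 : d ∈ centralizerPPrimeCore 2 x :=
      ⟨⟨d, hd⟩, m.twoNilp _ (by rwa [← Subgroup.orderOf_coe]), rfl⟩
    rwa [m.core_centralizer_eq_bot, Subgroup.mem_bot] at h1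
  obtain ⟨a, b, hb, hab⟩ := Nat.exists_eq_two_pow_mul_odd (orderOf_pos c).ne'
  have hc2 : c ^ 2 ^ a = 1 := by
    refine hodd _ (Subgroup.pow_mem _ hc _) ?_
    rw [orderOf_pow' c (pow_ne_zero _ two_ne_zero), hab, Nat.gcd_mul_right_left,
      Nat.mul_div_cancel_left _ (pow_pos two_pos a)]
    exact fun h => (Nat.not_even_iff_odd.2 hb) (even_iff_two_dvd.2 h)
  set C := Subgroup.centralizer ({x} : Set G)
  -- every 2-element of the centralizer lies in `T`, as the odd part is trivial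
  have hP : IsPGroup 2 C := fun d => by
    obtain ⟨a', b', hb', hab'⟩ := Nat.exists_eq_two_pow_mul_odd (orderOf_pos (d : G)).ne'
    refine ⟨a', Subtype.ext ?_⟩
    rw [Subgroup.coe_pow, Subgroup.coe_one]
    refine hodd _ (Subgroup.pow_mem _ d.2 _) ?_
    rw [orderOf_pow' _ (pow_ne_zero _ two_ne_zero), hab', Nat.gcd_mul_right_left,
      Nat.mul_div_cancel_left _ (pow_pos two_pos a')]
    exact fun h => (Nat.not_even_iff_odd.2 hb') (even_iff_two_dvd.2 h)
  rw [← T.3 hP m.sylow_le]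
  exact hc

theorem Main.u_eq (m : Main M u k T x) : u = x := by
  obtain ⟨y, hy, hxy⟩ := m.exists_y
  have h1 : y = 1 := by
    have h := m.twoNilp y hy
    have h2 : (y : G) ∈ centralizerPPrimeCore 2 x := ⟨y, h, rfl⟩
    rw [m.core_centralizer_eq_bot, Subgroup.mem_bot] at h2
    exact Subtype.ext h2
  rw [← hxy, h1, Subgroup.coe_one, mul_one]

theorem Main.not_normal (m : Main M u k T x) : ¬ (T : Subgroup G).Normal := by
  intro hn
  haveI := hn
  have hC : Subgroup.centralizer ((T : Subgroup G) : Set G) ≤ (T : Subgroup G) :=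
    le_trans (Subgroup.centralizer_le (Set.singleton_subset_iff.2 m.xT)) m.centralizer_eq.le
  have hne : (T : Subgroup G) ≠ ⊤ := by
    intro htop
    obtain ⟨t, htT, ht1, htx⟩ : ∃ t ∈ (T : Subgroup G), t ≠ 1 ∧ t ≠ x := by
      by_contra hall
      push Not at hall
      have : Nat.card (T : Subgroup G) ≤ 2 := by
        rw [Nat.card_eq_fintype_card, ← Finset.card_univ]
        refine le_trans (Finset.card_le_card_of_injOn (t := ({1, x} : Finset G))
          (fun t : (T : Subgroup G) => (t : G)) (fun t _ => ?_) Subtype.coe_injective.injOn)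
          Finset.card_le_two
        simp only [Finset.mem_coe, Finset.mem_insert, Finset.mem_singleton]
        by_cases h : (t : G) = 1
        · exact Or.inl h
        · exact Or.inr (hall t t.2 h)
      have := m.four
      omega
    obtain ⟨c, hc⟩ := isConj_iff.1 (m.isConjX t (orderOf_eq_prime (by rw [pow_two, m.el t htT]) ht1))
    refine htx ?_
    rw [← hc, m.ab c (htop ▸ Subgroup.mem_top c) t htT, mul_inv_cancel_right]
  haveI : Nontrivial (G ⧸ (T : Subgroup G)) := QuotientGroup.nontrivial_iff.2 hne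
  haveI : Group.IsSolvable (G ⧸ (T : Subgroup G)) := isSolvable_of_odd_card T.not_dvd_index
  set Q := G ⧸ (T : Subgroup G)
  obtain ⟨r, hr⟩ : ∃ r : Q, r ∉ commutator Q := by
    by_contra hall
    push Not at hall
    exact (Group.IsSolvable.commutator_lt_top_of_nontrivial Q).ne ((Subgroup.eq_top_iff' _).2 hall)
  obtain ⟨φ, hφ⟩ := CommGroup.exists_apply_ne_one_of_hasEnoughRootsOfUnity (Abelianization Q) ℂ
    (a := Abelianization.of r) fun e => hr ((QuotientGroup.eq_one_iff r).1 e)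
  let f : G →* ℂˣ := (φ.comp Abelianization.of).comp (QuotientGroup.mk' (T : Subgroup G))
  let lam : IrrCharacter G := ⟨_, isIrrCharacter_of_hom f⟩
  have hmem : lam ∈ rest (G := G) M := by
    refine mem_rest.2 ⟨fun e => hφ ?_, ?_⟩
    · obtain ⟨g, rfl⟩ := QuotientGroup.mk'_surjective (T : Subgroup G) r
      refine Units.ext ?_
      have := congrArg (fun χ : IrrCharacter G => (χ : G → ℂ) g) e
      simp only [principalIrr_apply] at this
      simp [lam, f] at this
      exact congrArg Units.val this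
    · rw [CfsgLib.SingleBlock.principalBlock_eq_univ m.hyp.hM (T : Subgroup G) T.2 hC]
      trivial
  have h := m.hyp.eq lam hmem
  have hfx : f u = 1 := by
    have : (QuotientGroup.mk' (T : Subgroup G)) u = 1 := (QuotientGroup.eq_one_iff u).2 (m.u_eq ▸ m.xT)
    simp [f, MonoidHom.comp_apply, this]
  rw [show (lam : G → ℂ) 1 = ((f 1 : ℂˣ) : ℂ) from rfl,
    show (lam : G → ℂ) u = ((f u : ℂˣ) : ℂ) from rfl, map_one, hfx, sub_self, m.kq] at h
  exact (Nat.cast_ne_zero.2 Nat.card_pos.ne') h.symm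

/-- The structure of the group. -/
theorem Main.structure_thm (m : Main M u k T x) :
    u ^ 2 = 1 ∧ ∃ (F : Type) (_ : Field F) (_ : Fintype F) (n : ℕ), 2 ≤ n ∧
      Fintype.card F = 2 ^ n ∧
      Nonempty (G ≃* Matrix.ProjectiveSpecialLinearGroup (Fin 2) F) := by
  refine ⟨by rw [m.u_eq, ← m.xo]; exact pow_orderOf_eq_one x, ?_⟩
  have hnc : ¬ IsCyclic (T : Subgroup G) := by
    intro hcyc
    obtain ⟨g, hg⟩ := IsCyclic.exists_ofOrder_eq_natCard (α := (T : Subgroup G))
    have h2 : orderOf g ∣ 2 := orderOf_dvd_of_pow_eq_one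
      (by rw [pow_two]; exact Subtype.ext (m.el g g.2))
    have := Nat.le_of_dvd two_pos h2
    have := m.four
    omega
  have hC : ∀ t : G, orderOf t = 2 → IsMulCommutative (Subgroup.centralizer ({t} : Set G)) ∧
      ∀ c ∈ Subgroup.centralizer ({t} : Set G), c ^ 2 = 1 := by
    intro t ht
    obtain ⟨g, hg⟩ := isConj_iff.1 (m.isConjX t ht)
    have hmap : ∀ c ∈ Subgroup.centralizer ({t} : Set G), g * c * g⁻¹ ∈ (T : Subgroup G) := by
      intro c hc
      rw [← m.centralizer_eq, Subgroup.mem_centralizer_singleton_iff, ← hg]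
      rw [show g * c * g⁻¹ * (g * t * g⁻¹) = g * (c * t) * g⁻¹ by group,
        Subgroup.mem_centralizer_singleton_iff.1 hc]
      group
    refine ⟨⟨⟨fun a b => Subtype.ext ?_⟩⟩, fun c hc => ?_⟩
    · have h := m.ab _ (hmap _ a.2) _ (hmap _ b.2)
      rw [show g * (a : G) * g⁻¹ * (g * (b : G) * g⁻¹) = g * ((a : G) * b) * g⁻¹ by group,
        show g * (b : G) * g⁻¹ * (g * (a : G) * g⁻¹) = g * ((b : G) * a) * g⁻¹ by group] at h
      exact mul_left_cancel (mul_right_cancel h)
    · have h := m.el _ (hmap c hc)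
      rw [show g * c * g⁻¹ * (g * c * g⁻¹) = g * (c * c) * g⁻¹ by group, conj_eq_one_iff] at h
      rw [pow_two, h]
  obtain ⟨F, iF, iFF, hF, hiso⟩ := Cfsg.Agent.S1230.result T hnc m.not_normal hC
  obtain ⟨n, hn⟩ := T.2.exists_card_eq
  refine ⟨F, iF, iFF, n, ?_, hF.trans hn, hiso⟩
  by_contra hlt
  have := Nat.pow_le_pow_right two_pos (show n ≤ 1 by omega)
  have := m.four
  omega

/-- The forward direction for a group without normal subgroups of odd order. -/
theorem Hyp.forward (h : Hyp M u k) :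
    Nat.card G = 2 ∨ (u ^ 2 = 1 ∧ ∃ (F : Type) (_ : Field F) (_ : Fintype F) (n : ℕ), 2 ≤ n ∧
      Fintype.card F = 2 ^ n ∧
      Nonempty (G ≃* Matrix.ProjectiveSpecialLinearGroup (Fin 2) F)) := by
  by_cases h2 : Nat.card G = 2
  · exact Or.inl h2
  · obtain ⟨T, x, m⟩ := h.exists_main h2
    exact Or.inr m.structure_thm

end CfsgLib.ConstDiff
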