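import Cfsg.Agent.Lib.ConstDiff.KleinBlock
import Cfsg.Agent.Lib.Chars17.PGroupGalois

/-!
# Small Sylow 2-subgroups

The centraliser of an involution is solvable when the Sylow 2-subgroup has order at most eight.
-/

set_option autoImplicit false
set_option linter.unusedSectionVars false
set_option linter.style.haveILetI false

noncomputable section

namespace CfsgLib.ConstDiff

open Cfsg CfsgLib.Characters CfsgLib.Blocks CfsgLib.Induction
open scoped ComplexConjugate Classical

universe u

variable {G : Type u} [Group G] [Fintype G] [hp2 : Fact (Nat.Prime 2)] {M : Ideal AlgInt}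
  {u : G} {k : ℂ} {T : Sylow 2 G} {x : G}

/-- The multiplicities of the trivial and of a nontrivial linear character of the Sylow subgroup. -/
theorem Main.exists_mult (m : Main M u k T x) (χ : IrrCharacter G) :
    ∃ n0 n1 : ℕ, (χ : G → ℂ) x = (n0 : ℂ) - n1 ∧
      dg χ + n1 = n0 + Nat.card (T : Subgroup G) * n1 := by
  set q := Nat.card (T : Subgroup G) with hq
  have hq0 : (q : ℂ) ≠ 0 := Nat.cast_ne_zero.2 Nat.card_pos.ne'
  have hval : ∀ t : (T : Subgroup G), t ≠ 1 → (χ : G → ℂ) (t : G) = (χ : G → ℂ) x := by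
    intro t ht
    have ht' : (t : G) ≠ 1 := fun e => ht (Subtype.ext e)
    exact classFunction_eq_of_isConj (irr_isClassFunction χ)
      (m.isConjX _ (orderOf_eq_prime (by rw [pow_two, m.el t t.2]) ht'))
  obtain ⟨n0, hn0⟩ := exists_sum_subgroup (irr_isCharacter χ) (T : Subgroup G)
  letI : CommGroup (T : Subgroup G) :=
    { (inferInstance : Group (T : Subgroup G)) with
      mul_comm := fun a b => Subtype.ext (m.ab _ a.2 _ b.2) }
  have hx1 : (⟨x, m.xT⟩ : (T : Subgroup G)) ≠ 1 := fun e => by
    have := congrArg Subtype.val e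
    simp only [Subgroup.coe_one] at this
    have := m.xo
    rw [‹x = 1›, orderOf_one] at this
    omega
  obtain ⟨φ, hφ⟩ := CommGroup.exists_apply_ne_one_of_hasEnoughRootsOfUnity
    (T : Subgroup G) ℂ hx1
  let lam : (T : Subgroup G) →* ℂ := (Units.coeHom ℂ).comp φ
  obtain ⟨n1, hn1⟩ := classInner_char_nat
    (CfsgLib.Clifford.isCharacter_subtype (irr_isCharacter χ) (T : Subgroup G))
    (isCharacter_monoidHom lam)
  have hlsum : ∑ t : (T : Subgroup G), conj (lam t) = 0 := by
    refine CfsgLib.GLCusp.eq_zero_of_eq_mul (c := conj (lam ⟨x, m.xT⟩)) ?_ ?_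
    · intro e
      refine hφ (Units.ext ?_)
      have := congrArg conj e
      simpa [lam] using this
    · rw [Finset.mul_sum]
      exact (Fintype.sum_equiv (Equiv.mulLeft (⟨x, m.xT⟩ : (T : Subgroup G))) _ _ fun t => by
        rw [← map_mul, ← map_mul]; rfl).symm
  have hsplit : ∀ F : ↥(T : Subgroup G) → ℂ, ∑ t, F t = F 1 + ∑ t ∈ Finset.univ.erase 1, F t :=
    fun F => (Finset.add_sum_erase _ _ (Finset.mem_univ 1)).symm
  have hcard : ((Finset.univ.erase (1 : (T : Subgroup G))).card : ℂ) = (q : ℂ) - 1 := by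
    rw [Finset.card_erase_of_mem (Finset.mem_univ _), Finset.card_univ, hq,
      Nat.card_eq_fintype_card, Nat.cast_sub Fintype.card_pos]
    simp
  have e0 : (dg χ : ℂ) + ((q : ℂ) - 1) * (χ : G → ℂ) x = (q : ℂ) * n0 := by
    rw [← hn0, hsplit, Finset.sum_congr rfl fun t ht => hval t (Finset.ne_of_mem_erase ht),
      Finset.sum_const, nsmul_eq_mul, hcard, Subgroup.coe_one, coe_dg]
  have e1 : (dg χ : ℂ) - (χ : G → ℂ) x = (q : ℂ) * n1 := by
    rw [← hn1, classInner, ← mul_assoc, mul_inv_cancel₀ hq0, one_mul, hsplit]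
    have h2 : ∑ t ∈ Finset.univ.erase (1 : (T : Subgroup G)), conj (lam t) = -1 := by
      rw [hsplit] at hlsum
      simp only [map_one] at hlsum
      linear_combination hlsum
    rw [Finset.sum_congr rfl (g := fun t => (χ : G → ℂ) x * conj (lam t))
      (fun t ht => by rw [hval t (Finset.ne_of_mem_erase ht)]), ← Finset.mul_sum, h2]
    simp only [map_one, mul_one, Subgroup.coe_one, coe_dg]
    ring
  refine ⟨n0, n1, mul_left_cancel₀ hq0 (by linear_combination e0 - e1), ?_⟩
  have h3 : ((dg χ + n1 : ℕ) : ℂ) = ((n0 + q * n1 : ℕ) : ℂ) := by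
    push_cast
    refine mul_left_cancel₀ hq0 ?_
    linear_combination e0 + ((q : ℂ) - 1) * e1
  exact_mod_cast h3

/-- A character of a group does not see a constituent moved by an element of its kernel. -/
theorem classInner_eq_zero_of_moved {H : Type u} [Group H] [Fintype H] {φ : H → ℂ}
    (hφ : IsCharacter H φ) {s : H} (hs : φ s = φ 1) (hinv : s⁻¹ = s) {ξ : IrrCharacter H}
    (hξ : (ξ : H → ℂ) s ≠ (ξ : H → ℂ) 1) : classInner φ (ξ : H → ℂ) = 0 := by
  choose n hn using fun η : IrrCharacter H => classInner_char_nat hφ (irr_isCharacter η)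
  have hre : ∀ η : IrrCharacter H, ((η : H → ℂ) s).re ≤ (dg η : ℝ) ∧
      (((η : H → ℂ) s).re = (dg η : ℝ) → (η : H → ℂ) s = (η : H → ℂ) 1) := by
    intro η
    have h1 : ((η : H → ℂ) s).im = 0 := by
      have := irr_apply_inv η s
      rw [hinv] at this
      exact Complex.conj_eq_iff_im.1 this.symm
    have h2 := norm_le_degree_of_isCharacter (irr_isCharacter η) s
    rw [coe_dg, Complex.norm_natCast] at h2
    refine ⟨(Complex.re_le_norm _).trans h2, fun e => ?_⟩
    rw [coe_dg]
    exact Complex.ext (by rw [e, Complex.natCast_re]) (by rw [h1, Complex.natCast_im])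
  have hdec : ∀ g, φ g = ∑ η : IrrCharacter H, (n η : ℂ) * (η : H → ℂ) g := by
    intro g
    conv_lhs => rw [classFunction_eq_sum (CfsgLib.Characters.isClassFunction_of_isCharacter hφ)]
    simp [hn]
  have h0 : ∑ η : IrrCharacter H, (n η : ℝ) * ((dg η : ℝ) - ((η : H → ℂ) s).re) = 0 := by
    have h1 := congrArg Complex.re (hs : φ s = φ 1)
    rw [hdec, hdec, Complex.re_sum, Complex.re_sum] at h1
    simp only [mul_sub, Finset.sum_sub_distrib]
    rw [sub_eq_zero]
    refine (Eq.trans ?_ h1.symm).trans (Finset.sum_congr rfl fun η _ => ?_)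
    · exact Finset.sum_congr rfl fun η _ => by simp [coe_dg]
    · simp
  rw [Finset.sum_eq_zero_iff_of_nonneg
    (fun η _ => mul_nonneg (Nat.cast_nonneg _) (sub_nonneg.2 (hre η).1))] at h0
  have h2 := h0 ξ (Finset.mem_univ _)
  rcases mul_eq_zero.1 h2 with h3 | h3
  · rw [hn]; exact_mod_cast h3
  · exact absurd ((hre ξ).2 (sub_eq_zero.1 h3).symm) hξ

/-- The small counting problem. -/
theorem comb_false {ι : Type*} (s : Finset ι) (a b c : ι → ℤ)
    (ha : ∀ i ∈ s, a i = -1 ∨ a i = 0 ∨ a i = 1) (hb : ∀ i ∈ s, b i = -1 ∨ b i = 0 ∨ b i = 1)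
    (hc : ∀ i ∈ s, c i = -1 ∨ c i = 0 ∨ c i = 1)
    (ha2 : ∑ i ∈ s, a i * a i = 3) (hb2 : ∑ i ∈ s, b i * b i = 3) (hc2 : ∑ i ∈ s, c i * c i = 3)
    (hsum : ∑ i ∈ s, a i + ∑ i ∈ s, b i + ∑ i ∈ s, c i = 1)
    (hbd : ∀ i ∈ s, -1 ≤ (1 - 4 * ∑ j ∈ s, a j) * a i + (1 - 4 * ∑ j ∈ s, b j) * b i +
      (1 - 4 * ∑ j ∈ s, c j) * c i) : False := by
  have hrange : ∀ v : ι → ℤ, (∀ i ∈ s, v i = -1 ∨ v i = 0 ∨ v i = 1) →
      ∑ i ∈ s, v i * v i = 3 →
      ∑ i ∈ s, v i = 3 ∨ ∑ i ∈ s, v i = 1 ∨ ∑ i ∈ s, v i = -1 ∨ ∑ i ∈ s, v i = -3 := by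
    intro v hv hv2
    have h1 : |∑ i ∈ s, v i| ≤ 3 := (Finset.abs_sum_le_sum_abs _ _).trans (by
      rw [← hv2]
      exact le_of_eq (Finset.sum_congr rfl fun i hi => by
        rcases hv i hi with e | e | e <;> simp [e]))
    have h2 : (2 : ℤ) ∣ ∑ i ∈ s, (v i * v i - v i) :=
      Finset.dvd_sum fun i hi => by rcases hv i hi with e | e | e <;> simp [e]
    rw [Finset.sum_sub_distrib, hv2] at h2
    rw [abs_le] at h1
    omega
  -- the three configurations
  have cA : ∀ v w z : ι → ℤ, (∀ i ∈ s, v i = -1 ∨ v i = 0 ∨ v i = 1) →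
      (∀ i ∈ s, w i = -1 ∨ w i = 0 ∨ w i = 1) → (∀ i ∈ s, z i = -1 ∨ z i = 0 ∨ z i = 1) →
      ∑ i ∈ s, v i * v i = 3 → ∑ i ∈ s, z i * z i = 3 →
      ∑ i ∈ s, v i = 1 → ∑ i ∈ s, z i = -1 →
      (∀ i ∈ s, -1 ≤ -3 * v i + -3 * w i + 5 * z i) → False := by
    intro v w z hv hw hz hv2 hz2 hvs hzs hb'
    have h1 : 0 ≤ ∑ i ∈ s, ((v i * v i - v i) - (z i * z i - z i)) :=
      Finset.sum_nonneg fun i hi => by
        have := hb' i hi
        rcases hv i hi with e | e | e <;> rcases hz i hi with e' | e' | e' <;>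
          rcases hw i hi with e'' | e'' | e'' <;> simp [e, e', e''] at this ⊢
    simp only [Finset.sum_sub_distrib, hv2, hz2, hvs, hzs] at h1
    omega
  have cB : ∀ v w z : ι → ℤ, (∀ i ∈ s, v i = -1 ∨ v i = 0 ∨ v i = 1) →
      (∀ i ∈ s, w i = -1 ∨ w i = 0 ∨ w i = 1) → (∀ i ∈ s, z i = -1 ∨ z i = 0 ∨ z i = 1) →
      ∑ i ∈ s, v i * v i = 3 → ∑ i ∈ s, w i * w i = 3 → ∑ i ∈ s, z i * z i = 3 →
      ∑ i ∈ s, v i = 3 → ∑ i ∈ s, w i = -1 → ∑ i ∈ s, z i = -1 →
      (∀ i ∈ s, -1 ≤ -11 * v i + 5 * w i + 5 * z i) → False := by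
    intro v w z hv hw hz hv2 hw2 hz2 hvs hws hzs hb'
    have hv0 : ∀ i ∈ s, v i * v i - v i = 0 := by
      refine (Finset.sum_eq_zero_iff_of_nonneg fun i hi => ?_).1 ?_
      · rcases hv i hi with e | e | e <;> simp [e]
      · rw [Finset.sum_sub_distrib, hv2, hvs]; norm_num
    have h1 : 0 ≤ ∑ i ∈ s, ((z i * z i + z i) - (w i * w i - w i)) :=
      Finset.sum_nonneg fun i hi => by
        have := hb' i hi
        have h0 := hv0 i hi
        rcases hv i hi with e | e | e <;> rcases hz i hi with e' | e' | e' <;>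
          rcases hw i hi with e'' | e'' | e'' <;> simp [e, e', e''] at this h0 ⊢
    simp only [Finset.sum_sub_distrib, Finset.sum_add_distrib, hw2, hz2, hws, hzs] at h1
    omega
  have cC : ∀ v w z : ι → ℤ, (∀ i ∈ s, v i = -1 ∨ v i = 0 ∨ v i = 1) →
      (∀ i ∈ s, w i = -1 ∨ w i = 0 ∨ w i = 1) → (∀ i ∈ s, z i = -1 ∨ z i = 0 ∨ z i = 1) →
      ∑ i ∈ s, z i * z i = 3 → ∑ i ∈ s, v i = 3 → ∑ i ∈ s, z i = -3 →
      (∀ i ∈ s, -1 ≤ -11 * v i + -3 * w i + 13 * z i) → False := by
    intro v w z hv hw hz hz2 hvs hzs hb'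
    have hz0 : ∀ i ∈ s, z i * z i + z i = 0 := by
      refine (Finset.sum_eq_zero_iff_of_nonneg fun i hi => ?_).1 ?_
      · rcases hz i hi with e | e | e <;> simp [e]
      · rw [Finset.sum_add_distrib, hz2, hzs]; norm_num
    have h1 : ∑ i ∈ s, v i ≤ 0 :=
      Finset.sum_nonpos fun i hi => by
        have := hb' i hi
        have h0 := hz0 i hi
        rcases hv i hi with e | e | e <;> rcases hz i hi with e' | e' | e' <;>
          rcases hw i hi with e'' | e'' | e'' <;> simp [e, e', e''] at this h0 ⊢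
    omega
  rcases hrange a ha ha2 with ea | ea | ea | ea <;> rcases hrange b hb hb2 with eb | eb | eb | eb <;>
    rcases hrange c hc hc2 with ec | ec | ec | ec <;>
    first
    | omega
    | (simp only [ea, eb, ec] at hbd; norm_num at hbd
       first
       | exact cA a b c ha hb hc ha2 hc2 (by omega) (by omega) fun i hi => by
           have := hbd i hi; omega
       | exact cA a c b ha hc hb ha2 hb2 (by omega) (by omega) fun i hi => by
           have := hbd i hi; omega
       | exact cA b c a hb hc ha hb2 ha2 (by omega) (by omega) fun i hi => by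
           have := hbd i hi; omega
       | exact cB a b c ha hb hc ha2 hb2 hc2 (by omega) (by omega) (by omega) fun i hi => by
           have := hbd i hi; omega
       | exact cB b a c hb ha hc hb2 ha2 hc2 (by omega) (by omega) (by omega) fun i hi => by
           have := hbd i hi; omega
       | exact cB c a b hc ha hb hc2 ha2 hb2 (by omega) (by omega) (by omega) fun i hi => by
           have := hbd i hi; omega
       | exact cC a b c ha hb hc hc2 (by omega) (by omega) fun i hi => by
           have := hbd i hi; omega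
       | exact cC a c b ha hc hb hb2 (by omega) (by omega) fun i hi => by
           have := hbd i hi; omega
       | exact cC b a c hb ha hc hc2 (by omega) (by omega) fun i hi => by
           have := hbd i hi; omega
       | exact cC b c a hb hc ha ha2 (by omega) (by omega) fun i hi => by
           have := hbd i hi; omega
       | exact cC c a b hc ha hb hb2 (by omega) (by omega) fun i hi => by
           have := hbd i hi; omega
       | exact cC c b a hc hb ha ha2 (by omega) (by omega) fun i hi => by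
           have := hbd i hi; omega)

/-- The centraliser of an involution is solvable for a Sylow subgroup of order four or eight. -/
theorem Main.solvable_small (m : Main M u k T x) (h8 : Nat.card (T : Subgroup G) ≤ 8) :
    Group.IsSolvable (Subgroup.centralizer ({x} : Set G)) := by
  set C := Subgroup.centralizer ({x} : Set G) with hC
  by_contra hns
  let S : Sylow 2 C := T.subtype m.sylow_le
  have hSmem : ∀ c : C, c ∈ (S : Subgroup C) ↔ (c : G) ∈ (T : Subgroup G) := fun c => by
    rw [show (S : Subgroup C) = (T : Subgroup G).subgroupOf C from T.coe_subtype m.sylow_le]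
    rfl
  have hSel : ∀ t ∈ (S : Subgroup C), t * t = 1 := fun t ht =>
    Subtype.ext (m.el t ((hSmem t).1 ht))
  have hxC : x ∈ C := Subgroup.mem_centralizer_singleton_iff.2 rfl
  set z : C := ⟨x, hxC⟩ with hz'
  have hz : z ∈ Subgroup.center C := mem_center_x
  have hzo : orderOf z = 2 := by rw [← Subgroup.orderOf_coe]; exact m.xo
  have hz2 : z * z = 1 := Subtype.ext (m.el x m.xT)
  obtain ⟨ε, hεz, hεv⟩ := exists_sign S
    (fun a ha b hb => Subtype.ext (m.ab a ((hSmem a).1 ha) b ((hSmem b).1 hb))) hSel hz hzo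
  obtain ⟨P⟩ : Nonempty (Sylow 2 ε.ker) := inferInstance
  have hcardS : Nat.card (S : Subgroup C) = Nat.card (T : Subgroup G) := by
    rw [show (S : Subgroup C) = (T : Subgroup G).subgroupOf C from T.coe_subtype m.sylow_le]
    exact Nat.card_congr (Subgroup.subgroupOfEquivOfLe m.sylow_le).toEquiv
  have hcardP : 2 * Nat.card (P : Subgroup ε.ker) = Nat.card (T : Subgroup G) := by
    rw [← hcardS, S.card_eq_multiplicity, card_sign hεz hεv, P.card_eq_multiplicity,
      Nat.factorization_mul two_ne_zero Nat.card_pos.ne', Finsupp.add_apply,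
      Nat.prime_two.factorization_self, pow_add, pow_one]
  by_cases h4 : Nat.card (P : Subgroup ε.ker) ≤ 2
  · exact hns (solvable_of_index_two ε.ker (sign_index hεz hεv) (solvable_of_card_le_two P h4))
  have hq8 : Nat.card (T : Subgroup G) = 8 ∧ Nat.card (P : Subgroup ε.ker) = 4 := by
    obtain ⟨n, hn⟩ := P.2.exists_card_eq
    have hn2 : n = 2 := by
      have h1 : n < 3 := by
        by_contra h3
        have := Nat.pow_le_pow_right two_pos (show 3 ≤ n by omega)
        omega
      have h2 : 1 < n := by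
        by_contra h3
        have := Nat.pow_le_pow_right two_pos (show n ≤ 1 by omega)
        omega
      omega
    have hn4 : Nat.card (P : Subgroup ε.ker) = 4 := by rw [hn, hn2]; norm_num
    exact ⟨by omega, hn4⟩
  obtain ⟨hq, hP4⟩ := hq8
  haveI : IsKleinFour (P : Subgroup ε.ker) := by
    refine ⟨hP4, Nat.dvd_antisymm (Monoid.exponent_dvd_of_forall_pow_eq_one fun g => ?_) ?_⟩
    · obtain ⟨j, hj⟩ := (IsPGroup.iff_orderOf.1 P.2) g
      obtain ⟨d, hd⟩ := CfsgLib.AbelTwo.exists_conj_mem S (u := ((g : ε.ker) : C))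
        ⟨j, by rw [Subgroup.orderOf_coe, Subgroup.orderOf_coe, hj]⟩
      have h1 := hSel _ hd
      rw [show d * ((g : ε.ker) : C) * d⁻¹ * (d * ((g : ε.ker) : C) * d⁻¹) =
        d * (((g : ε.ker) : C) * ((g : ε.ker) : C)) * d⁻¹ by group, conj_eq_one_iff] at h1
      rw [pow_two]
      exact Subtype.ext (Subtype.ext h1)
    · obtain ⟨g, hg⟩ := exists_prime_orderOf_dvd_card' (G := (P : Subgroup ε.ker)) 2
        (by rw [hP4]; norm_num)
      exact (dvd_of_eq hg.symm).trans (Monoid.order_dvd_exponent g)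
  obtain ⟨ζ, δ, kb⟩ := exists_KB m.hyp.hM P fun hs =>
    hns (solvable_of_index_two ε.ker (sign_index hεz hεv) hs)
  obtain ⟨y, hy, hxy⟩ := m.exists_y
  have hy' : y ∈ ε.ker := sign_odd hεv hy
  set yK : ε.ker := ⟨y, hy'⟩ with hyK
  have hyKodd : ¬ 2 ∣ orderOf yK := by rwa [← Subgroup.orderOf_coe]
  -- the three local characters
  set g : Fin 3 → ε.ker → ℂ := fun i c => (δ i : ℂ) * (ζ i : ε.ker → ℂ) c - 1 with hg
  have hggen : ∀ i, IsGeneralizedCharacter ε.ker (g i) := by
    intro i
    have h := isGeneralizedCharacter_sub (isGeneralizedCharacter_intCast_smul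
      (isGeneralizedCharacter_irr (ζ i)) (δ i)) (isGeneralizedCharacter_one (G := ε.ker))
    convert h using 1
    funext c
    simp [g]
  have hgcl : ∀ i, IsClassFunction ε.ker (g i) := fun i =>
    isClassFunction_of_isGeneralizedCharacter (hggen i)
  have hgη : ∀ i (η : IrrCharacter ε.ker), classInner (g i) (η : ε.ker → ℂ) =
      (δ i : ℂ) * (if ζ i = η then 1 else 0) - (if principalIrr ε.ker = η then 1 else 0) := by
    intro i η
    rw [show g i = (δ i : ℂ) • (ζ i : ε.ker → ℂ) - (principalIrr ε.ker : ε.ker → ℂ) from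
      funext fun c => by simp [g, principalIrr_apply], classInner_sub_left, classInner_smul_left,
      classInner_irr, classInner_irr]
  set Θ : Fin 3 → C → ℂ := fun i => indFun ε.ker (g i) with hΘ
  have hΘres : ∀ i (c : ε.ker), Θ i c = 2 * g i c := fun i =>
    indFun_ker_apply hz hεz hεv (hgcl i)
  have hΘgen : ∀ i, IsGeneralizedCharacter C (Θ i) := by
    intro i
    obtain ⟨a, b, ha, hb, hab⟩ := hggen i
    exact ⟨_, _, isCharacter_indFun _ ha, isCharacter_indFun _ hb, by
      simp only [Θ, hab, indFun_sub]⟩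
  have hsupp : ∀ i (c : C), 2 ∣ orderOf c → Θ i c = 0 := by
    intro i c hc
    by_cases hcK : c ∈ ε.ker
    · rw [show Θ i c = Θ i ((⟨c, hcK⟩ : ε.ker) : C) from rfl, hΘres]
      have : 2 ∣ orderOf (⟨c, hcK⟩ : ε.ker) := by rwa [← Subgroup.orderOf_coe]
      simp only [g, kb.sing i _ this, sub_self, mul_zero]
    · exact indFun_normal_eq_zero _ hcK
  have hblk : ∀ i (ξ : IrrCharacter C), ξ ∉ principalBlock M C →
      classInner (Θ i) (ξ : C → ℂ) = 0 := by
    intro i ξ hξ
    rw [hΘ, classInner_indFun _ _ (irr_isClassFunction ξ)]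
    have hne : resIrr hz hz2 hεz hεv ξ ∉ principalBlock M ε.ker := fun h =>
      hξ ((resIrr_mem_iff m.hyp.hM hz hz2 hεz hεv ξ).1 h)
    rw [show (fun h : ε.ker => (ξ : C → ℂ) h) = (resIrr hz hz2 hεz hεv ξ : ε.ker → ℂ) from rfl,
      hgη, if_neg (fun e => hne ((kb.block _).2 (Or.inr ⟨i, e.symm⟩))),
      if_neg (fun e => hne ((kb.block _).2 (Or.inl e.symm))), mul_zero, sub_zero]
  choose D hD hzero hsq hsum using fun i =>
    exists_local m.hyp m.xo hy hxy (hΘgen i) (hsupp i) (hblk i)
  -- the restriction of a section function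
  have hDg : ∀ i (χ : IrrCharacter G), (D i χ : ℂ) =
      classInner (fun c : ε.ker => (χ : G → ℂ) (x * ((c : C) : G))) (g i) := by
    intro i χ
    rw [hD, hΘ, classInner_indFun_right _ _ (isClassFunction_sectionFun (irr_isClassFunction χ))]
    rfl
  have hD0 : ∀ i, D i (principalIrr G) = -1 := by
    intro i
    have h := hDg i (principalIrr G)
    rw [show (fun c : ε.ker => (principalIrr G : G → ℂ) (x * ((c : C) : G))) =
      (principalIrr ε.ker : ε.ker → ℂ) from funext fun c => by
        rw [principalIrr_apply, principalIrr_apply], classInner_conj_symm, hgη,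
      if_neg (kb.nonpr i), if_pos rfl, mul_zero, zero_sub, map_neg, map_one] at h
    exact_mod_cast h
  have hnorm : ∀ i, ∑ χ ∈ rest (G := G) M, D i χ * D i χ = 3 := by
    intro i
    have h1 := hsq i
    rw [classInner_indFun_self hz hεz hεv (hgcl i)] at h1
    have h2 : classInner (g i) (g i) = 2 := by
      have he : g i = (δ i : ℂ) • (ζ i : ε.ker → ℂ) -
        (principalIrr ε.ker : ε.ker → ℂ) := funext fun c => by simp [g, principalIrr_apply]
      nth_rewrite 1 [he]
      rw [classInner_sub_left, classInner_smul_left, classInner_conj_symm (g i), hgη,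
        classInner_conj_symm (g i), hgη]
      simp only [if_pos, kb.nonpr i, (kb.nonpr i).symm, if_false, mul_one, mul_zero, sub_zero,
        zero_sub, map_neg, map_one, map_intCast]
      rcases kb.sgn i with e | e <;> simp [e] <;> norm_num
    rw [h2] at h1
    have h3 : ∑ χ, D i χ * D i χ = 4 := by
      have h4 : (((∑ χ, D i χ * D i χ : ℤ)) : ℂ) = ((4 : ℤ) : ℂ) := by rw [h1]; norm_num
      exact_mod_cast h4
    have h5 : ∑ χ, D i χ * D i χ = ∑ χ ∈ blockSet (G := G) M, D i χ * D i χ := by
      refine (Finset.sum_subset (Finset.subset_univ _) fun χ _ hχ => ?_).symm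
      rw [hzero i χ fun hb => hχ (Finset.mem_filter.2 ⟨Finset.mem_univ _, hb⟩), mul_zero]
    rw [h5, ← Finset.add_sum_erase _ _ (principal_mem m.hyp.hM), hD0] at h3
    have : rest (G := G) M = (blockSet M).erase (principalIrr G) := rfl
    rw [this]
    omega
  have hsmall : ∀ i, ∀ χ ∈ rest (G := G) M, D i χ = -1 ∨ D i χ = 0 ∨ D i χ = 1 := by
    intro i χ hχ
    have h1 := Finset.single_le_sum (f := fun χ => D i χ * D i χ)
      (fun χ _ => mul_self_nonneg _) hχ
    rw [hnorm i] at h1
    have h2 : D i χ < 2 := by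
      by_contra h3
      have := mul_le_mul (show (2 : ℤ) ≤ D i χ by omega) (show (2 : ℤ) ≤ D i χ by omega)
        (by norm_num) (by omega)
      omega
    have h3 : -2 < D i χ := by
      by_contra h3
      have := mul_le_mul (show (2 : ℤ) ≤ -D i χ by omega) (show (2 : ℤ) ≤ -D i χ by omega)
        (by norm_num) (by omega)
      simp only [neg_mul_neg] at this
      omega
    omega
  have hH : ∀ i, (δ i : ℂ) * (ζ i : ε.ker → ℂ) yK =
      ((1 - 4 * ∑ χ ∈ rest (G := G) M, D i χ : ℤ) : ℂ) := by
    intro i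
    have h1 := hsum i
    rw [m.kq, hq, show Θ i y = 2 * g i yK from hΘres i yK] at h1
    have h2 := congrArg conj h1
    rw [map_mul, map_neg, Complex.conj_conj, map_intCast, Complex.conj_natCast] at h2
    simp only [g] at h2
    push_cast at h2 ⊢
    linear_combination h2 / 2
  -- the values of the characters at `u`
  have hexp : ∀ χ ∈ rest (G := G) M, (χ : G → ℂ) u =
      ((∑ i, (1 - 4 * ∑ η ∈ rest (G := G) M, D i η) * D i χ : ℤ) : ℂ) := by
    intro χ hχ
    have hb := blockPart_principal_section m.hyp.hM (z := x) ⟨1, by rw [m.xo, pow_one]⟩ hy χ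
    rw [if_pos (mem_rest.1 hχ).2, hxy] at hb
    set φ : ε.ker → ℂ := fun c => (χ : G → ℂ) (x * ((c : C) : G)) with hφ
    have hφ2 : blockPart (principalBlock M ε.ker) φ yK = (χ : G → ℂ) u := by
      rw [← hb, blockPart_eq_sum (principalBlock M C)]
      have he : φ = fun c : ε.ker => ∑ ξ : IrrCharacter C,
          classInner (sectionFun x (χ : G → ℂ)) (ξ : C → ℂ) *
            (resIrr hz hz2 hεz hεv ξ : ε.ker → ℂ) c := funext fun c => by
        have h := congrFun (classFunction_eq_sum
          (isClassFunction_sectionFun (x := x) (irr_isClassFunction χ))) (c : C)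
        simp only [Finset.sum_apply, Pi.smul_apply, smul_eq_mul] at h
        exact h
      rw [he, blockPart_linear, Finset.sum_filter]
      refine Finset.sum_congr rfl fun ξ _ => ?_
      rw [blockPart_irr]
      by_cases hm : ξ ∈ principalBlock M C
      · rw [if_pos ((resIrr_mem_iff m.hyp.hM hz hz2 hεz hεv ξ).2 hm), if_pos hm]; rfl
      · rw [if_neg fun h => hm ((resIrr_mem_iff m.hyp.hM hz hz2 hεz hεv ξ).1 h), if_neg hm,
          mul_zero]
    have hfin : Finset.univ.filter (· ∈ principalBlock M ε.ker) =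
        insert (principalIrr ε.ker) (Finset.univ.image ζ) := by
      ext η
      simp [kb.block, eq_comm]
    have hni : principalIrr ε.ker ∉ Finset.univ.image ζ := by
      simp only [Finset.mem_image, Finset.mem_univ, true_and, not_exists]
      exact fun i => kb.nonpr i
    rw [blockPart_eq_sum, hfin, Finset.sum_insert hni,
      Finset.sum_image fun i _ j _ h => kb.inj h, principalIrr_apply, mul_one] at hφ2
    have hrel := kb.rel yK hyKodd
    push_cast
    rw [Finset.sum_congr rfl (g := fun i => classInner φ (ζ i : ε.ker → ℂ) *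
      (ζ i : ε.ker → ℂ) yK - classInner φ (principalIrr ε.ker : ε.ker → ℂ) *
        ((δ i : ℂ) * (ζ i : ε.ker → ℂ) yK)) ?_]
    · rw [Finset.sum_sub_distrib, ← Finset.mul_sum, ← hφ2]
      linear_combination classInner φ (principalIrr ε.ker : ε.ker → ℂ) * hrel
    intro i _
    have e1 := hH i
    push_cast at e1
    rw [← e1, hDg, show g i = (δ i : ℂ) • (ζ i : ε.ker → ℂ) -
        (principalIrr ε.ker : ε.ker → ℂ) from funext fun c => by simp [g, principalIrr_apply],
      classInner_conj_symm, classInner_sub_left, classInner_smul_left, map_sub, map_mul,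
      map_intCast, ← classInner_conj_symm, ← classInner_conj_symm]
    rcases kb.sgn i with e | e <;> rw [e] <;> push_cast <;> ring
  have hHsum : ∑ i, (1 - 4 * ∑ χ ∈ rest (G := G) M, D i χ) = -1 := by
    have h1 := kb.rel yK hyKodd
    simp only [hH] at h1
    have h2 : ((1 + ∑ i, (1 - 4 * ∑ χ ∈ rest (G := G) M, D i χ) : ℤ) : ℂ) = 0 := by
      push_cast at h1 ⊢
      exact h1
    have h3 : 1 + ∑ i, (1 - 4 * ∑ χ ∈ rest (G := G) M, D i χ) = 0 := by exact_mod_cast h2
    omega
  -- the lower bound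
  have hlow : ∀ χ ∈ rest (G := G) M,
      -1 ≤ ∑ i, (1 - 4 * ∑ η ∈ rest (G := G) M, D i η) * D i χ := by
    intro χ hχ
    by_cases hxk : (χ : G → ℂ) x = (χ : G → ℂ) 1
    · have htr : ∀ c, (χ : G → ℂ) (x * c) = (χ : G → ℂ) c := fun c => by
        rw [← CfsgLib.Chars17.PGalois.apply_mul_of_mem_irrKer χ (CfsgLib.Chars17.mem_irrKer.2 hxk) c,
          show x * c = x * (c * x) * x⁻¹ by group, irr_isClassFunction χ (c * x) x]
      set φ : ε.ker → ℂ := fun c => (χ : G → ℂ) (x * ((c : C) : G)) with hφ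
      have hφc : IsCharacter ε.ker φ := by
        rw [show φ = fun c : ε.ker => (χ : G → ℂ) ((c : C) : G) from funext fun c => htr _]
        exact CfsgLib.Clifford.isCharacter_pullback (irr_isCharacter χ)
          ((Subgroup.subtype C).comp ε.ker.subtype)
      obtain ⟨s, hs⟩ := exists_prime_orderOf_dvd_card' (G := ε.ker) 2
        (dvd_trans (by rw [hP4]; norm_num : 2 ∣ Nat.card (P : Subgroup ε.ker))
          (P : Subgroup ε.ker).card_subgroup_dvd_card)
      have hsG : orderOf ((s : C) : G) = 2 := by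
        rw [Subgroup.orderOf_coe, Subgroup.orderOf_coe, hs]
      have hφs : φ s = φ 1 := by
        show (χ : G → ℂ) (x * ((s : C) : G)) = (χ : G → ℂ) (x * (((1 : ε.ker) : C) : G))
        rw [htr, htr, classFunction_eq_of_isConj (irr_isClassFunction χ) (m.isConjX _ hsG), hxk]
        rfl
      obtain ⟨n, hn⟩ := classInner_char_nat hφc (irr_isCharacter (principalIrr ε.ker))
      have hDn : ∀ i, D i χ = -(n : ℤ) := by
        intro i
        have h := hDg i χ
        rw [show g i = (δ i : ℂ) • (ζ i : ε.ker → ℂ) -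
            (principalIrr ε.ker : ε.ker → ℂ) from funext fun c => by simp [g, principalIrr_apply],
          classInner_conj_symm, classInner_sub_left, classInner_smul_left, map_sub, map_mul,
          map_intCast, ← classInner_conj_symm, ← classInner_conj_symm, hn,
          classInner_eq_zero_of_moved hφc hφs (inv_eq_of_mul_eq_one_right
            (by rw [← pow_two, ← hs, pow_orderOf_eq_one])) (kb.invo i s hs), mul_zero,
          zero_sub] at h
        exact_mod_cast h
      simp only [hDn]
      rw [← Finset.sum_mul, hHsum]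
      omega
    · obtain ⟨n0, n1, hx1, hn⟩ := m.exists_mult χ
      have hn1 : n1 ≠ 0 := fun e => hxk (by
        subst e
        rw [hx1, coe_dg, show dg χ = n0 by omega]
        simp)
      have h1 := m.hyp.val hχ
      rw [hexp χ hχ, m.kq, hq] at h1
      have h2 : ∑ i, (1 - 4 * ∑ η ∈ rest (G := G) M, D i η) * D i χ = (dg χ : ℤ) - 8 := by
        have : ((∑ i, (1 - 4 * ∑ η ∈ rest (G := G) M, D i η) * D i χ : ℤ) : ℂ) =
            (((dg χ : ℤ) - 8 : ℤ) : ℂ) := by rw [h1]; push_cast; ring
        exact_mod_cast this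
      rw [h2]
      rw [hq] at hn
      omega
  refine comb_false (rest (G := G) M) (D 0) (D 1) (D 2) (hsmall 0) (hsmall 1) (hsmall 2)
    (hnorm 0) (hnorm 1) (hnorm 2) ?_ fun χ hχ => ?_
  · rw [Fin.sum_univ_three] at hHsum
    omega
  · have := hlow χ hχ
    rwa [Fin.sum_univ_three] at this

end CfsgLib.ConstDiff
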