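import Cfsg.Agent.Lib.ConstDiff.SolvCent
import Cfsg.Agent.Lib.ConstDiff.Automizer
import Cfsg.Agent.Lib.ConstDiff.Klein

/-!
# Centralisers of involutions are solvable

For a Sylow subgroup of order at least sixteen, by induction on subgroups of it containing `x`.
-/

set_option autoImplicit false
set_option linter.unusedSectionVars false
set_option linter.style.haveILetI false

noncomputable section

namespace CfsgLib.ConstDiff

open Cfsg
open scoped Classical

universe u

variable {G : Type u} [Group G] [Fintype G] [hp2 : Fact (Nat.Prime 2)] {M : Ideal AlgInt}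
  {u : G} {k : ℂ} {T : Sylow 2 G} {x : G}

theorem arith_false : ∀ m : ℕ, 3 ≤ m → 2 * m + 1 < 2 ^ m := by
  intro m hm
  induction m, hm using Nat.le_induction with
  | base => norm_num
  | succ j hj ih => rw [pow_succ]; omega

/-- Centralisers of subgroups of the Sylow subgroup containing `x` are solvable. -/
theorem Main.solvable_big (m : Main M u k T x) (h16 : 16 ≤ Nat.card (T : Subgroup G))
    (V : Subgroup G) (hVT : V ≤ (T : Subgroup G)) (hxV : x ∈ V) :
    Group.IsSolvable (Subgroup.centralizer (V : Set G)) := by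
  induction hd : Nat.card (T : Subgroup G) - Nat.card V using Nat.strong_induction_on
    generalizing V with
  | _ d ih =>
  set X := Subgroup.centralizer (V : Set G) with hX
  set q := Nat.card (T : Subgroup G) with hq
  have hTX : (T : Subgroup G) ≤ X := fun t ht =>
    Subgroup.mem_centralizer_iff.2 fun v hv => m.ab v (hVT hv) t ht
  let TX : Sylow 2 X := T.subtype hTX
  have hTXmem : ∀ c : X, c ∈ (TX : Subgroup X) ↔ (c : G) ∈ (T : Subgroup G) := fun c => by
    rw [show (TX : Subgroup X) = (T : Subgroup G).subgroupOf X from T.coe_subtype hTX]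
    rfl
  have hnorm : ∀ c : X, c ∈ Subgroup.normalizer ((TX : Subgroup X) : Set X) →
      (c : G) ∈ stab T x := by
    intro c hc
    refine ⟨Subgroup.mem_normalizer_iff.2 fun v => ?_, Subgroup.mem_centralizer_singleton_iff.2
      (Subgroup.mem_centralizer_iff.1 c.2 x hxV).symm⟩
    constructor
    · intro hv
      exact (hTXmem _).1 ((Subgroup.mem_normalizer_iff.1 hc ⟨v, hTX hv⟩).1 ((hTXmem _).2 hv))
    · intro hv
      have hv' : v ∈ X := by
        simpa [mul_assoc] using X.mul_mem (X.mul_mem (X.inv_mem c.2) (hTX hv)) c.2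
      exact (hTXmem _).1 ((Subgroup.mem_normalizer_iff.1 hc ⟨v, hv'⟩).2 ((hTXmem _).2 hv))
  obtain ⟨A, iA, iAf, n, ψ, hn, hA, hker, hfix⟩ := m.exists_galois
  obtain ⟨v, hv⟩ := (T.2.to_le hVT).exists_card_eq
  have hsq : ∀ c : X, ∀ hc : (c : G) ∈ stab T x, ψ ⟨(c : G), hc⟩ ≠ 1 → (2 ^ v) ^ 2 ≤ 2 ^ n := by
    intro c hc h1
    refine le_trans (Nat.pow_le_pow_left ?_ 2) (hn ▸ hfix _ h1)
    rw [← hv]
    refine Nat.card_le_card_of_injective (fun w : V => ⟨⟨(w : G), hVT w.2⟩, ?_⟩) fun a b hab => ?_
    · show (c : G) * (w : G) * (c : G)⁻¹ = (w : G)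
      rw [(Subgroup.mem_centralizer_iff.1 c.2 w w.2).symm, mul_inv_cancel_right]
    · exact Subtype.ext (congrArg (fun t => ((t.1 : (T : Subgroup G)) : G)) hab)
  have hn4 : 4 ≤ n := by
    by_contra hlt
    have := Nat.pow_le_pow_right two_pos (show n ≤ 3 by omega)
    rw [hq] at h16
    omega
  have hvn : v ≤ n := by
    have := Subgroup.card_le_of_le hVT
    rw [hv, hn] at this
    exact (Nat.pow_le_pow_iff_right (by norm_num)).1 this
  by_cases hsmall : n ≤ v + 2
  · -- the Sylow subgroup is central in its normalizer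
    refine (burnside TX fun c hc => ?_).1
    rw [Subgroup.mem_centralizer_iff]
    intro t ht
    refine Subtype.ext ?_
    have hst := hnorm c hc
    have hone : ψ ⟨(c : G), hst⟩ = 1 := by
      by_contra hne
      have h2 : v * 2 ≤ n := by
        have := hsq c hst hne
        rw [← pow_mul] at this
        exact (Nat.pow_le_pow_iff_right (by norm_num)).1 this
      have hn4' : n = 4 := by omega
      set p := ψ ⟨(c : G), hst⟩ with hp
      have hp4 : p ^ 4 = 1 := by rw [← hn4', ← hA]; exact pow_card_eq_one'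
      obtain ⟨a, b, hb, hab⟩ := Nat.exists_eq_two_pow_mul_odd (orderOf_pos (c : G)).ne'
      have hcb : (c : G) ^ b ∈ (T : Subgroup G) := by
        have hp2' : IsPGroup 2 (Subgroup.zpowers ((c : G) ^ b)) := by
          refine IsPGroup.of_card (n := a) ?_
          rw [Nat.card_zpowers, orderOf_pow' _ hb.pos.ne', hab, Nat.gcd_mul_left_left,
            Nat.mul_div_cancel _ hb.pos]
        have hle : Subgroup.zpowers ((c : G) ^ b) ≤
            Subgroup.normalizer ((T : Subgroup G) : Set G) :=
          Subgroup.zpowers_le.2 (Subgroup.pow_mem _ hst.1 b)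
        have h := T.3 (IsPGroup.to_sup_of_normal_right' hp2' T.2 hle) le_sup_right
        rw [← h]
        exact Subgroup.mem_sup_left (Subgroup.mem_zpowers _)
      have hpb : p ^ b = 1 := by
        rw [hp, ← map_pow]
        by_contra hne'
        obtain ⟨r, hr⟩ : ∃ t ∈ (T : Subgroup G),
            ((⟨(c : G), hst⟩ : stab T x) ^ b : G) * t * ((⟨(c : G), hst⟩ : stab T x) ^ b : G)⁻¹ ≠ t := by
          by_contra hall
          push Not at hall
          have := hfix _ hne'
          have hall' : Nat.card {t : (T : Subgroup G) //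
              ((((⟨(c : G), hst⟩ : stab T x) ^ b : stab T x)) : G) * t *
                ((((⟨(c : G), hst⟩ : stab T x) ^ b : stab T x)) : G)⁻¹ = t} =
              Nat.card (T : Subgroup G) :=
            Nat.card_congr (Equiv.subtypeUnivEquiv fun t => by
              simpa using hall t t.2)
          rw [hall'] at this
          have h5 : 1 < Nat.card (T : Subgroup G) := by omega
          nlinarith
        refine hr.2 ?_
        show (c : G) ^ b * r * ((c : G) ^ b)⁻¹ = r
        rw [m.ab _ hcb r hr.1, mul_inv_cancel_right]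
      exact hne (orderOf_eq_one_iff.1 (Nat.eq_one_of_dvd_coprimes
        (Nat.Coprime.pow_left 2 (Nat.coprime_two_left.2 hb))
        (orderOf_dvd_of_pow_eq_one hp4) (orderOf_dvd_of_pow_eq_one hpb)))
    have h := hker _ hone t ((hTXmem t).1 ht)
    show (t : G) * c = c * t
    exact (mul_inv_eq_iff_eq_mul.1 h).symm
  -- the quotient by `V`
  by_contra hns
  set V' := V.subgroupOf X with hV'
  have hVc : ∀ c : X, ∀ w ∈ V, (c : G) * w = w * (c : G) := fun c w hw =>
    (Subgroup.mem_centralizer_iff.1 c.2 w hw).symm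
  haveI hV'n : V'.Normal := ⟨fun w hw c => by
    rw [hV', Subgroup.mem_subgroupOf] at hw ⊢
    simpa [hVc c w hw] using hw⟩
  haveI : Group.IsSolvable V' := Group.isSolvable_of_comm fun a b =>
    Subtype.ext (Subtype.ext (m.ab _ (hVT a.2) _ (hVT b.2)))
  let TY : Sylow 2 (X ⧸ V') := TX.mapSurjective (QuotientGroup.mk'_surjective V')
  have hTY : (TY : Subgroup (X ⧸ V')) = (TX : Subgroup X).map (QuotientGroup.mk' V') :=
    Sylow.coe_mapSurjective ..
  have hV'T : V' ≤ (TX : Subgroup X) := fun w hw => (hTXmem w).2 (hVT hw)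
  have hmem : ∀ c : X, (c : X ⧸ V') ∈ (TY : Subgroup (X ⧸ V')) ↔ c ∈ (TX : Subgroup X) := by
    intro c
    rw [hTY]
    refine ⟨?_, fun hc => ⟨c, hc, rfl⟩⟩
    rintro ⟨d, hd', hdc⟩
    rw [QuotientGroup.mk'_apply, QuotientGroup.eq] at hdc
    simpa using (TX : Subgroup X).mul_mem hd' (hV'T hdc)
  have hTYab : ∀ a ∈ (TY : Subgroup (X ⧸ V')), ∀ b ∈ (TY : Subgroup (X ⧸ V')), a * b = b * a := by
    rw [hTY]
    rintro _ ⟨a, ha, rfl⟩ _ ⟨b, hb, rfl⟩
    rw [← map_mul, ← map_mul]
    congr 1
    exact Subtype.ext (m.ab _ ((hTXmem a).1 ha) _ ((hTXmem b).1 hb))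
  have hTYel : ∀ a ∈ (TY : Subgroup (X ⧸ V')), a * a = 1 := by
    rw [hTY]
    rintro _ ⟨a, ha, rfl⟩
    rw [← map_mul, show a * a = 1 from Subtype.ext (m.el _ ((hTXmem a).1 ha)), map_one]
  have hcardTY : 2 ^ v * Nat.card (TY : Subgroup (X ⧸ V')) = 2 ^ n := by
    have h1 : Nat.card (TX : Subgroup X) = 2 ^ n := by
      rw [show (TX : Subgroup X) = (T : Subgroup G).subgroupOf X from T.coe_subtype hTX,
        Nat.card_congr (Subgroup.subgroupOfEquivOfLe hTX).toEquiv, hn]
    have h2 : Nat.card V' = 2 ^ v := by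
      rw [hV', Nat.card_congr (Subgroup.subgroupOfEquivOfLe (hVT.trans hTX)).toEquiv, hv]
    rw [← h1, ← h2, ← CfsgLib.PCore.card_comap_mk' V', hTY, Subgroup.comap_map_eq,
      QuotientGroup.ker_mk', sup_eq_left.2 hV'T]
  obtain ⟨j, hj⟩ := TY.2.exists_card_eq
  have hjn : v + j = n := by
    rw [hj, ← pow_add] at hcardTY
    exact Nat.pow_right_injective le_rfl hcardTY
  have hsol : ∀ a ∈ (TY : Subgroup (X ⧸ V')), a ≠ 1 →
      Group.IsSolvable (Subgroup.centralizer ({a} : Set (X ⧸ V'))) := by
    intro a ha ha1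
    rw [hTY] at ha
    obtain ⟨s, hs, rfl⟩ := ha
    have hsV : (s : G) ∉ V := fun h => ha1 ((QuotientGroup.eq_one_iff s).2 h)
    set V₂ := V ⊔ Subgroup.zpowers (s : G) with hV₂
    have hV₂T : V₂ ≤ (T : Subgroup G) := sup_le hVT (Subgroup.zpowers_le.2 ((hTXmem s).1 hs))
    have hlt : Nat.card V < Nat.card V₂ := by
      refine lt_of_le_of_ne (Subgroup.card_le_of_le le_sup_left) fun e => hsV ?_
      rw [Subgroup.eq_of_le_of_card_ge (le_sup_left : V ≤ V₂) e.ge]
      exact Subgroup.mem_sup_right (Subgroup.mem_zpowers _)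
    haveI := ih _ (by
      have := Subgroup.card_le_of_le hV₂T
      rw [← hd]
      omega) V₂ hV₂T (Subgroup.mem_sup_left hxV) rfl
    set π := QuotientGroup.mk' V'
    set L := (Subgroup.centralizer ({π s} : Set (X ⧸ V'))).comap π with hL
    have hLc : ∀ g : L, (g : X) * s * (g : X)⁻¹ * s⁻¹ ∈ V' := by
      intro g
      have h : (g : X) ∈ (Subgroup.centralizer ({π s} : Set (X ⧸ V'))).comap π := g.2
      rw [Subgroup.mem_comap, Subgroup.mem_centralizer_singleton_iff] at h
      rw [← QuotientGroup.eq_one_iff (N := V')]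
      show π ((g : X) * s * (g : X)⁻¹ * s⁻¹) = 1
      simp only [map_mul, map_inv, h]
      group
    let f : L →* V' :=
      { toFun := fun g => ⟨_, hLc g⟩
        map_one' := Subtype.ext (by simp)
        map_mul' := fun g h => Subtype.ext (by
          show (g : X) * h * s * ((g : X) * h)⁻¹ * s⁻¹ =
            ((g : X) * s * (g : X)⁻¹ * s⁻¹) * ((h : X) * s * (h : X)⁻¹ * s⁻¹)
          refine Subtype.ext ?_
          set w := ((h : X) * s * (h : X)⁻¹ * s⁻¹ : X) with hw
          have hwV : ((w : X) : G) ∈ V := hLc h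
          calc (((g : X) * h * s * ((g : X) * h)⁻¹ * s⁻¹ : X) : G)
              = ((g : X) : G) * (w : G) * (s : G) * ((g : X) : G)⁻¹ * (s : G)⁻¹ := by
                simp only [hw, Subgroup.coe_mul, Subgroup.coe_inv]; group
            _ = (w : G) * (((g : X) * s * (g : X)⁻¹ * s⁻¹ : X) : G) := by
                rw [hVc (g : X) _ hwV]; simp only [Subgroup.coe_mul, Subgroup.coe_inv]; group
            _ = _ := by
                rw [← hVc _ _ hwV]; rfl) }
    haveI : Group.IsSolvable f.ker := by
      let inc : f.ker →* Subgroup.centralizer (V₂ : Set G) :=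
        (((Subgroup.subtype X).comp (Subgroup.subtype L)).comp f.ker.subtype).codRestrict _ fun g => by
          have h1 := congrArg (fun w : V' => ((w : X) : G)) (MonoidHom.mem_ker.1 g.2)
          simp only [f, MonoidHom.coe_mk, OneHom.coe_mk, Subgroup.coe_mul, Subgroup.coe_inv,
            Subgroup.coe_one] at h1
          have hmemg : ∀ w ∈ V₂, w * (((g : L) : X) : G) = (((g : L) : X) : G) * w := by
            intro w hw
            have hle : V₂ ≤ Subgroup.centralizer ({(((g : L) : X) : G)} : Set G) := by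
              refine sup_le (fun w' hw' => Subgroup.mem_centralizer_singleton_iff.2
                (hVc _ w' hw').symm) (Subgroup.zpowers_le.2 (Subgroup.mem_centralizer_singleton_iff.2 ?_))
              exact (mul_inv_eq_iff_eq_mul.1 (mul_inv_eq_one.1 h1)).symm
            exact Subgroup.mem_centralizer_singleton_iff.1 (hle hw)
          exact Subgroup.mem_centralizer_iff.2 hmemg
      exact Group.isSolvable_of_isSolvable_injective (f := inc) fun a b hab =>
        Subtype.ext (Subtype.ext (Subtype.ext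
          (congrArg (fun w : Subgroup.centralizer (V₂ : Set G) => (w : G)) hab : _)))
    haveI : Group.IsSolvable L := by
      refine isSolvable_of_normal f.ker inferInstance ?_
      haveI : Group.IsSolvable f.range := inferInstance
      exact Group.isSolvable_of_surjective
        (f := (QuotientGroup.quotientKerEquivRange f).symm.toMonoidHom) (MulEquiv.surjective _)
    refine Group.isSolvable_of_surjective (f := (π.comp L.subtype).codRestrict _ fun g => g.2) ?_
    rintro ⟨c, hc⟩
    obtain ⟨g, rfl⟩ := QuotientGroup.mk'_surjective V' c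
    exact ⟨⟨g, hc⟩, rfl⟩
  have hYns : ¬ Group.IsSolvable (X ⧸ V') := fun h => hns (isSolvable_of_normal V' inferInstance h)
  have h8 : 8 ≤ Nat.card (TY : Subgroup (X ⧸ V')) := by
    rw [hj]
    calc 8 = 2 ^ 3 := by norm_num
      _ ≤ _ := Nat.pow_le_pow_right two_pos (by omega)
  have hone := (solvable_or_one_class TY hTYab hTYel h8 hsol).resolve_left hYns
  -- the normalizer is transitive on the cosets of `V`
  obtain ⟨t0, ht0, ht01⟩ : ∃ a ∈ (TY : Subgroup (X ⧸ V')), a ≠ 1 := by
    by_contra hall
    push Not at hall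
    rw [(Subgroup.eq_bot_iff_forall _).2 hall, Subgroup.card_bot] at h8
    omega
  haveI := Fintype.ofFinite (X ⧸ V')
  set D := (Subgroup.normalizer ((TX : Subgroup X) : Set X)) with hD
  let ψ' : D →* A := ψ.comp
    (((Subgroup.subtype X).comp D.subtype).codRestrict (stab T x) fun c => hnorm c c.2)
  have htrans : ∀ b : (TY : Subgroup (X ⧸ V')), b ≠ 1 →
      ∃ c : D, ((c : X) : X ⧸ V') * t0 * ((c : X) : X ⧸ V')⁻¹ = b := by
    intro b hb
    have ho : ∀ a ∈ (TY : Subgroup (X ⧸ V')), a ≠ 1 → orderOf a = 2 := fun a ha ha1 =>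
      orderOf_eq_prime (by rw [pow_two]; exact hTYel a ha) ha1
    obtain ⟨g, hg⟩ := isConj_iff.1 (hone t0 b (ho _ ht0 ht01) (ho _ b.2 fun e => hb (Subtype.ext e)))
    obtain ⟨c, hc, he⟩ := CfsgLib.AbelTwo.fusion TY hTYab ht0 (g := g) (hg.symm ▸ b.2)
    obtain ⟨c, rfl⟩ := QuotientGroup.mk'_surjective V' c
    refine ⟨⟨c, ?_⟩, he.trans hg⟩
    rw [hD, Subgroup.mem_normalizer_iff]
    intro d
    rw [← hmem, ← hmem]
    exact Subgroup.mem_normalizer_iff.1 hc (d : X ⧸ V')
  choose c hc using htrans
  have hinj : ∀ b b' hb hb', ψ' (c b hb) = ψ' (c b' hb') → b = b' := by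
    intro b b' hb hb' he
    refine Subtype.ext ?_
    obtain ⟨s, rfl⟩ := QuotientGroup.mk'_surjective V' t0
    have hs : (s : G) ∈ (T : Subgroup G) := (hTXmem s).1 ((hmem s).1 ht0)
    have h1 : ψ' ((c b' hb')⁻¹ * c b hb) = 1 := by rw [map_mul, map_inv, he, inv_mul_cancel]
    have h2 := hker _ h1 _ hs
    rw [← hc b hb, ← hc b' hb']
    have h3 : (((c b' hb')⁻¹ * c b hb : D) : X) * s * (((c b' hb')⁻¹ * c b hb : D) : X)⁻¹ = s :=
      Subtype.ext h2
    simp only [Subgroup.coe_mul, Subgroup.coe_inv] at h3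
    simp only [QuotientGroup.mk'_apply, ← QuotientGroup.mk_inv, ← QuotientGroup.mk_mul]
    congr 1
    calc ((c b hb : D) : X) * s * ((c b hb : D) : X)⁻¹
        = ((c b' hb' : D) : X) * (((c b' hb' : D) : X)⁻¹ * (c b hb : D) * s *
          (((c b' hb' : D) : X)⁻¹ * (c b hb : D))⁻¹) * ((c b' hb' : D) : X)⁻¹ := by group
      _ = _ := by rw [h3]
  have hcount : Nat.card (TY : Subgroup (X ⧸ V')) ≤ n + 1 := by
    haveI := Fintype.ofFinite A
    have h := Finset.card_le_card_of_injOn
      (s := (Finset.univ : Finset (TY : Subgroup (X ⧸ V'))).erase 1) (t := (Finset.univ : Finset A))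
      (fun b => if hb : b = 1 then 1 else ψ' (c b hb)) (fun b _ => Finset.mem_univ _)
      (fun b hb b' hb' he => by
        simp only [Finset.mem_coe] at hb hb'
        have h1 := Finset.ne_of_mem_erase hb
        have h2 := Finset.ne_of_mem_erase hb'
        simp only [dif_neg h1, dif_neg h2] at he
        exact hinj b b' h1 h2 he)
    rw [Finset.card_erase_of_mem (Finset.mem_univ _), Finset.card_univ, Finset.card_univ,
      ← Nat.card_eq_fintype_card (α := A), hA] at h
    rw [Nat.card_eq_fintype_card]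
    omega
  -- some element acts nontrivially
  have hnontriv : 2 * v ≤ n := by
    obtain ⟨b, hb, hb0⟩ : ∃ b : (TY : Subgroup (X ⧸ V')), b ≠ 1 ∧ b ≠ ⟨t0, ht0⟩ := by
      by_contra hall
      push Not at hall
      have : Nat.card (TY : Subgroup (X ⧸ V')) ≤ 2 := by
        rw [Nat.card_eq_fintype_card, ← Finset.card_univ]
        refine le_trans (Finset.card_le_card (t := {1, ⟨t0, ht0⟩}) fun b _ => ?_) Finset.card_le_two
        simp only [Finset.mem_insert, Finset.mem_singleton]
        by_cases h : b = 1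
        · exact Or.inl h
        · exact Or.inr (hall b h)
      omega
    have ht0' : (⟨t0, ht0⟩ : (TY : Subgroup (X ⧸ V'))) ≠ 1 := fun e => ht01 (congrArg Subtype.val e)
    have hne : ψ' (c b hb) ≠ 1 ∨ ψ' (c _ ht0') ≠ 1 := by
      by_contra hboth
      push Not at hboth
      exact hb0 (hinj _ _ hb ht0' (hboth.1.trans hboth.2.symm))
    rcases hne with h | h
    all_goals
      have h' := hsq _ _ h
      rw [← pow_mul] at h'
      have := (Nat.pow_le_pow_iff_right (by norm_num)).1 h'
      omega
  rw [hj] at hcount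
  have := arith_false j (by omega)
  omega

/-- The centraliser of an involution is solvable. -/
theorem Main.solvable (m : Main M u k T x) :
    Group.IsSolvable (Subgroup.centralizer ({x} : Set G)) := by
  by_cases h16 : 16 ≤ Nat.card (T : Subgroup G)
  · have h := m.solvable_big h16 (Subgroup.zpowers x) (Subgroup.zpowers_le.2 m.xT)
      (Subgroup.mem_zpowers x)
    rwa [Subgroup.zpowers_eq_closure, Subgroup.centralizer_closure] at h
  · refine m.solvable_small ?_
    obtain ⟨n, hn⟩ := T.2.exists_card_eq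
    rw [hn] at h16 ⊢
    calc 2 ^ n ≤ 2 ^ 3 := Nat.pow_le_pow_right two_pos (by
          by_contra h
          have := Nat.pow_le_pow_right two_pos (show 4 ≤ n by omega)
          omega)
      _ = 8 := by norm_num

/-- The centraliser of an involution is 2-nilpotent. -/
theorem Main.twoNilp (m : Main M u k T x) : TwoNilp (Subgroup.centralizer ({x} : Set G)) :=
  m.two_nilpotent m.solvable

end CfsgLib.ConstDiff
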