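import Cfsg.Agent.Lib.ConstDiff.Burnside
import Cfsg.Agent.Lib.Blk4.PrincipalTwo
import Cfsg.Agent.Lib.Characters.LinearTwist
import Cfsg.Agent.S0948

/-!
# The principal block of a nonsolvable group with a Klein four Sylow 2-subgroup
-/

set_option autoImplicit false
set_option linter.unusedSectionVars false
set_option linter.style.haveILetI false

noncomputable section

namespace CfsgLib.ConstDiff

open Cfsg CfsgLib.Characters CfsgLib.Blocks
open scoped ComplexConjugate Classical

universe u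

variable {H : Type u} [Group H] [Fintype H] [hp2 : Fact (Nat.Prime 2)] {M : Ideal AlgInt}

/-- The common kernel of the principal block. -/
def blockKer (M : Ideal AlgInt) (H : Type u) [Group H] [Fintype H] : Subgroup H :=
  ⨅ χ ∈ blockSet (G := H) M, CfsgLib.Chars17.irrKer χ

theorem mem_blockKer {g : H} :
    g ∈ blockKer M H ↔ ∀ χ ∈ blockSet (G := H) M, (χ : H → ℂ) g = (χ : H → ℂ) 1 := by
  simp only [blockKer, Subgroup.mem_iInf, CfsgLib.Chars17.mem_irrKer]

theorem blockKer_not_dvd (hM : IsPModular 2 M) : ¬ 2 ∣ Nat.card (blockKer M H) := by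
  intro hd
  obtain ⟨s, hs⟩ := exists_prime_orderOf_dvd_card' 2 hd
  have hs' : orderOf (s : H) = 2 := by rw [Subgroup.orderOf_coe, hs]
  have h0 := sum_dg_mul hM (isPPart_self ⟨1, by rw [hs', pow_one]⟩)
    (fun e => by rw [e, orderOf_one] at hs'; omega)
  rw [Finset.sum_congr rfl fun χ hχ => by rw [mem_blockKer.1 s.2 χ hχ, coe_dg]] at h0
  have h1 : ∑ χ ∈ blockSet (G := H) M, dg χ * dg χ = 0 := by exact_mod_cast h0
  rw [Finset.sum_eq_zero_iff] at h1
  have h2 := h1 _ (principal_mem hM)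
  rw [dg_principal] at h2
  simp at h2

/-- An element of the normalizer of a Klein four Sylow subgroup fixing an involution centralizes
it. -/
theorem klein_fix (P : Sylow 2 H) [hK : IsKleinFour (P : Subgroup H)] {n s : H}
    (hn : n ∈ Subgroup.normalizer ((P : Subgroup H) : Set H)) (hs : s ∈ (P : Subgroup H))
    (hs1 : s ≠ 1) (hfix : n * s * n⁻¹ = s) :
    n ∈ Subgroup.centralizer ((P : Subgroup H) : Set H) := by
  have hex : ∀ a b : H, a ∈ (P : Subgroup H) → b ∈ (P : Subgroup H) → b ≠ 1 → b ≠ s → a ≠ 1 →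
      a ≠ s → a ≠ b → a = s * b := by
    intro a b ha hb hb1 hbs ha1 has hab
    have := IsKleinFour.eq_mul_of_ne_all (G := (P : Subgroup H)) (x := ⟨s, hs⟩) (y := ⟨b, hb⟩)
      (z := ⟨a, ha⟩) (fun e => hs1 (congrArg Subtype.val e)) (fun e => hb1 (congrArg Subtype.val e))
      (fun e => hbs (congrArg Subtype.val e).symm) (fun e => ha1 (congrArg Subtype.val e))
      (fun e => has (congrArg Subtype.val e)) (fun e => hab (congrArg Subtype.val e))
    exact congrArg Subtype.val this
  have hsq : ∀ a ∈ (P : Subgroup H), a * a = 1 := fun a ha =>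
    congrArg Subtype.val (IsKleinFour.mul_self (G := (P : Subgroup H)) ⟨a, ha⟩)
  have hstab : ∀ a ∈ (P : Subgroup H), n * a * n⁻¹ ∈ (P : Subgroup H) := fun a ha =>
    (Subgroup.mem_normalizer_iff.1 hn a).1 ha
  have hinj : ∀ a b : H, n * a * n⁻¹ = n * b * n⁻¹ → a = b := fun a b e => by simpa using e
  have htwo : ∀ a ∈ (P : Subgroup H), n ^ 2 * a * (n ^ 2)⁻¹ = a := by
    intro a ha
    rw [pow_two, mul_inv_rev, show n * n * a * (n⁻¹ * n⁻¹) = n * (n * a * n⁻¹) * n⁻¹ by group]
    by_cases ha1 : a = 1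
    · subst ha1; group
    by_cases has : a = s
    · subst has; rw [hfix, hfix]
    have hna1 : n * a * n⁻¹ ≠ 1 := fun e => ha1 (by simpa using e)
    have hnas : n * a * n⁻¹ ≠ s := fun e => has (hinj _ _ (e.trans hfix.symm))
    by_cases hna : n * a * n⁻¹ = a
    · rw [hna, hna]
    have h1 := hex _ _ (hstab a ha) ha ha1 has hna1 hnas hna
    rw [h1, show n * (s * a) * n⁻¹ = (n * s * n⁻¹) * (n * a * n⁻¹) by group, hfix, h1, ← mul_assoc,
      hsq s hs, one_mul]
  -- a power of `n` of 2-power order induces the same map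
  obtain ⟨a, b, hb, hab⟩ : ∃ a b : ℕ, Odd b ∧ orderOf n = 2 ^ a * b := by
    obtain ⟨e, m, hm, he⟩ := Nat.exists_eq_two_pow_mul_odd (orderOf_pos n).ne'
    exact ⟨e, m, hm, he⟩
  have hord : ∃ j, orderOf (n ^ b) = 2 ^ j := by
    refine ⟨a, ?_⟩
    rw [orderOf_pow' n hb.pos.ne', hab, Nat.gcd_mul_left_left, Nat.mul_div_cancel _ hb.pos]
  have hnb : n ^ b ∈ (P : Subgroup H) := by
    obtain ⟨j, hj⟩ := hord
    have hp : IsPGroup 2 (Subgroup.zpowers (n ^ b)) :=
      IsPGroup.of_card (n := j) (by rw [Nat.card_zpowers, hj])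
    have hle : Subgroup.zpowers (n ^ b) ≤ Subgroup.normalizer ((P : Subgroup H) : Set H) :=
      Subgroup.zpowers_le.2 (Subgroup.pow_mem _ hn b)
    have h := P.3 (IsPGroup.to_sup_of_normal_right' hp P.2 hle) le_sup_right
    rw [← h]
    exact Subgroup.mem_sup_left (Subgroup.mem_zpowers _)
  rw [Subgroup.mem_centralizer_iff]
  intro c hc
  obtain ⟨i, rfl⟩ := hb
  have h2 : ∀ i : ℕ, (n ^ 2) ^ i * c * ((n ^ 2) ^ i)⁻¹ = c := by
    intro i
    induction i with
    | zero => simp
    | succ i ih =>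
      rw [pow_succ, mul_inv_rev, show (n ^ 2) ^ i * n ^ 2 * c * ((n ^ 2)⁻¹ * ((n ^ 2) ^ i)⁻¹) =
        (n ^ 2) ^ i * (n ^ 2 * c * (n ^ 2)⁻¹) * ((n ^ 2) ^ i)⁻¹ by group, htwo c hc, ih]
  haveI := IsKleinFour.isMulCommutative (G := (P : Subgroup H))
  have h3 : n ^ (2 * i + 1) * c = c * n ^ (2 * i + 1) :=
    congrArg Subtype.val (IsMulCommutative.is_comm.comm
      (⟨_, hnb⟩ : (P : Subgroup H)) ⟨c, hc⟩)
  have h4 : n * c * n⁻¹ = c := by
    have e1 : n ^ (2 * i + 1) * c * (n ^ (2 * i + 1))⁻¹ = c := mul_inv_eq_of_eq_mul h3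
    rw [pow_succ', pow_mul, mul_inv_rev, show n * (n ^ 2) ^ i * c * (((n ^ 2) ^ i)⁻¹ * n⁻¹) =
      n * ((n ^ 2) ^ i * c * ((n ^ 2) ^ i)⁻¹) * n⁻¹ by group, h2 i] at e1
    exact e1
  exact (mul_inv_eq_iff_eq_mul.1 h4).symm

/-- The data of the principal block. -/
structure KB (M : Ideal AlgInt) (ζ : Fin 3 → IrrCharacter H) (δ : Fin 3 → ℤ) : Prop where
  sgn : ∀ i, δ i = 1 ∨ δ i = -1
  inj : Function.Injective ζ
  nonpr : ∀ i, ζ i ≠ principalIrr H
  block : ∀ χ : IrrCharacter H, χ ∈ principalBlock M H ↔ χ = principalIrr H ∨ ∃ i, χ = ζ i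
  rel : ∀ y : H, ¬ 2 ∣ orderOf y → 1 + ∑ i, (δ i : ℂ) * (ζ i : H → ℂ) y = 0
  sing : ∀ i, ∀ g : H, 2 ∣ orderOf g → (δ i : ℂ) * (ζ i : H → ℂ) g = 1
  invo : ∀ i, ∀ s : H, orderOf s = 2 → (ζ i : H → ℂ) s ≠ (ζ i : H → ℂ) 1

/-- The principal block of a nonsolvable group with Klein four Sylow 2-subgroups. -/
theorem exists_KB (hM : IsPModular 2 M) (P : Sylow 2 H) [hK : IsKleinFour (P : Subgroup H)]
    (hns : ¬ Group.IsSolvable H) :
    ∃ (ζ : Fin 3 → IrrCharacter H) (δ : Fin 3 → ℤ), KB M ζ δ := by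
  haveI := IsKleinFour.isMulCommutative (G := (P : Subgroup H))
  have hord : ∀ a : H, a ∈ (P : Subgroup H) → a ≠ 1 → orderOf a = 2 := fun a ha h1 =>
    orderOf_eq_prime ((pow_two a).trans (congrArg Subtype.val
      (IsKleinFour.mul_self (G := (P : Subgroup H)) ⟨a, ha⟩))) h1
  have hPab : ∀ a ∈ (P : Subgroup H), ∀ b ∈ (P : Subgroup H), a * b = b * a := fun a ha b hb =>
    congrArg Subtype.val (IsMulCommutative.is_comm.comm (⟨a, ha⟩ : (P : Subgroup H)) ⟨b, hb⟩)
  obtain ⟨n, hn, hnc⟩ : ∃ n ∈ Subgroup.normalizer ((P : Subgroup H) : Set H),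
      n ∉ Subgroup.centralizer ((P : Subgroup H) : Set H) := by
    by_contra hc
    push Not at hc
    exact hns (burnside P hc).1
  -- the involutions form one class
  have honeP : ∀ a b : H, a ∈ (P : Subgroup H) → a ≠ 1 → b ∈ (P : Subgroup H) → b ≠ 1 →
      IsConj a b := by
    intro a b ha ha1 hb hb1
    by_cases hab : a = b
    · rw [hab]
    have hna : n * a * n⁻¹ ∈ (P : Subgroup H) := (Subgroup.mem_normalizer_iff.1 hn a).1 ha
    have hna1 : n * a * n⁻¹ ≠ 1 := fun e => ha1 (by simpa using e)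
    have hnaa : n * a * n⁻¹ ≠ a := fun e => hnc (klein_fix P hn ha ha1 e)
    have hn2 : n * (n * a * n⁻¹) * n⁻¹ ≠ n * a * n⁻¹ := fun e =>
      hnc (klein_fix P hn hna hna1 e)
    by_cases h1 : n * a * n⁻¹ = b
    · exact isConj_iff.2 ⟨n, h1⟩
    refine isConj_iff.2 ⟨n * n, ?_⟩
    rw [mul_inv_rev, show n * n * a * (n⁻¹ * n⁻¹) = n * (n * a * n⁻¹) * n⁻¹ by group]
    set c := n * a * n⁻¹
    have hnc1 : n * c * n⁻¹ ≠ 1 := fun e => hna1 (by simpa using e)
    have hncP : n * c * n⁻¹ ∈ (P : Subgroup H) := (Subgroup.mem_normalizer_iff.1 hn c).1 hna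
    have hnca : n * c * n⁻¹ ≠ a := by
      intro e
      -- otherwise the product of `a` and `c` is fixed
      refine hnc (klein_fix P hn ((P : Subgroup H).mul_mem ha hna) ?_ ?_)
      · intro e1
        refine hnaa ?_
        show c = a
        have e2 : a * a = 1 := congrArg Subtype.val
          (IsKleinFour.mul_self (G := (P : Subgroup H)) ⟨a, ha⟩)
        rw [← one_mul c, ← e2, mul_assoc, e1, mul_one]
      · rw [show n * (a * c) * n⁻¹ = c * (n * c * n⁻¹) by simp only [c]; group, e]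
        exact hPab c hna a ha
    have h2 := IsKleinFour.eq_mul_of_ne_all (G := (P : Subgroup H)) (x := ⟨a, ha⟩) (y := ⟨c, hna⟩)
      (z := ⟨n * c * n⁻¹, hncP⟩) (fun e => ha1 (congrArg Subtype.val e))
      (fun e => hna1 (congrArg Subtype.val e)) (fun e => hnaa (congrArg Subtype.val e).symm)
      (fun e => hnc1 (congrArg Subtype.val e)) (fun e => hnca (congrArg Subtype.val e))
      (fun e => hn2 (congrArg Subtype.val e))
    have h3 := IsKleinFour.eq_mul_of_ne_all (G := (P : Subgroup H)) (x := ⟨a, ha⟩) (y := ⟨c, hna⟩)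
      (z := ⟨b, hb⟩) (fun e => ha1 (congrArg Subtype.val e))
      (fun e => hna1 (congrArg Subtype.val e)) (fun e => hnaa (congrArg Subtype.val e).symm)
      (fun e => hb1 (congrArg Subtype.val e)) (fun e => hab (congrArg Subtype.val e).symm)
      (fun e => h1 (congrArg Subtype.val e).symm)
    exact congrArg Subtype.val (h2.trans h3.symm)
  have hone : ∀ s t : H, orderOf s = 2 → orderOf t = 2 → IsConj s t := by
    intro s t hs ht
    obtain ⟨d, hd⟩ := CfsgLib.AbelTwo.exists_conj_mem P (u := s) ⟨1, by rw [hs, pow_one]⟩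
    obtain ⟨e, he⟩ := CfsgLib.AbelTwo.exists_conj_mem P (u := t) ⟨1, by rw [ht, pow_one]⟩
    refine (isConj_iff.2 ⟨d, rfl⟩).trans ((honeP _ _ hd ?_ he ?_).trans
      (isConj_iff.2 ⟨e, rfl⟩).symm)
    · intro e1
      rw [conj_eq_one_iff.1 e1, orderOf_one] at hs; omega
    · intro e1
      rw [conj_eq_one_iff.1 e1, orderOf_one] at ht; omega
  obtain ⟨z2, z3, z4, ε, hε, h2ne, h3ne, h23, h24, h34, hblock, hval, -, -, -, hrel⟩ :=
    Cfsg.Agent.S0948.result M hM P hK hone
  obtain ⟨s0, hs0⟩ := exists_prime_orderOf_dvd_card' (G := H) 2 (dvd_trans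
    (by rw [IsKleinFour.card_four]; norm_num : 2 ∣ Nat.card (P : Subgroup H))
    (P : Subgroup H).card_subgroup_dvd_card)
  set ζ : Fin 3 → IrrCharacter H := ![z2, z3, z4] with hζ
  set δ : Fin 3 → ℤ := ![1, ε, -1] with hδ
  have hsgn : ∀ i, δ i = 1 ∨ δ i = -1 := by
    intro i; fin_cases i <;> simp [δ, hε]
  have hpr : ∀ χ : IrrCharacter H, (χ : H → ℂ) = (fun _ => 1) ↔ χ = principalIrr H := fun χ =>
    ⟨fun e => Subtype.ext (e.trans (funext fun g => (principalIrr_apply g).symm)),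
      fun e => e ▸ funext fun g => principalIrr_apply g⟩
  have hvalδ : ∀ i, ∀ z : H, orderOf z = 2 → (ζ i : H → ℂ) z = (δ i : ℂ) := by
    intro i z hz
    obtain ⟨a, b, c⟩ := hval z hz
    fin_cases i <;> simp [ζ, δ, a, b, c]
  have hnonpr : ∀ i, ζ i ≠ principalIrr H := by
    intro i
    fin_cases i
    · exact fun e => h2ne ((hpr _).2 e)
    · exact fun e => h3ne ((hpr _).2 e)
    · intro e
      have h := hvalδ 2 s0 hs0
      rw [show ζ 2 = principalIrr H from e, principalIrr_apply] at h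
      rw [show δ 2 = -1 from rfl] at h
      norm_num at h
  have hblk : ∀ χ : IrrCharacter H, χ ∈ principalBlock M H ↔
      χ = principalIrr H ∨ ∃ i, χ = ζ i := by
    intro χ
    rw [hblock]
    simp only [Set.mem_setOf_eq, hpr, Fin.exists_fin_succ, Fin.exists_fin_zero, or_false, ζ]
    simp
  have hinj : Function.Injective ζ := by
    intro i j
    fin_cases i <;> fin_cases j <;> simp [ζ, h23, h24, h34, Ne.symm h23, Ne.symm h24, Ne.symm h34]
  have hrel' : ∀ y : H, ¬ 2 ∣ orderOf y → 1 + ∑ i, (δ i : ℂ) * (ζ i : H → ℂ) y = 0 := by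
    intro y hy
    rw [Fin.sum_univ_three, ← hrel y (Nat.not_even_iff_odd.1 fun he => hy he.two_dvd)]
    simp [ζ, δ]
    ring
  have hsing : ∀ i, ∀ g : H, 2 ∣ orderOf g → (δ i : ℂ) * (ζ i : H → ℂ) g = 1 := by
    intro i g hg
    obtain ⟨t, htp⟩ := exists_isPPart Nat.prime_two g
    obtain ⟨v, hv, hcv, ⟨j, hj⟩, hreg⟩ := htp
    have hj0 : j ≠ 0 := fun e => by
      rw [e, pow_zero, orderOf_eq_one_iff] at hj
      rw [hj, one_mul] at hv
      exact hreg (hv ▸ hg)
    obtain ⟨d, hd⟩ := CfsgLib.AbelTwo.exists_conj_mem P (u := t) ⟨j, hj⟩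
    have hto : orderOf t = 2 := by
      have h1 : orderOf (d * t * d⁻¹) = orderOf t := MulEquiv.orderOf_eq (MulAut.conj d) t
      rw [← h1]
      refine hord _ hd fun e => ?_
      rw [conj_eq_one_iff.1 e, orderOf_one] at hj
      exact hj0 ((Nat.pow_eq_one.1 hj.symm).resolve_left (by norm_num))
    set K := Subgroup.centralizer ({t} : Set H) with hK'
    obtain ⟨R, hR⟩ := (IsPGroup.of_card (n := 1)
      (by rw [Nat.card_zpowers, hto, pow_one]) : IsPGroup 2 (Subgroup.zpowers t)).exists_le_sylow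
    obtain ⟨e⟩ : Nonempty ((R : Subgroup H) ≃* (P : Subgroup H)) := ⟨R.equiv P⟩
    haveI : IsKleinFour (R : Subgroup H) :=
      ⟨(Nat.card_congr e.toEquiv).trans IsKleinFour.card_four,
        (Monoid.exponent_eq_of_mulEquiv e).trans IsKleinFour.exponent_two⟩
    have htR : t ∈ (R : Subgroup H) := hR (Subgroup.mem_zpowers t)
    have hRK : (R : Subgroup H) ≤ K := fun r hr => Subgroup.mem_centralizer_singleton_iff.2
      (congrArg Subtype.val ((IsKleinFour.isMulCommutative (G := (R : Subgroup H))).is_comm.comm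
        ⟨r, hr⟩ ⟨t, htR⟩))
    have ht1 : t ≠ 1 := fun e1 => by rw [e1, orderOf_one] at hto; omega
    have htn : TwoNilp K := by
      refine (burnside (R.subtype hRK) fun n' hn' => ?_).2
      have hn'' : (n' : H) ∈ Subgroup.normalizer ((R : Subgroup H) : Set H) := by
        rw [Subgroup.mem_normalizer_iff]
        intro h
        have key : ∀ a : K, a ∈ ((R.subtype hRK : Sylow 2 K) : Subgroup K) ↔
            (a : H) ∈ (R : Subgroup H) := fun a => by
          rw [R.coe_subtype hRK]; rfl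
        constructor
        · intro hh
          have := (Subgroup.mem_normalizer_iff.1 hn' ⟨h, hRK hh⟩).1 ((key _).2 hh)
          exact (key _).1 this
        · intro hh
          have hh' : (n' : H) * h * (n' : H)⁻¹ ∈ K := hRK hh
          have hhK : h ∈ K := by
            simpa [mul_assoc] using K.mul_mem (K.mul_mem (K.inv_mem n'.2) hh') n'.2
          have := (Subgroup.mem_normalizer_iff.1 hn' ⟨h, hhK⟩).2 ((key _).2 hh)
          exact (key _).1 this
      have hfix : (n' : H) * t * (n' : H)⁻¹ = t := by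
        rw [Subgroup.mem_centralizer_singleton_iff.1 n'.2, mul_inv_cancel_right]
      have h := klein_fix R hn'' htR ht1 hfix
      rw [Subgroup.mem_centralizer_iff]
      intro a ha
      rw [SetLike.mem_coe, R.coe_subtype hRK] at ha
      exact Subtype.ext (Subgroup.mem_centralizer_iff.1 h a ha)
    have hvK : v ∈ K := Subgroup.mem_centralizer_singleton_iff.2 hcv.eq.symm
    haveI : (pPrimeCore 2 K).Normal := pPrimeCore_normal 2 K
    have h := principal_apply_mul hM (u := t) ⟨j, hj⟩ (N := pPrimeCore 2 K)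
      CfsgLib.PCore.not_dvd_card_pPrimeCore (v := ⟨v, hvK⟩)
      (htn _ (by rwa [← Subgroup.orderOf_coe])) (χ := ζ i) ((hblk _).2 (Or.inr ⟨i, rfl⟩))
    rw [← hv, h, hvalδ i t hto]
    rcases hsgn i with e1 | e1 <;> simp [e1]
  refine ⟨ζ, δ, hsgn, hinj, hnonpr, hblk, hrel', hsing, fun i s hs he => ?_⟩
  -- a linear character in the block makes the group solvable
  have hdeg : (ζ i : H → ℂ) 1 = 1 := by
    rw [hvalδ i s hs] at he
    rcases hsgn i with e1 | e1
    · rw [← he, e1]; simp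
    · exfalso
      rw [e1, coe_dg] at he
      have : ((-1 : ℤ) : ℂ) = ((dg (ζ i) : ℤ) : ℂ) := by push_cast; push_cast at he; exact he
      have h1 : (-1 : ℤ) = (dg (ζ i) : ℤ) := by exact_mod_cast this
      omega
  obtain ⟨f, hf⟩ := CfsgLib.LinearExt.exists_unitsHom (irr_isCharacter (ζ i)) hdeg
  have hfv : ∀ g, (ζ i : H → ℂ) g = (f g : ℂ) := fun g => congrFun hf g
  have hconj := CfsgLib.Blk4.conjIrrC_mem_principal (ζ i) ((hblk _).2 (Or.inr ⟨i, rfl⟩) : _)
  have hcne : CfsgLib.Blk4.conjIrrC (ζ i) ≠ principalIrr H := by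
    intro e
    refine hnonpr i ?_
    rw [← CfsgLib.Blk4.conjIrrC_conjIrrC (ζ i), e]
    exact Subtype.ext (funext fun g => by
      rw [CfsgLib.Blk4.conjIrrC_apply, principalIrr_apply, principalIrr_apply])
  obtain ⟨j, hj⟩ := ((hblk _).1 hconj).resolve_left hcne
  have hjv : ∀ g, (ζ j : H → ℂ) g = (f g⁻¹ : ℂ) := fun g => by
    rw [← hj, CfsgLib.Blk4.conjIrrC_apply, hfv]
  have hij : i ≠ j := by
    rintro rfl
    -- a real linear character is trivial here
    refine hnonpr i (Subtype.ext (funext fun g => ?_))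
    rw [principalIrr_apply, hfv]
    obtain ⟨t, v, hv, hcv, ⟨l, hl⟩, hreg⟩ := exists_isPPart Nat.prime_two g
    have hsq : ∀ w, f w * f w = 1 := fun w => by
      have h1 : (f w : ℂ) = (f w⁻¹ : ℂ) := (hfv w).symm.trans (hjv w)
      rw [map_inv] at h1
      have h2 : f w = (f w)⁻¹ := Units.ext h1
      nth_rewrite 2 [h2]
      exact mul_inv_cancel _
    have hfv1 : f v = 1 := by
      have h2 : orderOf (f v) ∣ 2 := orderOf_dvd_of_pow_eq_one (by rw [pow_two]; exact hsq v)
      rw [← orderOf_eq_one_iff]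
      refine Nat.Coprime.eq_one_of_dvd ?_ (orderOf_map_dvd f v)
      exact Nat.Coprime.coprime_dvd_left h2 ((Nat.prime_two.coprime_iff_not_dvd).2 hreg)
    have hft : f t = 1 := by
      by_cases ht : t = 1
      · rw [ht, map_one]
      obtain ⟨d, hd⟩ := CfsgLib.AbelTwo.exists_conj_mem P (u := t) ⟨l, hl⟩
      have ho : orderOf t = 2 := by
        rw [← MulEquiv.orderOf_eq (MulAut.conj d) t]
        exact hord _ hd fun e => ht (conj_eq_one_iff.1 e)
      refine Units.ext ?_
      rw [← hfv, hvalδ i t ho, Units.val_one]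
      exact (hvalδ i s hs).symm.trans (he.trans hdeg)
    rw [← hv, map_mul, hfv1, hft, mul_one, Units.val_one]
  -- the derived kernel is solvable
  have hKer : ∀ y ∈ f.ker, ¬ 2 ∣ orderOf y → y ∈ blockKer M H := by
    intro y hy hodd
    rw [MonoidHom.mem_ker] at hy
    rw [mem_blockKer]
    intro χ hχ
    have e0 := hrel' y hodd
    have e1 := hrel' 1 (by simp)
    have eiy : (ζ i : H → ℂ) y = (ζ i : H → ℂ) 1 := by rw [hfv, hfv, hy, map_one]
    have ejy : (ζ j : H → ℂ) y = (ζ j : H → ℂ) 1 := by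
      simp [hjv, hy]
    have heq : ∀ l, (ζ l : H → ℂ) y = (ζ l : H → ℂ) 1 := by
      intro l
      by_cases hli : l = i
      · rw [hli, eiy]
      by_cases hlj : l = j
      · rw [hlj, ejy]
      have h5 : ∑ m, (δ m : ℂ) * ((ζ m : H → ℂ) y - (ζ m : H → ℂ) 1) = 0 := by
        simp only [mul_sub, Finset.sum_sub_distrib]
        linear_combination e0 - e1
      rw [Finset.sum_eq_single l] at h5
      · exact sub_eq_zero.1 ((mul_eq_zero.1 h5).resolve_left (by
          rcases hsgn l with e2 | e2 <;> simp [e2]))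
      · intro m _ hm
        have key : ∀ i j l m : Fin 3, i ≠ j → l ≠ i → l ≠ j → m ≠ l → m = i ∨ m = j := by decide
        have : m = i ∨ m = j := key i j l m hij hli hlj hm
        rcases this with rfl | rfl
        · rw [eiy, sub_self, mul_zero]
        · rw [ejy, sub_self, mul_zero]
      · intro h6; exact absurd (Finset.mem_univ l) h6
    rcases (hblk χ).1 (Finset.mem_filter.1 hχ).2 with rfl | ⟨l, rfl⟩
    · rw [principalIrr_apply, principalIrr_apply]
    · exact heq l
  refine hns (isSolvable_of_normal f.ker ?_ ?_)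
  · haveI hbn : (blockKer M H).Normal := ⟨fun g hg c => by
      rw [mem_blockKer] at hg ⊢
      intro χ hχ
      rw [irr_isClassFunction χ g c]
      exact hg χ hχ⟩
    set N := (blockKer M H).subgroupOf f.ker with hN
    refine isSolvable_of_normal N ?_ ?_
    · refine isSolvable_of_odd_card fun h7 => blockKer_not_dvd (H := H) hM (h7.trans ?_)
      exact Subgroup.card_comap_dvd_of_injective _ f.ker.subtype Subtype.coe_injective
    · haveI : Finite (f.ker ⧸ N) := inferInstance
      have hp : IsPGroup 2 (f.ker ⧸ N) := by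
        intro q
        obtain ⟨⟨g, hg⟩, rfl⟩ := QuotientGroup.mk'_surjective N q
        obtain ⟨l, r, hr, hlr⟩ := Nat.exists_eq_two_pow_mul_odd (orderOf_pos g).ne'
        refine ⟨l, ?_⟩
        rw [← map_pow, QuotientGroup.mk'_apply, QuotientGroup.eq_one_iff]
        refine hKer (g ^ 2 ^ l) (Subgroup.pow_mem _ hg _) ?_
        rw [orderOf_pow' g (pow_ne_zero _ two_ne_zero), hlr, Nat.gcd_mul_right_left,
          Nat.mul_div_cancel_left _ (pow_pos two_pos l)]
        exact fun h7 => (Nat.not_even_iff_odd.2 hr) (even_iff_two_dvd.2 h7)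
      haveI := hp.isNilpotent
      infer_instance
  · haveI : Group.IsSolvable f.range := Group.isSolvable_of_comm fun a b =>
      Subtype.ext (mul_comm a.1 b.1)
    exact Group.isSolvable_of_surjective
      (f := (QuotientGroup.quotientKerEquivRange f).symm.toMonoidHom) (MulEquiv.surjective _)

end CfsgLib.ConstDiff
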