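import Cfsg.Agent.Lib.ConstDiff.Basic
import Cfsg.Agent.Lib.Blocks.SectionNorm
import Cfsg.Agent.Lib.Blocks.WeakOrth
import Cfsg.Agent.Lib.AbelTwo.Stab
import Mathlib.GroupTheory.Transfer
import Mathlib.GroupTheory.FiniteAbelian.Duality

/-!
# The local argument at an involution

A generalised character of `C(x)` supported on regular elements and orthogonal to all characters
outside the principal block gives an integral vector on the irreducible characters of `G`.
-/

set_option autoImplicit false
set_option linter.unusedSectionVars false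
set_option linter.style.haveILetI false

noncomputable section

namespace CfsgLib.ConstDiff

open Cfsg CfsgLib.Characters CfsgLib.Blocks
open scoped ComplexConjugate Classical

universe u

variable {G : Type u} [Group G] [Fintype G] [hp2 : Fact (Nat.Prime 2)] {M : Ideal AlgInt}

/-! ### Central involutions -/

section Central

variable {C : Type u} [Group C] [Fintype C] {z : C}

/-- A central involution acts on an irreducible character by a sign. -/
theorem irr_central_mul (hz : z ∈ Subgroup.center C) (hz2 : z * z = 1) (ξ : IrrCharacter C) :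
    ∃ w : ℤ, (w = 1 ∨ w = -1) ∧ ∀ c : C, (ξ : C → ℂ) (z * c) = (w : ℂ) * (ξ : C → ℂ) c := by
  have hone : ∀ c : C, (ξ : C → ℂ) (z * c) = centralChar (ξ : C → ℂ) z * (ξ : C → ℂ) c := by
    intro c
    rw [← sum_isConj_mul ξ z c, Finset.sum_eq_single z]
    · rw [if_pos (IsConj.refl z)]
    · intro h _ hne
      refine if_neg fun hc => hne ?_
      obtain ⟨d, hd⟩ := isConj_iff.1 hc
      rw [← hd, Subgroup.mem_center_iff.1 hz d, mul_inv_cancel_right]
    · intro h; exact absurd (Finset.mem_univ z) h
  have hw : centralChar (ξ : C → ℂ) z * centralChar (ξ : C → ℂ) z = 1 := by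
    have h1 := hone z
    rw [hz2] at h1
    have h2 := hone 1
    rw [mul_one] at h2
    rw [h2, ← mul_assoc] at h1
    exact mul_right_cancel₀ (irr_one_ne_zero ξ) (h1.symm.trans (one_mul _).symm)
  rcases mul_self_eq_one_iff.1 hw with h | h
  · exact ⟨1, Or.inl rfl, fun c => by rw [hone, h]; simp⟩
  · exact ⟨-1, Or.inr rfl, fun c => by rw [hone, h]; simp⟩

/-- Translating by a central involution preserves generalised characters. -/
theorem isGeneralizedCharacter_translate (hz : z ∈ Subgroup.center C) (hz2 : z * z = 1)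
    {θ : C → ℂ} (h : IsGeneralizedCharacter C θ) :
    IsGeneralizedCharacter C (fun c => θ (z * c)) := by
  choose n hn using fun ξ : IrrCharacter C =>
    classInner_generalized_int h (isGeneralizedCharacter_irr ξ)
  choose w _ hwc using irr_central_mul hz hz2
  have he : (fun c => θ (z * c)) =
      ∑ ξ : IrrCharacter C, ((n ξ * w ξ : ℤ) : ℂ) • (ξ : C → ℂ) := by
    funext c
    conv_lhs => rw [classFunction_eq_sum (isClassFunction_of_isGeneralizedCharacter h)]
    simp only [Finset.sum_apply, Pi.smul_apply, smul_eq_mul, hn, hwc]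
    push_cast
    exact Finset.sum_congr rfl fun ξ _ => by ring
  rw [he]
  exact isGeneralizedCharacter_sum _ fun ξ _ =>
    isGeneralizedCharacter_intCast_smul (isGeneralizedCharacter_irr ξ) _

/-- A sign homomorphism nontrivial on a central involution. -/
theorem exists_sign (S : Sylow 2 C)
    (hab : ∀ a ∈ (S : Subgroup C), ∀ b ∈ (S : Subgroup C), a * b = b * a)
    (hel : ∀ t ∈ (S : Subgroup C), t * t = 1)
    (hz : z ∈ Subgroup.center C) (hzo : orderOf z = 2) :
    ∃ ε : C →* ℂˣ, ε z = -1 ∧ ∀ c, ε c = 1 ∨ ε c = -1 := by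
  have hzS : z ∈ (S : Subgroup C) := by
    obtain ⟨d, hd⟩ := CfsgLib.AbelTwo.exists_conj_mem S (u := z) ⟨1, by rw [hzo, pow_one]⟩
    rwa [Subgroup.mem_center_iff.1 hz d, mul_inv_cancel_right] at hd
  letI : CommGroup (S : Subgroup C) :=
    { (inferInstance : Group (S : Subgroup C)) with
      mul_comm := fun a b => Subtype.ext (hab _ a.2 _ b.2) }
  have hne : (⟨z, hzS⟩ : (S : Subgroup C)) ≠ 1 := fun e => by
    rw [Subtype.ext_iff] at e
    simp only [Subgroup.coe_one] at e
    rw [e, orderOf_one] at hzo
    omega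
  obtain ⟨φ, hφ⟩ := CommGroup.exists_apply_ne_one_of_hasEnoughRootsOfUnity
    (S : Subgroup C) ℂ hne
  have hsq : ∀ t, φ t ∈ rootsOfUnity 2 ℂ := fun t => by
    rw [mem_rootsOfUnity, ← map_pow, pow_two]
    rw [show t * t = 1 from Subtype.ext (hel _ t.2), map_one]
  let φ' : (S : Subgroup C) →* rootsOfUnity 2 ℂ := φ.codRestrict _ hsq
  let ε : C →* ℂˣ := (rootsOfUnity 2 ℂ).subtype.comp (MonoidHom.transfer φ')
  have hpm : ∀ v : rootsOfUnity 2 ℂ, (v : ℂˣ) = 1 ∨ (v : ℂˣ) = -1 := by
    intro v
    have hv := v.2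
    rw [mem_rootsOfUnity, Units.ext_iff, Units.val_pow_eq_pow_val, Units.val_one, pow_two,
      mul_self_eq_one_iff] at hv
    rcases hv with h | h
    · exact Or.inl (Units.ext h)
    · exact Or.inr (Units.ext (by simpa using h))
  refine ⟨ε, ?_, fun c => hpm _⟩
  refine (hpm _).resolve_left fun h1 => hφ ?_
  have hpow := MonoidHom.transfer_eq_pow φ' z fun k g₀ _ => by
    have := Subgroup.mem_center_iff.1 ((Subgroup.center C).pow_mem hz k) g₀
    rw [mul_assoc, ← this, inv_mul_cancel_left]
  have hodd : Odd (S : Subgroup C).index := by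
    rw [← Nat.not_even_iff_odd, even_iff_two_dvd]; exact S.not_dvd_index
  obtain ⟨i, hi⟩ := hodd
  have hzi : z ^ (S : Subgroup C).index = z := by
    rw [hi, pow_succ, pow_mul, pow_two, hel z hzS, one_pow, one_mul]
  have he : MonoidHom.transfer φ' z = φ' ⟨z, hzS⟩ := by
    rw [hpow]
    exact congrArg φ' (Subtype.ext hzi)
  have h2 : ((φ' ⟨z, hzS⟩ : rootsOfUnity 2 ℂ) : ℂˣ) = 1 := by rw [← he]; exact h1
  exact h2

variable {ε : C →* ℂˣ}

theorem sign_coset (hεz : ε z = -1) (hεv : ∀ c, ε c = 1 ∨ ε c = -1) {c : C} (hc : c ∉ ε.ker) :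
    z * c ∈ ε.ker := by
  rw [MonoidHom.mem_ker, map_mul, hεz, (hεv c).resolve_left hc]
  simp

theorem sign_not_mem (hεz : ε z = -1) {c : C} (hc : c ∈ ε.ker) : z * c ∉ ε.ker := by
  rw [MonoidHom.mem_ker] at hc ⊢
  rw [map_mul, hεz, hc, mul_one, Units.ext_iff]
  norm_num

/-- Elements of odd order lie in the kernel of a sign. -/
theorem sign_odd (hεv : ∀ c, ε c = 1 ∨ ε c = -1) {c : C} (hc : ¬ 2 ∣ orderOf c) : c ∈ ε.ker := by
  rw [MonoidHom.mem_ker]
  refine (hεv c).resolve_right fun h => hc ?_
  have h2 : orderOf (ε c) = 2 := by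
    rw [h, orderOf_eq_prime_iff]
    refine ⟨by simp, fun e => ?_⟩
    rw [Units.ext_iff] at e
    norm_num at e
  rw [← h2]
  exact orderOf_map_dvd ε c

theorem sign_index (hεz : ε z = -1) (hεv : ∀ c, ε c = 1 ∨ ε c = -1) : ε.ker.index = 2 :=
  Subgroup.index_eq_two_iff.2 ⟨z, fun c => by
    by_cases hc : c ∈ ε.ker
    · refine Or.inr ⟨hc, ?_⟩
      rw [MonoidHom.mem_ker] at hc ⊢
      rw [map_mul, hc, hεz, one_mul, Units.ext_iff]
      norm_num
    · refine Or.inl ⟨?_, hc⟩
      rw [MonoidHom.mem_ker, map_mul, hεz, (hεv c).resolve_left hc]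
      simp⟩

/-- A sum over the group splits along the kernel of a sign. -/
theorem sum_sign (hεz : ε z = -1) (hεv : ∀ c, ε c = 1 ∨ ε c = -1) (F : C → ℂ) :
    ∑ c : C, F c = ∑ c : ε.ker, (F (c : C) + F (z * (c : C))) := by
  rw [Finset.sum_add_distrib, ← Finset.sum_filter_add_sum_filter_not Finset.univ (· ∈ ε.ker) F]
  congr 1
  · exact Finset.sum_subtype _ (fun c => by simp) F
  · rw [← Finset.sum_subtype (Finset.univ.filter (· ∈ ε.ker)) (fun c => by simp)
      (fun c => F (z * c))]
    refine Finset.sum_nbij' (fun c => z⁻¹ * c) (fun c => z * c) ?_ ?_ ?_ ?_ ?_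
    · intro c hc
      simp only [Finset.mem_filter, Finset.mem_univ, true_and, Finset.mem_coe] at hc ⊢
      rw [MonoidHom.mem_ker, map_mul, map_inv, hεz, (hεv c).resolve_left hc]
      simp
    · intro c hc
      simp only [Finset.mem_filter, Finset.mem_univ, true_and, Finset.mem_coe] at hc ⊢
      exact sign_not_mem hεz hc
    · intro c _; simp
    · intro c _; simp
    · intro c _; simp

theorem card_sign (hεz : ε z = -1) (hεv : ∀ c, ε c = 1 ∨ ε c = -1) :
    Nat.card C = 2 * Nat.card ε.ker := by
  rw [← ε.ker.index_mul_card, sign_index hεz hεv]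

/-- Restriction of an irreducible character to the kernel of a sign. -/
theorem isIrr_res (hz : z ∈ Subgroup.center C) (hz2 : z * z = 1) (hεz : ε z = -1)
    (hεv : ∀ c, ε c = 1 ∨ ε c = -1) (ξ : IrrCharacter C) :
    IsIrrCharacter ε.ker (fun c : ε.ker => (ξ : C → ℂ) (c : C)) := by
  refine CfsgLib.Clifford.isIrr_of_norm_one
    (CfsgLib.Clifford.isCharacter_subtype (irr_isCharacter ξ) ε.ker) ?_
  obtain ⟨w, hw, hwc⟩ := irr_central_mul hz hz2 ξ
  have hone : classInner (ξ : C → ℂ) ξ = 1 := classInner_irr_self ξ.2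
  rw [classInner, sum_sign hεz hεv, card_sign hεz hεv] at hone
  rw [← hone, classInner]
  have : ((Nat.card ε.ker : ℕ) : ℂ) ≠ 0 := Nat.cast_ne_zero.2 Nat.card_pos.ne'
  push_cast
  have key : ∀ c : ε.ker, (ξ : C → ℂ) c * conj ((ξ : C → ℂ) c) +
      (ξ : C → ℂ) (z * c) * conj ((ξ : C → ℂ) (z * c)) =
        2 * ((ξ : C → ℂ) c * conj ((ξ : C → ℂ) c)) := fun c => by
    rw [hwc, map_mul, map_intCast]
    rcases hw with rfl | rfl <;> push_cast <;> ring
  rw [Finset.sum_congr rfl fun c _ => key c, ← Finset.mul_sum]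
  field_simp

/-- The restriction. -/
def resIrr (hz : z ∈ Subgroup.center C) (hz2 : z * z = 1) (hεz : ε z = -1)
    (hεv : ∀ c, ε c = 1 ∨ ε c = -1) (ξ : IrrCharacter C) : IrrCharacter ε.ker :=
  ⟨_, isIrr_res hz hz2 hεz hεv ξ⟩

/-- The restriction is in the principal block exactly when the character is. -/
theorem resIrr_mem_iff {M : Ideal AlgInt} (hM : IsPModular 2 M) (hz : z ∈ Subgroup.center C)
    (hz2 : z * z = 1) (hεz : ε z = -1) (hεv : ∀ c, ε c = 1 ∨ ε c = -1) (ξ : IrrCharacter C) :
    resIrr hz hz2 hεz hεv ξ ∈ principalBlock M ε.ker ↔ ξ ∈ principalBlock M C := by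
  have hidx : ∀ c : ε.ker, (Subgroup.centralizer ({c} : Set ε.ker)).index =
      (Subgroup.centralizer ({(c : C)} : Set C)).index := by
    intro c
    have he : Subgroup.centralizer ({c} : Set ε.ker) =
        (Subgroup.centralizer ({(c : C)} : Set C)).subgroupOf ε.ker := by
      ext d
      simp [Subgroup.mem_centralizer_singleton_iff, Subgroup.mem_subgroupOf, Subtype.ext_iff]
    rw [he]
    show (Subgroup.centralizer ({(c : C)} : Set C)).relIndex ε.ker = _
    set D := Subgroup.centralizer ({(c : C)} : Set C)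
    have hzD : z ∈ D :=
      Subgroup.mem_centralizer_singleton_iff.2 (Subgroup.mem_center_iff.1 hz (c : C)).symm
    have hsup : D ⊔ ε.ker = ⊤ := by
      rw [eq_top_iff]
      intro d _
      by_cases hd : d ∈ ε.ker
      · exact Subgroup.mem_sup_right hd
      · have := Subgroup.mul_mem _ (Subgroup.mem_sup_left (T := ε.ker) (D.inv_mem hzD))
          (Subgroup.mem_sup_right (S := D) (sign_coset hεz hεv hd))
        rwa [inv_mul_cancel_left] at this
    have h2 : ε.ker.relIndex D = 2 := by
      rw [← Subgroup.relIndex_sup_right, hsup, Subgroup.relIndex_top_right,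
        sign_index hεz hεv]
    have h3 := Subgroup.relIndex_mul_index (inf_le_left : D ⊓ ε.ker ≤ D)
    have h4 := Subgroup.relIndex_mul_index (inf_le_right : D ⊓ ε.ker ≤ ε.ker)
    rw [Subgroup.inf_relIndex_right, sign_index hεz hεv] at h4
    rw [Subgroup.inf_relIndex_left, h2] at h3
    omega
  have hcc : ∀ c : ε.ker, centralChar (resIrr hz hz2 hεz hεv ξ : ε.ker → ℂ) c =
      centralChar (ξ : C → ℂ) (c : C) := fun c => by
    simp only [centralChar, resIrr, hidx c, Subgroup.coe_one]
  have hcp : ∀ c : ε.ker, centralChar (fun _ : ε.ker => (1 : ℂ)) c =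
      centralChar (fun _ : C => (1 : ℂ)) (c : C) := fun c => by
    simp only [centralChar, hidx c]
  constructor
  · intro h c
    by_cases hc : c ∈ ε.ker
    · have := h ⟨c, hc⟩
      rwa [hcc, hcp] at this
    · have h1 := h ⟨z * c, sign_coset hεz hεv hc⟩
      rw [hcc, hcp] at h1
      obtain ⟨w, hw, hwc⟩ := irr_central_mul hz hz2 ξ
      have hcent : Subgroup.centralizer ({z * c} : Set C) = Subgroup.centralizer ({c} : Set C) := by
        ext d
        simp only [Subgroup.mem_centralizer_singleton_iff]
        rw [← mul_assoc, Subgroup.mem_center_iff.1 hz d, mul_assoc, mul_assoc]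
        exact mul_left_cancel_iff
      have e1 : centralChar (ξ : C → ℂ) (z * c) = (w : ℂ) * centralChar (ξ : C → ℂ) c := by
        simp only [centralChar, hcent, hwc]; ring
      have e2 : centralChar (fun _ : C => (1 : ℂ)) (z * c) =
          centralChar (fun _ : C => (1 : ℂ)) c := by
        simp only [centralChar, hcent]
      rw [e1, e2] at h1
      rcases hw with rfl | rfl
      · simpa using h1
      · -- `-a - 1` differs from `-(a - 1)` by an even integer
        have h2 : MemLocalIdeal M ((2 : ℂ) * centralChar (fun _ : C => (1 : ℂ)) c) := by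
          refine MemLocalIdeal.mul_right hM ?_ ?_
          · exact_mod_cast (CfsgLib.Contribution.memLocalIdeal_intCast_iff hM (2 : ℤ)).2 dvd_rfl
          · simp only [centralChar, div_one, mul_one]
            exact natCast_mem (lRing hM) _
        have h3 := MemLocalIdeal.add hM (MemLocalIdeal.neg hM h1) h2
        convert h3 using 1
        push_cast
        ring
  · intro h c
    show MemLocalIdeal M _
    rw [hcc, hcp]
    exact h (c : C)

end Central

/-! ### The vector attached to a local character -/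

variable {x : G}

theorem mem_center_x : (⟨x, Subgroup.mem_centralizer_singleton_iff.2 rfl⟩ :
    Subgroup.centralizer ({x} : Set G)) ∈ Subgroup.center (Subgroup.centralizer ({x} : Set G)) :=
  Subgroup.mem_center_iff.2 fun d => Subtype.ext (Subgroup.mem_centralizer_singleton_iff.1 d.2)

theorem isGeneralizedCharacter_sectionFun (hx : x * x = 1) (χ : IrrCharacter G) :
    IsGeneralizedCharacter (Subgroup.centralizer ({x} : Set G)) (sectionFun x (χ : G → ℂ)) := by
  have h := isGeneralizedCharacter_translate (mem_center_x (x := x)) (Subtype.ext hx)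
    (isGeneralizedCharacter_of_isCharacter
      (CfsgLib.Clifford.isCharacter_subtype (irr_isCharacter χ) (Subgroup.centralizer ({x} : Set G))))
  exact h

/-- Column sums on the section of `z` agree with those of the centraliser. -/
theorem sum_section {z : G} (hM : IsPModular 2 M) (hz : ∃ k : ℕ, orderOf z = 2 ^ k)
    {c d : Subgroup.centralizer ({z} : Set G)} (hc : ¬ 2 ∣ orderOf c) (hd : ¬ 2 ∣ orderOf d) :
    ∑ ζ : IrrCharacter G, (ζ : G → ℂ) (z * (c : G)) * conj ((ζ : G → ℂ) (z * (d : G))) =
      ∑ ξ : IrrCharacter (Subgroup.centralizer ({z} : Set G)),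
        (ξ : Subgroup.centralizer ({z} : Set G) → ℂ) c *
          conj ((ξ : Subgroup.centralizer ({z} : Set G) → ℂ) d) := by
  have hp : ∀ e : Subgroup.centralizer ({z} : Set G), ¬ 2 ∣ orderOf e → IsPPart 2 (z * (e : G)) z :=
    fun e he => isPPart_mul (commute_centralizer e) hz (by rwa [Subgroup.orderOf_coe])
  have hiff : IsConj (z * (c : G)) (z * (d : G)) ↔ IsConj c d := by
    constructor
    · intro h
      obtain ⟨e, he⟩ := isConj_iff.1 h
      have h3 := IsPPart.conj (hp c hc) e
      rw [he] at h3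
      have h4 := mul_inv_eq_iff_eq_mul.1 (IsPPart.unique hM.1 h3 (hp d hd))
      refine isConj_iff.2 ⟨⟨e, Subgroup.mem_centralizer_singleton_iff.2 h4⟩,
        Subtype.ext (mul_left_cancel (a := z) ?_)⟩
      rw [← he]
      show z * (e * (c : G) * e⁻¹) = e * (z * (c : G)) * e⁻¹
      rw [← mul_assoc e z, h4]
      group
    · intro h
      obtain ⟨e, he⟩ := isConj_iff.1 h
      refine isConj_iff.2 ⟨(e : G), ?_⟩
      rw [← he]
      simp only [Subgroup.coe_mul, Subgroup.coe_inv]
      rw [← mul_assoc (e : G) z, ← (commute_centralizer e).eq]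
      group
  have hmem : ∀ e ∈ Subgroup.centralizer ({z * (c : G)} : Set G),
      e ∈ Subgroup.centralizer ({z} : Set G) ∧ e * c = c * e := by
    intro e he
    have he' := Subgroup.mem_centralizer_singleton_iff.1 he
    have h3 := IsPPart.conj (hp c hc) e
    rw [mul_inv_eq_iff_eq_mul.2 he'] at h3
    have h4 := mul_inv_eq_iff_eq_mul.1 (IsPPart.unique hM.1 h3 (hp c hc))
    refine ⟨Subgroup.mem_centralizer_singleton_iff.2 h4, mul_left_cancel (a := z) ?_⟩
    rw [← mul_assoc, ← h4, mul_assoc, he', mul_assoc]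
  have hcard : Nat.card (Subgroup.centralizer ({z * (c : G)} : Set G)) =
      Nat.card (Subgroup.centralizer ({c} : Set (Subgroup.centralizer ({z} : Set G)))) := by
    refine Nat.card_congr
      { toFun := fun e => ⟨⟨e, (hmem e e.2).1⟩,
          Subgroup.mem_centralizer_singleton_iff.2 (Subtype.ext (hmem e e.2).2)⟩
        invFun := fun e => ⟨((e : Subgroup.centralizer ({z} : Set G)) : G),
          Subgroup.mem_centralizer_singleton_iff.2 ?_⟩
        left_inv := fun e => rfl
        right_inv := fun e => rfl }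
    have he := congrArg Subtype.val (Subgroup.mem_centralizer_singleton_iff.1 e.2)
    simp only [Subgroup.coe_mul] at he
    rw [← mul_assoc, ← (commute_centralizer (e : Subgroup.centralizer ({z} : Set G))).eq,
      mul_assoc, he, mul_assoc]
  rw [column_orth, column_orth]
  by_cases h : IsConj c d
  · rw [if_pos (hiff.2 h), if_pos h, hcard]
  · rw [if_neg (fun e => h (hiff.1 e)), if_neg h]

variable {u : G} {k : ℂ}

/-- The vector attached to a local character. -/
theorem exists_local (h : Hyp M u k) (hxo : orderOf x = 2)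
    {y : Subgroup.centralizer ({x} : Set G)} (hy : ¬ 2 ∣ orderOf y) (hxy : x * (y : G) = u)
    {Θ : Subgroup.centralizer ({x} : Set G) → ℂ}
    (hgen : IsGeneralizedCharacter (Subgroup.centralizer ({x} : Set G)) Θ)
    (hsupp : ∀ c, 2 ∣ orderOf c → Θ c = 0)
    (hblk : ∀ ξ : IrrCharacter (Subgroup.centralizer ({x} : Set G)),
      ξ ∉ principalBlock M (Subgroup.centralizer ({x} : Set G)) →
        classInner Θ (ξ : Subgroup.centralizer ({x} : Set G) → ℂ) = 0) :
    ∃ D : IrrCharacter G → ℤ,
      (∀ χ, (D χ : ℂ) = classInner (sectionFun x (χ : G → ℂ)) Θ) ∧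
      (∀ χ, χ ∉ principalBlock M G → D χ = 0) ∧
      ((∑ χ, D χ * D χ : ℤ) : ℂ) = classInner Θ Θ ∧
      k * ((∑ χ ∈ rest M, D χ : ℤ) : ℂ) = -conj (Θ y) := by
  have hx2 : x * x = 1 := by rw [← pow_two, ← hxo, pow_orderOf_eq_one]
  have hxp : ∃ j : ℕ, orderOf x = 2 ^ j := ⟨1, by rw [hxo, pow_one]⟩
  choose D hD using fun χ : IrrCharacter G =>
    classInner_generalized_int (isGeneralizedCharacter_sectionFun hx2 χ) hgen
  have hcl : IsClassFunction (Subgroup.centralizer ({x} : Set G)) Θ :=
    isClassFunction_of_isGeneralizedCharacter hgen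
  have hzero : ∀ χ, χ ∉ principalBlock M G → D χ = 0 := by
    intro χ hχ
    have h1 : classInner (sectionFun x (χ : G → ℂ)) Θ = classInner
        (fun c => blockPart (principalBlock M (Subgroup.centralizer ({x} : Set G)))
          (sectionFun x (χ : G → ℂ)) c) Θ := by
      rw [classInner_eq_sum_mul hcl, classInner_eq_sum_mul hcl]
      refine Finset.sum_congr rfl fun ξ _ => ?_
      by_cases hξ : ξ ∈ principalBlock M (Subgroup.centralizer ({x} : Set G))
      · congr 1
        have he : (fun c => blockPart (principalBlock M (Subgroup.centralizer ({x} : Set G)))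
            (sectionFun x (χ : G → ℂ)) c) =
              ∑ η ∈ Finset.univ.filter (· ∈ principalBlock M (Subgroup.centralizer ({x} : Set G))),
                classInner (sectionFun x (χ : G → ℂ)) η • (η : _ → ℂ) := by
          funext c
          rw [blockPart_eq_sum]
          simp [Finset.sum_apply]
        rw [he, classInner_irr_sum, if_pos (Finset.mem_filter.2 ⟨Finset.mem_univ _, hξ⟩)]
      · rw [hblk ξ hξ]; simp
    have h2 : classInner (fun c => blockPart (principalBlock M (Subgroup.centralizer ({x} : Set G)))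
          (sectionFun x (χ : G → ℂ)) c) Θ = 0 := by
      rw [classInner, Finset.sum_eq_zero, mul_zero]
      intro c _
      by_cases hc : 2 ∣ orderOf c
      · rw [hsupp c hc]; simp
      · rw [blockPart_principal_section h.hM hxp hc χ, if_neg hχ, zero_mul]
    have := hD χ
    rw [h1, h2] at this
    exact_mod_cast this.symm
  have hcol : ∀ d : Subgroup.centralizer ({x} : Set G), ¬ 2 ∣ orderOf d →
      ∑ χ : IrrCharacter G, (D χ : ℂ) * conj ((χ : G → ℂ) (x * (d : G))) = conj (Θ d) := by
    intro d hd
    conv_rhs => rw [classFunction_eq_sum hcl]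
    simp only [Finset.sum_apply, Pi.smul_apply, smul_eq_mul, map_sum, map_mul]
    simp only [← hD, classInner, sectionFun, map_mul, map_inv₀, map_natCast, map_sum,
      Complex.conj_conj, Finset.mul_sum, Finset.sum_mul]
    rw [Finset.sum_comm]
    conv_rhs => rw [Finset.sum_comm]
    refine Finset.sum_congr rfl fun c _ => ?_
    by_cases hc : 2 ∣ orderOf c
    · simp [hsupp c hc]
    · calc _ = (Nat.card (Subgroup.centralizer ({x} : Set G)) : ℂ)⁻¹ * conj (Θ c) *
            ∑ χ : IrrCharacter G, (χ : G → ℂ) (x * (c : G)) * conj ((χ : G → ℂ) (x * (d : G))) := by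
              rw [Finset.mul_sum]
              exact Finset.sum_congr rfl fun χ _ => by ring
        _ = _ := by
              rw [sum_section h.hM hxp hc hd, Finset.mul_sum]
              exact Finset.sum_congr rfl fun ξ _ => by ring
  refine ⟨D, fun χ => (hD χ).symm, hzero, ?_, ?_⟩
  · push_cast
    calc ∑ χ, (D χ : ℂ) * (D χ : ℂ)
        = ∑ χ, (D χ : ℂ) * conj (classInner (sectionFun x (χ : G → ℂ)) Θ) :=
          Finset.sum_congr rfl fun χ _ => by rw [hD, map_intCast]
      _ = (Nat.card (Subgroup.centralizer ({x} : Set G)) : ℂ)⁻¹ * ∑ c,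
            Θ c * ∑ χ : IrrCharacter G, (D χ : ℂ) * conj ((χ : G → ℂ) (x * (c : G))) := by
          simp only [classInner, sectionFun, map_mul, map_inv₀, map_natCast, map_sum,
            Complex.conj_conj, Finset.mul_sum]
          rw [Finset.sum_comm]
          exact Finset.sum_congr rfl fun c _ => Finset.sum_congr rfl fun χ _ => by ring
      _ = classInner Θ Θ := by
          rw [classInner]
          congr 1
          refine Finset.sum_congr rfl fun c _ => ?_
          by_cases hc : 2 ∣ orderOf c
          · simp [hsupp c hc]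
          · rw [hcol c hc]
  · have hu := hcol y hy
    rw [hxy] at hu
    have h1 : ∑ χ : IrrCharacter G, (D χ : ℂ) * (χ : G → ℂ) 1 = 0 := by
      simp only [← hD, classInner, sectionFun, Finset.mul_sum, Finset.sum_mul]
      rw [Finset.sum_comm]
      refine Finset.sum_eq_zero fun c _ => ?_
      by_cases hc : 2 ∣ orderOf c
      · simp [hsupp c hc]
      calc _ = (Nat.card (Subgroup.centralizer ({x} : Set G)) : ℂ)⁻¹ * conj (Θ c) *
            ∑ χ : IrrCharacter G, (χ : G → ℂ) (x * (c : G)) * conj ((χ : G → ℂ) 1) := by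
              rw [Finset.mul_sum]
              refine Finset.sum_congr rfl fun χ _ => ?_
              rw [coe_dg, Complex.conj_natCast]
              ring
        _ = 0 := by
              rw [column_orth, if_neg, mul_zero]
              intro he
              have h0 : x * (c : G) = 1 := isConj_one_left.1 he
              refine hc ?_
              rw [← Subgroup.orderOf_coe, ← inv_eq_of_mul_eq_one_right h0, orderOf_inv, hxo]
    have hres : ∀ F : IrrCharacter G → ℂ, ∑ χ, (D χ : ℂ) * F χ =
        (D (principalIrr G) : ℂ) * F (principalIrr G) + ∑ χ ∈ rest M, (D χ : ℂ) * F χ := fun F => by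
      rw [← sum_blockSet h.hM (fun χ => (D χ : ℂ) * F χ)]
      refine (Finset.sum_subset (Finset.subset_univ _) fun χ _ hχ => ?_).symm
      rw [hzero χ (fun hb => hχ (Finset.mem_filter.2 ⟨Finset.mem_univ _, hb⟩))]
      simp
    rw [hres] at hu h1
    rw [principalIrr_apply, map_one] at hu
    rw [principalIrr_apply] at h1
    have e : ∑ χ ∈ rest M, (D χ : ℂ) * conj ((χ : G → ℂ) u) =
        ∑ χ ∈ rest M, (D χ : ℂ) * (χ : G → ℂ) 1 - k * ((∑ χ ∈ rest M, D χ : ℤ) : ℂ) := by
      have hk : ∀ χ ∈ rest (G := G) M, conj ((χ : G → ℂ) u) = (χ : G → ℂ) 1 - conj k := by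
        intro χ hχ
        rw [h.val hχ, map_sub, Complex.conj_natCast, coe_dg]
      have hkr : conj k = k := by
        obtain ⟨o, a, ho⟩ := h.exists_oneClass
        rw [h.k_eq ho default, Complex.conj_natCast]
      push_cast
      rw [Finset.mul_sum, ← Finset.sum_sub_distrib]
      exact Finset.sum_congr rfl fun χ hχ => by rw [hk χ hχ, hkr]; ring
    rw [e] at hu
    linear_combination h1 - hu

end CfsgLib.ConstDiff
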