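import Cfsg.Agent.Lib.ConstDiff.Burnside
import Cfsg.Agent.Lib.Signalizer63.Connected
import Cfsg.Agent.Lib.StrongEmbedding.Swap
import Cfsg.Agent.Lib.InvChar.SolvableTwo
import Cfsg.Agent.S0217
import Cfsg.Agent.S0223

/-!
# Elementary abelian Sylow 2-subgroups and solvable centralisers of involutions

Such a group is solvable or has one class of involutions.
-/

set_option autoImplicit false
set_option linter.unusedSectionVars false
set_option linter.style.haveILetI false

noncomputable section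

namespace CfsgLib.ConstDiff

open Cfsg
open scoped Pointwise

universe u

variable {L : Type u} [Group L] [Finite L] [hp2 : Fact (Nat.Prime 2)]

/-- The image of an abelian Sylow subgroup in a solvable group modulo the odd core is normal. -/
theorem normal_map_sylow [Group.IsSolvable L] (S : Sylow 2 L)
    (hab : ∀ a ∈ (S : Subgroup L), ∀ b ∈ (S : Subgroup L), a * b = b * a) :
    (S : Subgroup L).map (QuotientGroup.mk' (pPrimeCore 2 L)) = pCore 2 (L ⧸ pPrimeCore 2 L) := by
  haveI : (pPrimeCore 2 L).Normal := pPrimeCore_normal 2 L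
  haveI : Group.IsSolvable (L ⧸ pPrimeCore 2 L) :=
    Group.isSolvable_of_surjective (QuotientGroup.mk'_surjective (pPrimeCore 2 L))
  have hcent := CfsgLib.InvChar.centralizer_pCore_le (G := L ⧸ pPrimeCore 2 L) (p := 2)
    CfsgLib.PCore.pPrimeCore_quotient_pPrimeCore
  set SQ : Sylow 2 (L ⧸ pPrimeCore 2 L) :=
    S.mapSurjective (QuotientGroup.mk'_surjective (pPrimeCore 2 L))
  have hSQ : (SQ : Subgroup (L ⧸ pPrimeCore 2 L)) =
      (S : Subgroup L).map (QuotientGroup.mk' (pPrimeCore 2 L)) := Sylow.coe_mapSurjective ..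
  rw [← hSQ]
  refine le_antisymm (fun a ha => hcent ?_) (CfsgLib.PCore.pCore_le_sylow SQ)
  refine Subgroup.mem_centralizer_iff.2 fun b hb => ?_
  have hb' := CfsgLib.PCore.pCore_le_sylow SQ hb
  rw [hSQ] at ha hb'
  obtain ⟨a', ha', rfl⟩ := ha
  obtain ⟨b', hb'', rfl⟩ := hb'
  rw [← map_mul, ← map_mul, hab _ hb'' _ ha']

/-- A subgroup of odd order invariant under an abelian Sylow subgroup lies in the odd core. -/
theorem le_core_of_invariant [Group.IsSolvable L] (S : Sylow 2 L)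
    (hab : ∀ a ∈ (S : Subgroup L), ∀ b ∈ (S : Subgroup L), a * b = b * a) (W : Subgroup L)
    (hW : ¬ 2 ∣ Nat.card W) (hinv : ∀ s ∈ (S : Subgroup L), ∀ w ∈ W, s * w * s⁻¹ ∈ W) :
    W ≤ pPrimeCore 2 L := by
  haveI : (pPrimeCore 2 L).Normal := pPrimeCore_normal 2 L
  haveI : Group.IsSolvable (L ⧸ pPrimeCore 2 L) :=
    Group.isSolvable_of_surjective (QuotientGroup.mk'_surjective (pPrimeCore 2 L))
  have hcent := CfsgLib.InvChar.centralizer_pCore_le (G := L ⧸ pPrimeCore 2 L) (p := 2)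
    CfsgLib.PCore.pPrimeCore_quotient_pPrimeCore
  set π := QuotientGroup.mk' (pPrimeCore 2 L)
  set P := pCore 2 (L ⧸ pPrimeCore 2 L)
  have hP : (S : Subgroup L).map π = P := normal_map_sylow S hab
  have hWodd : ¬ 2 ∣ Nat.card (W.map π) := fun h => hW (h.trans (W.card_map_dvd π))
  intro w hw
  rw [← QuotientGroup.eq_one_iff (N := pPrimeCore 2 L)]
  have hdisj : W.map π ⊓ P = ⊥ := by
    rw [inf_comm]
    exact CfsgLib.PCore.inf_eq_bot_of_isPGroup_coprime CfsgLib.PCore.pCore_isPGroup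
      (CfsgLib.PCore.coprime_of_not_dvd_card hWodd)
  have hwc : π w ∈ Subgroup.centralizer (P : Set (L ⧸ pPrimeCore 2 L)) := by
    refine Subgroup.mem_centralizer_iff.2 fun q hq => ?_
    have hq' : q ∈ (S : Subgroup L).map π := hP.symm ▸ hq
    obtain ⟨s, hs, rfl⟩ := hq'
    have h1 : π s * π w * (π s)⁻¹ * (π w)⁻¹ ∈ W.map π ⊓ P := by
      refine ⟨?_, ?_⟩
      · refine (W.map π).mul_mem ?_ ((W.map π).inv_mem ⟨w, hw, rfl⟩)
        exact ⟨s * w * s⁻¹, hinv s hs w hw, by simp⟩
      · haveI : P.Normal := inferInstance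
        rw [show π s * π w * (π s)⁻¹ * (π w)⁻¹ = π s * (π w * (π s)⁻¹ * (π w)⁻¹) by group]
        exact P.mul_mem hq ((inferInstance : P.Normal).conj_mem _ (P.inv_mem hq) _)
    rw [hdisj, Subgroup.mem_bot] at h1
    exact mul_inv_eq_iff_eq_mul.1 (mul_inv_eq_one.1 h1)
  have h2 : π w ∈ W.map π ⊓ P := ⟨⟨w, hw, rfl⟩, hcent hwc⟩
  rw [hdisj, Subgroup.mem_bot] at h2
  exact h2

/-- The Frattini argument in a solvable group with abelian Sylow subgroup. -/
theorem eq_core_sup_normalizer [Group.IsSolvable L] (S : Sylow 2 L)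
    (hab : ∀ a ∈ (S : Subgroup L), ∀ b ∈ (S : Subgroup L), a * b = b * a) :
    pPrimeCore 2 L ⊔ Subgroup.normalizer ((S : Subgroup L) : Set L) = ⊤ := by
  haveI : (pPrimeCore 2 L).Normal := pPrimeCore_normal 2 L
  set π := QuotientGroup.mk' (pPrimeCore 2 L) with hπ
  set N := (pCore 2 (L ⧸ pPrimeCore 2 L)).comap π with hN
  have hSN : (S : Subgroup L) ≤ N := by
    rw [hN, ← normal_map_sylow S hab]
    exact Subgroup.le_comap_map _ _
  have h := Sylow.normalizer_sup_eq_top' (N := N) S hSN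
  rw [hN, ← normal_map_sylow S hab, Subgroup.comap_map_eq, QuotientGroup.ker_mk'] at h
  refine top_le_iff.1 (le_trans (le_of_eq h.symm) (sup_le le_sup_right (sup_le ?_ le_sup_left)))
  exact Subgroup.le_normalizer.trans le_sup_right

variable {Y : Type u} [Group Y] [Finite Y]

/-- A group with elementary abelian Sylow 2-subgroup of order at least eight and solvable involution
centralisers is solvable or has one class of involutions. -/
theorem solvable_or_one_class (P : Sylow 2 Y)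
    (hab : ∀ a ∈ (P : Subgroup Y), ∀ b ∈ (P : Subgroup Y), a * b = b * a)
    (hel : ∀ a ∈ (P : Subgroup Y), a * a = 1) (h8 : 8 ≤ Nat.card (P : Subgroup Y))
    (hsol : ∀ a ∈ (P : Subgroup Y), a ≠ 1 → Group.IsSolvable (Subgroup.centralizer ({a} : Set Y))) :
    Group.IsSolvable Y ∨ ∀ s t : Y, orderOf s = 2 → orderOf t = 2 → IsConj s t := by
  set A := (P : Subgroup Y) with hA
  set θ : Y → Subgroup Y := fun a => centralizerPPrimeCore 2 a with hθ
  have hPle : ∀ a ∈ A, A ≤ Subgroup.centralizer ({a} : Set Y) := fun a ha b hb =>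
    Subgroup.mem_centralizer_singleton_iff.2 (hab b hb a ha)
  have hmemS : ∀ a (ha : a ∈ A) (c : Subgroup.centralizer ({a} : Set Y)),
      c ∈ ((P.subtype (hPle a ha) : Sylow 2 _) : Subgroup (Subgroup.centralizer ({a} : Set Y))) ↔
        (c : Y) ∈ A := fun a ha c => by rw [P.coe_subtype (hPle a ha)]; rfl
  have hθC : ∀ a ∈ A, a ≠ 1 → θ a ≤ Subgroup.centralizer {a} := fun a _ _ =>
    Subgroup.map_subtype_le _
  have hθp : ∀ a ∈ A, a ≠ 1 → ¬ 2 ∣ Nat.card (θ a) := fun a _ _ => by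
    show ¬ 2 ∣ Nat.card (centralizerPPrimeCore 2 a)
    rw [centralizerPPrimeCore, Subgroup.card_map_of_injective Subtype.coe_injective]
    exact CfsgLib.PCore.not_dvd_card_pPrimeCore
  have hconj : ∀ a g : Y, ∀ w ∈ θ a, g * w * g⁻¹ ∈ θ (g * a * g⁻¹) := fun a g w hw => by
    show g * w * g⁻¹ ∈ centralizerPPrimeCore 2 (g * a * g⁻¹)
    rw [← CfsgLib.Signalizer63.map_centralizerPPrimeCore_conj (p := 2) a g]
    exact ⟨w, hw, rfl⟩
  have hθinv : ∀ a ∈ A, a ≠ 1 → ∀ b ∈ A, ∀ w ∈ θ a, b * w * b⁻¹ ∈ θ a := by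
    intro a ha _ b hb w hw
    have h := hconj a b w hw
    rwa [show b * a * b⁻¹ = a by rw [hab b hb a ha, mul_inv_cancel_right]] at h
  have hθs : ∀ a ∈ A, a ≠ 1 → Group.IsSolvable (θ a) := fun a ha ha1 =>
    isSolvable_of_odd_card (hθp a ha ha1)
  have hbal : ∀ a ∈ A, a ≠ 1 → ∀ b ∈ A, b ≠ 1 → θ a ⊓ Subgroup.centralizer {b} ≤ θ b := by
    intro a ha ha1 b hb hb1
    haveI := hsol b hb hb1
    set C := Subgroup.centralizer ({b} : Set Y) with hC
    intro w hw
    have hle := le_core_of_invariant (P.subtype (hPle b hb))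
      (fun c hc d hd => Subtype.ext (hab c ((hmemS b hb c).1 hc) d ((hmemS b hb d).1 hd)))
      ((θ a ⊓ C).subgroupOf C) ?_ ?_
    · exact ⟨⟨w, hw.2⟩, hle (show (⟨w, hw.2⟩ : C) ∈ (θ a ⊓ C).subgroupOf C from hw), rfl⟩
    · rw [Nat.card_congr (Subgroup.subgroupOfEquivOfLe inf_le_right).toEquiv]
      exact fun h => hθp a ha ha1 (h.trans (Subgroup.card_dvd_of_le inf_le_left))
    · intro s hs v hv
      exact ⟨hθinv a ha ha1 s ((hmemS b hb s).1 hs) v hv.1, (s * v * s⁻¹ : C).2⟩
  obtain ⟨hWodd, hWC⟩ := Cfsg.Agent.S0217.result A hab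
    (fun a ha => by rw [pow_two]; exact hel a ha) (by norm_num; exact h8) θ hθC hθp hθinv hθs hbal
  set W := ⨆ a : {a : Y // a ∈ A ∧ a ≠ 1}, θ a
  set N := Subgroup.normalizer (A : Set Y) with hN
  have hWmap : ∀ n ∈ N, W.map (MulAut.conj n).toMonoidHom ≤ W := by
    intro n hn
    rw [Subgroup.map_iSup]
    refine iSup_le fun a => ?_
    have h1 : n * a * n⁻¹ ∈ A := (Subgroup.mem_normalizer_iff.1 hn a).1 a.2.1
    have h2 : n * (a : Y) * n⁻¹ ≠ 1 := fun e => a.2.2 (conj_eq_one_iff.1 e)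
    refine le_trans ?_ (le_iSup (fun a : {a : Y // a ∈ A ∧ a ≠ 1} => θ a) ⟨_, h1, h2⟩)
    rintro _ ⟨w, hw, rfl⟩
    exact hconj a n w hw
  have hNW : N ≤ Subgroup.normalizer (W : Set Y) := fun n hn => by
    rw [Subgroup.mem_normalizer_iff]
    refine fun w => ⟨fun hw => hWmap n hn ⟨w, hw, rfl⟩, fun hw => ?_⟩
    have := hWmap n⁻¹ (N.inv_mem hn) ⟨_, hw, rfl⟩
    simpa [mul_assoc] using this
  set M := N ⊔ W with hM
  have hAM : A ≤ M := Subgroup.le_normalizer.trans le_sup_left
  have hcM : ∀ a ∈ A, a ≠ 1 → Subgroup.centralizer ({a} : Set Y) ≤ M := by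
    intro a ha ha1
    haveI := hsol a ha ha1
    set C := Subgroup.centralizer ({a} : Set Y) with hC
    have h := eq_core_sup_normalizer (P.subtype (hPle a ha))
      (fun c hc d hd => Subtype.ext (hab c ((hmemS a ha c).1 hc) d ((hmemS a ha d).1 hd)))
    rw [← Subgroup.range_subtype C, MonoidHom.range_eq_map, ← h, Subgroup.map_sup]
    refine sup_le ?_ ?_
    · exact le_trans (le_trans (le_iSup (fun b : {b : Y // b ∈ A ∧ b ≠ 1} => θ b) ⟨a, ha, ha1⟩)
        le_rfl) le_sup_right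
    · refine le_trans ?_ le_sup_left
      rintro _ ⟨c, hc, rfl⟩
      rw [hN, Subgroup.mem_normalizer_iff]
      intro v
      constructor
      · intro hv
        exact (hmemS a ha _).1 ((Subgroup.mem_normalizer_iff.1 hc ⟨v, hPle a ha hv⟩).1
          ((hmemS a ha _).2 hv))
      · intro hv
        have hv' : v ∈ C := by
          simpa [mul_assoc] using C.mul_mem (C.mul_mem (C.inv_mem c.2) (hPle a ha hv)) c.2
        exact (hmemS a ha _).1 ((Subgroup.mem_normalizer_iff.1 hc ⟨v, hv'⟩).2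
          ((hmemS a ha _).2 hv))
  have hMsol : Group.IsSolvable M := by
    haveI hWsol : Group.IsSolvable W := isSolvable_of_odd_card hWodd
    set W' := W.subgroupOf M
    haveI : W'.Normal := (Subgroup.normal_subgroupOf_iff_le_normalizer le_sup_right).2
      (sup_le hNW Subgroup.le_normalizer)
    refine isSolvable_of_normal W' ?_ ?_
    · exact Group.isSolvable_of_surjective
        (f := (Subgroup.subgroupOfEquivOfLe (le_sup_right : W ≤ M)).symm.toMonoidHom)
        (MulEquiv.surjective _)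
    · haveI : Group.IsSolvable N := by
        set A' := A.subgroupOf N
        haveI : A'.Normal := Subgroup.normal_in_normalizer
        refine isSolvable_of_normal A' ?_ ?_
        · exact Group.isSolvable_of_comm fun c d =>
            Subtype.ext (Subtype.ext (hab _ c.2 _ d.2))
        · refine isSolvable_of_odd_card fun h => P.not_dvd_index ?_
          exact dvd_trans h (Subgroup.relIndex_dvd_index_of_le Subgroup.le_normalizer)
      refine Group.isSolvable_of_surjective (f := (QuotientGroup.mk' W').comp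
        (Subgroup.inclusion (le_sup_left : N ≤ M))) fun q => ?_
      obtain ⟨⟨m, hm⟩, rfl⟩ := QuotientGroup.mk'_surjective W' q
      have hm' : m ∈ ((N : Set Y) * (W : Set Y)) := by
        rw [← Subgroup.coe_mul_of_left_le_normalizer_right N W hNW]; exact hm
      obtain ⟨n, hn, w, hw, rfl⟩ := Set.mem_mul.1 hm'
      refine ⟨⟨n, hn⟩, ?_⟩
      rw [MonoidHom.comp_apply, QuotientGroup.mk'_apply, QuotientGroup.mk'_apply,
        QuotientGroup.eq, Subgroup.mem_subgroupOf]
      simpa using hw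
  by_cases hMtop : M = ⊤
  · left
    exact Group.isSolvable_of_surjective
      (f := ((MulEquiv.subgroupCongr hMtop).trans Subgroup.topEquiv).toMonoidHom)
      (MulEquiv.surjective _)
  right
  have hA2 : 2 ∣ Nat.card A := by
    obtain ⟨n, hn⟩ := P.2.exists_card_eq
    rw [hA, hn]
    refine dvd_pow_self 2 fun e => ?_
    rw [e, pow_zero, ← hA] at hn
    omega
  have heven : Even (Nat.card M) := even_iff_two_dvd.2 (hA2.trans (Subgroup.card_dvd_of_le hAM))
  haveI := Fintype.ofFinite Y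
  haveI := Fintype.ofFinite M
  have hintoA : ∀ t ∈ M, orderOf t = 2 → ∃ m ∈ M, m * t * m⁻¹ ∈ A ∧ m * t * m⁻¹ ≠ 1 := by
    intro t ht hto
    obtain ⟨d, hd⟩ := CfsgLib.AbelTwo.exists_conj_mem (P.subtype hAM) (u := (⟨t, ht⟩ : M))
      ⟨1, by rw [← Subgroup.orderOf_coe, pow_one]; exact hto⟩
    rw [P.coe_subtype hAM, Subgroup.mem_subgroupOf] at hd
    refine ⟨d, d.2, hd, fun e => ?_⟩
    rw [conj_eq_one_iff.1 e, orderOf_one] at hto
    omega
  have hse : Cfsg.IsStronglyEmbedded M := by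
    refine (Cfsg.Agent.S0223.result M hMtop heven).2 ⟨fun t ht hto => ?_, ?_⟩
    · obtain ⟨m, hm, hmA, hm1⟩ := hintoA t ht hto
      intro c hc
      have h1 : m * c * m⁻¹ ∈ M := hcM _ hmA hm1 (Subgroup.mem_centralizer_singleton_iff.2 (by
        rw [show m * c * m⁻¹ * (m * t * m⁻¹) = m * (c * t) * m⁻¹ by group,
          Subgroup.mem_centralizer_singleton_iff.1 hc]
        group))
      simpa [mul_assoc] using M.mul_mem (M.mul_mem (M.inv_mem hm) h1) hm
    · intro t ht s hs hto hso hts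
      obtain ⟨m, hm, hmA, -⟩ := hintoA t ht hto
      obtain ⟨m', hm', hmA', -⟩ := hintoA s hs hso
      obtain ⟨g, hg⟩ := isConj_iff.1 hts
      have hg' : m' * g * m⁻¹ * (m * t * m⁻¹) * (m' * g * m⁻¹)⁻¹ = m' * s * m'⁻¹ := by
        rw [← hg]; group
      obtain ⟨n, hn, hne⟩ := CfsgLib.AbelTwo.fusion P hab hmA (g := m' * g * m⁻¹) (hg'.symm ▸ hmA')
      refine ⟨m'⁻¹ * n * m, M.mul_mem (M.mul_mem (M.inv_mem hm')
        ((le_sup_left : N ≤ M) hn)) hm, ?_⟩
      rw [hg'] at hne
      calc m'⁻¹ * n * m * t * (m'⁻¹ * n * m)⁻¹ = m'⁻¹ * (n * (m * t * m⁻¹) * n⁻¹) * m' := by group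
        _ = s := by rw [hne]; group
  exact fun s t hs ht => CfsgLib.StrongEmbedding.isConj_involutions hse hs ht

end CfsgLib.ConstDiff
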