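import Cfsg.Agent.Lib.ConstDiff.Elem
import Cfsg.Agent.Lib.Blocks.SingleBlock
import Cfsg.Agent.Lib.Characters.Induction
import Cfsg.Agent.Lib.Coprime.SchurZassenhaus
import Cfsg.Agent.Lib.InvChar.SolvableTwo
import Cfsg.Agent.Lib.GLCusp.Sums
import Cfsg.Agent.S4736

/-!
# A solvable centraliser of an involution is 2-nilpotent

Otherwise a linear character of the centraliser gives a local vector of wrong parity.
-/

set_option autoImplicit false
set_option linter.unusedSectionVars false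
set_option linter.style.haveILetI false

noncomputable section

namespace CfsgLib.ConstDiff

open Cfsg CfsgLib.Characters CfsgLib.Blocks CfsgLib.Induction
open scoped ComplexConjugate Classical

universe u

/-- Every element of odd order lies in the odd core. -/
def TwoNilp (C : Type*) [Group C] : Prop :=
  ∀ c : C, ¬ 2 ∣ orderOf c → c ∈ pPrimeCore 2 C

section Ind

variable {C : Type u} [Group C] [Fintype C] {z : C} {ε : C →* ℂˣ}

/-- Inducing from the kernel of a sign doubles a class function invariant under `z`. -/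
theorem indFun_ker_apply (hz : z ∈ Subgroup.center C) (hεz : ε z = -1)
    (hεv : ∀ c, ε c = 1 ∨ ε c = -1) {θ : ε.ker → ℂ} (hθ : IsClassFunction ε.ker θ) (n : ε.ker) :
    indFun ε.ker θ (n : C) = 2 * θ n := by
  rw [indFun_normal_apply, sum_sign hεz hεv]
  have key : ∀ c : ε.ker,
      θ ⟨(c : C) * n * (c : C)⁻¹, ε.normal_ker.conj_mem _ n.2 _⟩ +
        θ ⟨z * (c : C) * n * (z * (c : C))⁻¹, ε.normal_ker.conj_mem _ n.2 _⟩ = 2 * θ n := by
    intro c
    have h1 : θ ⟨(c : C) * n * (c : C)⁻¹, ε.normal_ker.conj_mem _ n.2 _⟩ = θ n := by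
      rw [show (⟨(c : C) * n * (c : C)⁻¹, ε.normal_ker.conj_mem _ n.2 _⟩ : ε.ker) = c * n * c⁻¹ from
        Subtype.ext rfl]
      exact hθ n c
    have h2 : z * (c : C) * n * (z * (c : C))⁻¹ = (c : C) * n * (c : C)⁻¹ := by
      have := Subgroup.mem_center_iff.1 hz ((c : C) * n * (c : C)⁻¹)
      calc z * (c : C) * n * (z * (c : C))⁻¹ = z * ((c : C) * n * (c : C)⁻¹) * z⁻¹ := by group
        _ = _ := by rw [← this, mul_inv_cancel_right]
    rw [show (⟨z * (c : C) * n * (z * (c : C))⁻¹, ε.normal_ker.conj_mem _ n.2 _⟩ : ε.ker) =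
      ⟨(c : C) * n * (c : C)⁻¹, ε.normal_ker.conj_mem _ n.2 _⟩ from Subtype.ext h2, h1, two_mul]
  rw [Finset.sum_congr rfl fun c _ => key c, Finset.sum_const, Finset.card_univ, nsmul_eq_mul,
    ← Nat.card_eq_fintype_card, ← mul_assoc, inv_mul_cancel₀ (Nat.cast_ne_zero.2 Nat.card_pos.ne'),
    one_mul]

theorem classInner_indFun_self (hz : z ∈ Subgroup.center C) (hεz : ε z = -1)
    (hεv : ∀ c, ε c = 1 ∨ ε c = -1) {θ : ε.ker → ℂ} (hθ : IsClassFunction ε.ker θ) :
    classInner (indFun ε.ker θ) (indFun ε.ker θ) = 2 * classInner θ θ := by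
  rw [classInner_indFun _ _ (isClassFunction_indFun _ θ)]
  simp only [classInner, indFun_ker_apply hz hεz hεv hθ, map_mul, map_ofNat, Finset.mul_sum]
  exact Finset.sum_congr rfl fun c _ => by ring

end Ind

variable {G : Type u} [Group G] [Fintype G] [hp2 : Fact (Nat.Prime 2)] {M : Ideal AlgInt}
  {u : G} {k : ℂ} {T : Sylow 2 G} {x : G}

/-- The Sylow subgroup as one of the centraliser. -/
theorem Main.sylow_le (m : Main M u k T x) :
    (T : Subgroup G) ≤ Subgroup.centralizer ({x} : Set G) :=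
  fun t ht => Subgroup.mem_centralizer_singleton_iff.2 (m.ab t ht x m.xT)

theorem Main.exists_y (m : Main M u k T x) :
    ∃ y : Subgroup.centralizer ({x} : Set G), ¬ 2 ∣ orderOf y ∧ x * (y : G) = u := by
  obtain ⟨y, hy, hc, -, hreg⟩ := m.part
  exact ⟨⟨y, Subgroup.mem_centralizer_singleton_iff.2 hc.eq.symm⟩,
    by rwa [← Subgroup.orderOf_coe], hy⟩

/-- A solvable centraliser is 2-nilpotent. -/
theorem Main.two_nilpotent (m : Main M u k T x)
    (hsol : Group.IsSolvable (Subgroup.centralizer ({x} : Set G))) :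
    TwoNilp (Subgroup.centralizer ({x} : Set G)) := by
  set C := Subgroup.centralizer ({x} : Set G) with hC
  haveI := hsol
  let S : Sylow 2 C := T.subtype m.sylow_le
  have hSmem : ∀ c : C, c ∈ (S : Subgroup C) ↔ (c : G) ∈ (T : Subgroup G) := fun c => by
    rw [show (S : Subgroup C) = (T : Subgroup G).subgroupOf C from T.coe_subtype m.sylow_le]
    rfl
  haveI : (pPrimeCore 2 C).Normal := pPrimeCore_normal 2 C
  set O := pPrimeCore 2 C with hO
  have hcoreQ : pPrimeCore 2 (C ⧸ O) = ⊥ := CfsgLib.PCore.pPrimeCore_quotient_pPrimeCore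
  haveI : Group.IsSolvable (C ⧸ O) :=
    Group.isSolvable_of_surjective (QuotientGroup.mk'_surjective O)
  have hcent := CfsgLib.InvChar.centralizer_pCore_le (G := C ⧸ O) (p := 2) hcoreQ
  let SQ : Sylow 2 (C ⧸ O) := S.mapSurjective (QuotientGroup.mk'_surjective O)
  have hSQ : (SQ : Subgroup (C ⧸ O)) = (S : Subgroup C).map (QuotientGroup.mk' O) :=
    Sylow.coe_mapSurjective ..
  have hSQab : ∀ a ∈ (SQ : Subgroup (C ⧸ O)), ∀ b ∈ (SQ : Subgroup (C ⧸ O)), a * b = b * a := by
    rw [hSQ]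
    rintro _ ⟨a, ha, rfl⟩ _ ⟨b, hb, rfl⟩
    rw [← map_mul, ← map_mul]
    congr 1
    exact Subtype.ext (m.ab a ((hSmem a).1 ha) b ((hSmem b).1 hb))
  have hSQeq : (SQ : Subgroup (C ⧸ O)) = pCore 2 (C ⧸ O) := by
    refine le_antisymm (fun a ha => hcent ?_) (CfsgLib.PCore.pCore_le_sylow SQ)
    exact Subgroup.mem_centralizer_iff.2 fun b hb =>
      hSQab b (CfsgLib.PCore.pCore_le_sylow SQ hb) a ha
  haveI hSQn : (SQ : Subgroup (C ⧸ O)).Normal := by
    rw [hSQeq]; infer_instance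
  by_cases htop : (SQ : Subgroup (C ⧸ O)) = ⊤
  · intro c hc
    rw [← hO, ← QuotientGroup.eq_one_iff (N := O)]
    obtain ⟨j, hj⟩ := (IsPGroup.iff_orderOf.1 SQ.2) ⟨(c : C ⧸ O), htop ▸ Subgroup.mem_top _⟩
    rw [← Subgroup.orderOf_coe] at hj
    have hd : orderOf ((c : C) : C ⧸ O) ∣ orderOf c := orderOf_map_dvd (QuotientGroup.mk' O) c
    refine orderOf_eq_one_iff.1 (Nat.Coprime.eq_one_of_dvd ?_ hd)
    rw [show orderOf ((c : C) : C ⧸ O) = 2 ^ j from hj]
    exact Nat.Coprime.pow_left j ((Nat.prime_two.coprime_iff_not_dvd).2 hc)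
  exfalso
  have hxC : x ∈ C := Subgroup.mem_centralizer_singleton_iff.2 rfl
  set z : C := ⟨x, hxC⟩ with hz'
  have hz : z ∈ Subgroup.center C := mem_center_x
  have hzo : orderOf z = 2 := by rw [← Subgroup.orderOf_coe]; exact m.xo
  have hz2 : z * z = 1 := Subtype.ext (m.el x m.xT)
  obtain ⟨ε, hεz, hεv⟩ := exists_sign S
    (fun a ha b hb => Subtype.ext (m.ab a ((hSmem a).1 ha) b ((hSmem b).1 hb)))
    (fun t ht => Subtype.ext (m.el t ((hSmem t).1 ht))) hz hzo
  obtain ⟨y, hy, hxy⟩ := m.exists_y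
  -- a nontrivial linear character of the quotient
  obtain ⟨f, hfS, hfne⟩ : ∃ f : (C ⧸ O) →* ℂˣ, (SQ : Subgroup (C ⧸ O)) ≤ f.ker ∧ f ≠ 1 := by
    set R := (C ⧸ O) ⧸ (SQ : Subgroup (C ⧸ O))
    haveI : Nontrivial R := QuotientGroup.nontrivial_iff.2 htop
    haveI : Group.IsSolvable R :=
      Group.isSolvable_of_surjective (QuotientGroup.mk'_surjective (SQ : Subgroup (C ⧸ O)))
    have hlt := Group.IsSolvable.commutator_lt_top_of_nontrivial R
    obtain ⟨r, hr⟩ : ∃ r : R, r ∉ commutator R := by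
      by_contra hall
      push Not at hall
      exact hlt.ne ((Subgroup.eq_top_iff' _).2 hall)
    have hr' : (Abelianization.of r) ≠ 1 := fun e => hr ((QuotientGroup.eq_one_iff r).1 e)
    obtain ⟨φ, hφ⟩ := CommGroup.exists_apply_ne_one_of_hasEnoughRootsOfUnity
      (Abelianization R) ℂ hr'
    refine ⟨(φ.comp Abelianization.of).comp (QuotientGroup.mk' (SQ : Subgroup (C ⧸ O))),
      fun s hs => ?_, fun e => hφ ?_⟩
    · rw [MonoidHom.mem_ker, MonoidHom.comp_apply, QuotientGroup.mk'_apply,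
        (QuotientGroup.eq_one_iff s).2 hs, map_one]
    · obtain ⟨q, rfl⟩ := QuotientGroup.mk'_surjective (SQ : Subgroup (C ⧸ O)) r
      exact DFunLike.congr_fun e q
  -- an odd complement through the image of `y`
  obtain ⟨n, hn⟩ := SQ.2.exists_card_eq
  have hidxodd : ¬ 2 ∣ (SQ : Subgroup (C ⧸ O)).index := SQ.not_dvd_index
  have hcop : (Nat.card (SQ : Subgroup (C ⧸ O))).Coprime (SQ : Subgroup (C ⧸ O)).index := by
    rw [hn]; exact Nat.Coprime.pow_left n ((Nat.prime_two.coprime_iff_not_dvd).2 hidxodd)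
  obtain ⟨K, hK⟩ := Subgroup.exists_right_complement'_of_coprime hcop
  have hKcard : Nat.card K = (SQ : Subgroup (C ⧸ O)).index := hK.symm.index_eq_card.symm
  have hyord : ¬ 2 ∣ orderOf ((y : C) : C ⧸ O) := fun hd =>
    hy (hd.trans (orderOf_map_dvd (QuotientGroup.mk' O) y))
  haveI : IsMulCommutative (SQ : Subgroup (C ⧸ O)) :=
    ⟨⟨fun a b => Subtype.ext (hSQab a a.2 b b.2)⟩⟩
  obtain ⟨w, -, hw⟩ := CfsgLib.Coprime.exists_conj_le_complement (SQ : Subgroup (C ⧸ O)) hcop K
    hKcard (Subgroup.zpowers ((y : C) : C ⧸ O))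
    (by rw [hn, Nat.card_zpowers]
        exact Nat.Coprime.pow_left n ((Nat.prime_two.coprime_iff_not_dvd).2 hyord))
    (Or.inl inferInstance)
  set K' := K.map (MulAut.conj w⁻¹).toMonoidHom with hK'
  have hyK' : ((y : C) : C ⧸ O) ∈ K' := by
    refine ⟨w * ((y : C) : C ⧸ O) * w⁻¹, ?_, by simp [mul_assoc]⟩
    have := hw (Subgroup.smul_mem_pointwise_smul _ _ _
      (Subgroup.mem_zpowers ((y : C) : C ⧸ O)))
    simpa using this
  have hK'card : Nat.card K' = (SQ : Subgroup (C ⧸ O)).index := by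
    rw [hK', Subgroup.card_map_of_injective (MulAut.conj w⁻¹).injective, hKcard]
  set H := K'.comap (QuotientGroup.mk' O) with hH
  have hHcard : Nat.card H = Nat.card O * Nat.card K' := CfsgLib.PCore.card_comap_mk' O K'
  have hHodd : ∀ c ∈ H, ¬ 2 ∣ orderOf c := fun c hc hd => by
    have h1 := hd.trans (Subgroup.orderOf_dvd_natCard H hc)
    rw [hHcard, hK'card] at h1
    rcases (Nat.prime_two.dvd_mul).1 h1 with h2 | h2
    · exact CfsgLib.PCore.not_dvd_card_pPrimeCore h2
    · exact hidxodd h2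
  have hOH : O ≤ H := fun o ho => by
    rw [hH, Subgroup.mem_comap, QuotientGroup.mk'_apply, (QuotientGroup.eq_one_iff o).2 ho]
    exact K'.one_mem
  have hHker : H ≤ ε.ker := fun c hc => sign_odd hεv (hHodd c hc)
  have hyH : y ∈ H := by rw [hH, Subgroup.mem_comap]; exact hyK'
  -- `f` is nontrivial on the complement
  obtain ⟨h0, hh0, hfh0⟩ : ∃ h0 ∈ H, f ((h0 : C) : C ⧸ O) ≠ 1 := by
    by_contra hall
    push Not at hall
    have hKf : K' ≤ f.ker := fun v hv => by
      obtain ⟨c, rfl⟩ := QuotientGroup.mk'_surjective O v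
      exact hall c hv
    refine hfne (MonoidHom.ker_eq_top_iff.1 (Subgroup.eq_top_of_card_eq _ ?_))
    refine Nat.dvd_antisymm (Subgroup.card_subgroup_dvd_card _) ?_
    rw [← (SQ : Subgroup (C ⧸ O)).card_mul_index]
    refine Nat.Coprime.mul_dvd_of_dvd_of_dvd hcop (Subgroup.card_dvd_of_le hfS) ?_
    rw [← hK'card]
    exact Subgroup.card_dvd_of_le hKf
  set H' := H.subgroupOf ε.ker with hH'
  set ψ : H' → ℂ := fun h => (f (((h : ε.ker) : C) : C ⧸ O) : ℂ) with hψ
  let ψ' : H' →* ℂ :=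
    { toFun := ψ
      map_one' := by simp [ψ]
      map_mul' := fun a b => by simp [ψ] }
  have hψc : IsCharacter H' ψ := isCharacter_monoidHom ψ'
  have hψcl : IsClassFunction H' ψ := CfsgLib.Characters.isClassFunction_of_isCharacter hψc
  set Θ₀ := indFun H' ψ with hΘ₀
  have hΘ₀c : IsCharacter ε.ker Θ₀ := isCharacter_indFun H' hψc
  set Θ := indFun ε.ker Θ₀ with hΘ
  have hΘc : IsCharacter C Θ := isCharacter_indFun _ hΘ₀c
  have hΘres : ∀ c : ε.ker, Θ c = 2 * Θ₀ c :=
    indFun_ker_apply hz hεz hεv (isClassFunction_indFun _ _)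
  have hsupp : ∀ c : C, 2 ∣ orderOf c → Θ c = 0 := by
    intro c hc
    by_cases hcK : c ∈ ε.ker
    · have := hΘres ⟨c, hcK⟩
      rw [show Θ c = Θ ((⟨c, hcK⟩ : ε.ker) : C) from rfl, this, hΘ₀, indFun_eq_zero_of_forall,
        mul_zero]
      intro v hv
      refine hHodd _ hv ?_
      simp only [Subgroup.coe_mul, Subgroup.coe_inv, Subgroup.coe_subtype]
      rw [show orderOf ((v : C)⁻¹ * c * (v : C)) = orderOf c by
        simpa using MulEquiv.orderOf_eq (MulAut.conj (v : C)⁻¹) c]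
      exact hc
    · exact indFun_normal_eq_zero _ hcK
  have hblk : ∀ ξ : IrrCharacter C, ξ ∉ principalBlock M C → classInner Θ (ξ : C → ℂ) = 0 := by
    intro ξ hξ
    have hker : ¬ O ≤ CfsgLib.Chars17.irrKer ξ := fun hle => by
      obtain ⟨φ, hφ⟩ := Cfsg.Agent.S4736.exists_deflation O ξ fun o ho =>
        (CfsgLib.Chars17.mem_irrKer ..).1 (hle ho)
      refine hξ (Cfsg.Agent.S4736.inflation_mem m.hyp.hM O φ ?_ ξ hφ)
      rw [CfsgLib.SingleBlock.principalBlock_eq_univ m.hyp.hM (pCore 2 (C ⧸ O))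
        CfsgLib.PCore.pCore_isPGroup hcent]
      trivial
    rw [hΘ, classInner_indFun _ _ (irr_isClassFunction ξ), hΘ₀,
      classInner_indFun _ _ (ψ := fun h : ε.ker => (ξ : C → ℂ) h)
        (fun a b => irr_isClassFunction ξ (a : C) (b : C)), classInner]
    refine mul_eq_zero_of_right _ ?_
    have hsum : ∑ h : H', ∑ o : O,
        ψ h * conj ((ξ : C → ℂ) (((h : ε.ker) : C) * (o : C))) = 0 := by
      refine Finset.sum_eq_zero fun h _ => ?_
      rw [← Finset.mul_sum, ← map_sum, CfsgLib.Chars17.sum_coset_eq_zero hker, map_zero, mul_zero]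
    rw [Finset.sum_comm, Finset.sum_congr rfl (g := fun _ => ∑ h : H',
      ψ h * conj ((ξ : C → ℂ) ((h : ε.ker) : C))), Finset.sum_const, Finset.card_univ,
      nsmul_eq_mul] at hsum
    · exact (mul_eq_zero.1 hsum).resolve_left (Nat.cast_ne_zero.2 Fintype.card_ne_zero)
    intro o _
    refine Fintype.sum_equiv (Equiv.mulRight
      (⟨⟨(o : C), hHker (hOH o.2)⟩, hOH o.2⟩ : H')) _ _ fun h => ?_
    simp only [hψ, Equiv.coe_mulRight, Subgroup.coe_mul, QuotientGroup.mk_mul,
      (QuotientGroup.eq_one_iff (o : C)).2 o.2, mul_one]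
  obtain ⟨D, hD, hzero, hsq, hsum⟩ := exists_local m.hyp m.xo hy hxy
    (isGeneralizedCharacter_of_isCharacter hΘc) hsupp hblk
  -- the principal entry vanishes
  have hD0 : D (principalIrr G) = 0 := by
    have h1 := hD (principalIrr G)
    have h2 : sectionFun x (principalIrr G : G → ℂ) = fun _ : C => (1 : ℂ) :=
      funext fun c => principalIrr_apply _
    rw [h2, hΘ, classInner_indFun_right _ _ (fun _ _ => rfl), hΘ₀,
      classInner_indFun_right _ _ (fun _ _ => rfl), classInner] at h1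
    have hh0' : (⟨h0, hHker hh0⟩ : ε.ker) ∈ H' := hh0
    have h3 : ∑ h : H', conj (ψ h) = 0 := by
      refine CfsgLib.GLCusp.eq_zero_of_eq_mul (c := conj (ψ ⟨_, hh0'⟩)) ?_ ?_
      · intro e
        refine hfh0 (Units.ext ?_)
        have := congrArg conj e
        simpa [hψ] using this
      · rw [Finset.mul_sum]
        exact (Fintype.sum_equiv (Equiv.mulLeft (⟨_, hh0'⟩ : H')) _ _ fun h => by
          rw [← map_mul]; exact (congrArg conj (ψ'.map_mul ⟨_, hh0'⟩ h)).symm).symm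
    simp only [one_mul] at h1
    have h4 : ((D (principalIrr G) : ℤ) : ℂ) = 0 := by
      rw [h1]
      refine mul_eq_zero_of_right _ ?_
      convert h3
    exact_mod_cast h4
  -- parity
  obtain ⟨i, hi⟩ := classInner_char_nat hΘ₀c hΘ₀c
  rw [hΘ, classInner_indFun_self hz hεz hεv (isClassFunction_indFun _ _), hi] at hsq
  have hsq' : ∑ χ, D χ * D χ = 2 * (i : ℤ) := by exact_mod_cast hsq
  set s : ℤ := ∑ χ ∈ rest (G := G) M, D χ with hs
  have heven : (2 : ℤ) ∣ s := by
    have h1 : ∑ χ, D χ * D χ = ∑ χ ∈ rest (G := G) M, D χ * D χ := by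
      refine (Finset.sum_subset (Finset.subset_univ _) fun χ _ hχ => ?_).symm
      by_cases hp : χ = principalIrr G
      · rw [hp, hD0, mul_zero]
      · rw [hzero χ fun hb => hχ (mem_rest.2 ⟨hp, hb⟩), mul_zero]
    have h2 : (2 : ℤ) ∣ ∑ χ ∈ rest (G := G) M, (D χ * D χ - D χ) :=
      Finset.dvd_sum fun χ _ => by
        rw [show D χ * D χ - D χ = D χ * (D χ - 1) by ring]
        exact (Int.even_mul_pred_self (D χ)).two_dvd
    rw [Finset.sum_sub_distrib, ← h1, hsq'] at h2
    have := (dvd_sub_right (dvd_mul_right (2 : ℤ) (i : ℤ))).1 h2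
    exact this
  -- the value at `y`
  have hy' : y ∈ ε.ker := sign_odd hεv hy
  set N : ℕ := (Finset.univ.filter fun q : ε.ker ⧸ H' =>
    q.out⁻¹ * (⟨y, hy'⟩ : ε.ker) * q.out ∈ H').card with hN
  have hval : Θ₀ ⟨y, hy'⟩ = (N : ℂ) * (f ((y : C) : C ⧸ O) : ℂ) := by
    rw [hΘ₀, indFun_eq_sum_quotient _ hψcl, hN, Finset.card_filter]
    push_cast
    rw [Finset.sum_mul]
    refine Finset.sum_congr rfl fun q _ => ?_
    by_cases hq : q.out⁻¹ * (⟨y, hy'⟩ : ε.ker) * q.out ∈ H'
    · rw [extendByZero_mem _ _ hq, if_pos hq, one_mul, hψ]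
      simp only [Subgroup.coe_mul, Subgroup.coe_inv, QuotientGroup.mk_mul, QuotientGroup.mk_inv,
        map_mul, map_inv]
      rw [mul_right_comm, inv_mul_cancel, one_mul]
    · rw [extendByZero_notMem _ _ hq, if_neg hq, zero_mul]
  have hN1 : 1 ≤ N := by
    rw [hN, Nat.one_le_iff_ne_zero, Finset.card_ne_zero]
    obtain ⟨a, ha⟩ := QuotientGroup.mk_out_eq_mul H' (1 : ε.ker)
    refine ⟨((1 : ε.ker) : ε.ker ⧸ H'), Finset.mem_filter.2 ⟨Finset.mem_univ _, ?_⟩⟩
    rw [ha, one_mul]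
    exact H'.mul_mem (H'.mul_mem (H'.inv_mem a.2) hyH) a.2
  have hNq : 2 * N ≤ Nat.card (T : Subgroup G) := by
    have h1 : N ≤ Nat.card (ε.ker ⧸ H') := by
      rw [hN, Nat.card_eq_fintype_card]; exact Finset.card_le_univ _
    have h2 : Nat.card (S : Subgroup C) = Nat.card (T : Subgroup G) := by
      rw [show (S : Subgroup C) = (T : Subgroup G).subgroupOf C from T.coe_subtype m.sylow_le]
      exact Nat.card_congr (Subgroup.subgroupOfEquivOfLe m.sylow_le).toEquiv
    have h3 : Nat.card (SQ : Subgroup (C ⧸ O)) = Nat.card (S : Subgroup C) := by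
      obtain ⟨b, hb⟩ := S.2.exists_card_eq
      have e1 := (S : Subgroup C).card_map_dvd (QuotientGroup.mk' O)
      rw [← hSQ] at e1
      refine Nat.dvd_antisymm e1 ?_
      have e2 : Nat.card (S : Subgroup C) ∣ Nat.card O * Nat.card (C ⧸ O) := by
        rw [mul_comm, ← Subgroup.card_eq_card_quotient_mul_card_subgroup]
        exact Subgroup.card_subgroup_dvd_card _
      rw [← (SQ : Subgroup (C ⧸ O)).card_mul_index, mul_left_comm, hb] at e2
      rw [hb]
      exact (Nat.Coprime.pow_left b ((Nat.prime_two.coprime_iff_not_dvd).2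
        (fun hd => (Nat.prime_two.dvd_mul.1 hd).elim CfsgLib.PCore.not_dvd_card_pPrimeCore
          hidxodd))).dvd_of_dvd_mul_right e2
    have h4 : Nat.card H' = Nat.card H :=
      Nat.card_congr (Subgroup.subgroupOfEquivOfLe hHker).toEquiv
    have h5 := card_sign hεz hεv (C := C)
    rw [Subgroup.card_eq_card_quotient_mul_card_subgroup H', h4, hHcard, hK'card,
      Subgroup.card_eq_card_quotient_mul_card_subgroup O,
      ← (SQ : Subgroup (C ⧸ O)).card_mul_index, h3, h2] at h5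
    have hpos : 0 < Nat.card O * (SQ : Subgroup (C ⧸ O)).index :=
      Nat.mul_pos Nat.card_pos (Nat.pos_of_ne_zero Subgroup.index_ne_zero_of_finite)
    have h6 : Nat.card (T : Subgroup G) * (Nat.card O * (SQ : Subgroup (C ⧸ O)).index) =
        2 * Nat.card (ε.ker ⧸ H') * (Nat.card O * (SQ : Subgroup (C ⧸ O)).index) := by
      linear_combination h5
    rw [Nat.eq_of_mul_eq_mul_right hpos h6]
    omega
  have hfin : (Nat.card (T : Subgroup G) : ℝ) * |(s : ℝ)| = 2 * (N : ℝ) := by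
    rw [m.kq, show Θ y = 2 * Θ₀ ⟨y, hy'⟩ from hΘres ⟨y, hy'⟩, hval] at hsum
    have h1 := congrArg (fun v : ℂ => ‖v‖) hsum
    have h2 : ‖(f ((y : C) : C ⧸ O) : ℂ)‖ = 1 :=
      Complex.norm_eq_one_of_pow_eq_one (n := orderOf ((y : C) : C ⧸ O))
        (by rw [← Units.val_pow_eq_pow_val, ← map_pow, pow_orderOf_eq_one, map_one, Units.val_one])
        (orderOf_pos _).ne'
    simp only [norm_mul, norm_neg, Complex.norm_natCast, Complex.norm_intCast, RCLike.norm_conj,
      Complex.norm_ofNat, h2, mul_one] at h1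
    exact h1
  obtain ⟨j, hj⟩ := heven
  have h1 : (Nat.card (T : Subgroup G) : ℝ) * |(s : ℝ)| ≤ (Nat.card (T : Subgroup G) : ℝ) := by
    rw [hfin]; exact_mod_cast hNq
  have hq0 : (0 : ℝ) < (Nat.card (T : Subgroup G) : ℝ) := by exact_mod_cast Nat.card_pos
  have h3 : |s| ≤ 1 := by exact_mod_cast (mul_le_iff_le_one_right hq0).1 h1
  have h4 : s ≠ 0 := fun e => by
    rw [e] at hfin
    simp at hfin
    omega
  rw [abs_le] at h3
  omega

end CfsgLib.ConstDiff
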